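import Groth.Agent.ArtFunLib.Versal
import Mathlib.LinearAlgebra.Basis.VectorSpace
import Mathlib.LinearAlgebra.FiniteDimensional.Basic

/-!
Cutting a versal family down to a hull, and pro-representability criteria.
-/

universe u v

open CategoryTheory

namespace Groth.Agent.ArtFunLib

open ArtFun ArtFun.Art IsLocalRing

variable {Λ k : Type u} [CommRing Λ] [Field k] [Algebra Λ k]

variable {F : Art Λ k ⥤ Type v}

/-- No nonzero derivation of `k` gives the zero tangent vector. -/
def SeesDerivations (F : Art Λ k ⥤ Type v) : Prop :=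
  ∀ (x₀ : F.obj (base Λ k)) (σ : base Λ k ⟶ dual Λ k),
    F.map σ x₀ = F.map baseToDual x₀ → σ = baseToDual

theorem eq_baseToDual_of_subsingleton_derivation (hk : Subsingleton (Derivation Λ k k))
    (σ : base Λ k ⟶ dual Λ k) : σ = baseToDual := by
  let f : k →ₐ[Λ] DualNumber k := σ.toAlgHom
  have hf : ∀ c, TrivSqZeroExt.fst (f c) = c := fun c => res_app σ c
  let D : Derivation Λ k k := Derivation.mk'
    { toFun := fun c => TrivSqZeroExt.snd (f c)
      map_add' := fun x y => by rw [map_add, TrivSqZeroExt.snd_add]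
      map_smul' := fun r x => by rw [map_smul, RingHom.id_apply, TrivSqZeroExt.snd_smul] }
    (fun x y => by
      change TrivSqZeroExt.snd (f (x * y)) = x • TrivSqZeroExt.snd (f y) + y • TrivSqZeroExt.snd (f x)
      rw [map_mul, DualNumber.snd_mul, hf, hf, smul_eq_mul, smul_eq_mul]
      ring)
  have h0 : D = 0 := @Subsingleton.elim _ hk _ _
  exact dual_hom_ext fun c => DFunLike.congr_fun h0 c

theorem seesDerivations_of_subsingleton (hk : Subsingleton (Derivation Λ k k)) :
    SeesDerivations F :=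
  fun _ σ _ => eq_baseToDual_of_subsingleton_derivation hk σ

theorem eq_baseToDual_of_surjective (hΛ : Function.Surjective (algebraMap Λ k))
    (σ : base Λ k ⟶ dual Λ k) : σ = baseToDual := by
  refine hom_ext (AlgHom.ext fun c => ?_)
  obtain ⟨r, rfl⟩ := hΛ c
  exact (σ.toAlgHom.commutes r).trans ((baseToDual : base Λ k ⟶ dual Λ k).toAlgHom.commutes r).symm

theorem seesDerivations_of_surjective (hΛ : Function.Surjective (algebraMap Λ k)) :
    SeesDerivations F :=
  fun _ σ _ => eq_baseToDual_of_surjective hΛ σ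

variable [IsNoetherianRing Λ] [Module.Finite Λ k]

theorem hasHull_of_versal [TangentStr F] (h0 : H0 F) (h2 : Heps F) (V : VersalPair F)
    (hc : SeesDerivations F) : HasHull F := by
  classical
  obtain ⟨R, ξ, hξ⟩ := V
  haveI := h0.2
  obtain ⟨x₀⟩ := h0.1
  haveI : Subsingleton ((hR R.carrier R.res).obj (base Λ k)) := (h0_hR _ _).2
  have hhR : Heps (hR R.carrier R.res) := fun _ _ _ _ h => isLeftExact_hR _ _ _ _ _ _ h
  obtain ⟨TR⟩ := nonempty_tangentStr (hR R.carrier R.res) (h0_hR _ _) hhR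
  obtain ⟨l, hl⟩ := exists_tangentLinear (h0_hR _ _) hhR (NatFam.ofFamily ξ)
  haveI : Module.Finite k (TangentSpace (hR R.carrier R.res)) :=
    hfin_hR R.res_surjective (CRing.mem_maximalIdeal_iff R)
  let N := LinearMap.ker l
  obtain ⟨sm, hsm⟩ := IsNoetherian.noetherian (maximalIdeal R.carrier)
  have hmem : ∀ i : sm, R.res (i : R.carrier) = 0 := fun i =>
    (CRing.mem_maximalIdeal_iff R _).1 (hsm ▸ Submodule.subset_span i.2)
  let ev : N →ₗ[k] (sm → k) :=
    ((LinearMap.funLeft k k (fun i : sm => (i : R.carrier))).comp sndLin).comp N.subtype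
  have hev : Function.Injective ev := by
    rw [injective_iff_map_eq_zero]
    rintro ⟨θ, hθ⟩ hzero
    have hm : ∀ a ∈ maximalIdeal R.carrier, sndFun θ a = 0 := by
      rw [← hsm]
      intro a ha
      induction ha using Submodule.span_induction with
      | mem a ha => exact congrFun hzero ⟨a, ha⟩
      | zero => simpa using sndFun_algebraMap θ 0
      | add a b _ _ ha hb => rw [sndFun_add_apply, ha, hb, add_zero]
      | smul c a hmema ha =>
        rw [smul_eq_mul, sndFun_mul, ha,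
          (CRing.mem_maximalIdeal_iff R a).1 (hsm ▸ hmema)]
        ring
    let φ : HomSet R.carrier R.res (dual Λ k) := θ
    obtain ⟨σ, hσ⟩ := exists_algHom_factor R.res_surjective φ.1 (fun a ha =>
      TrivSqZeroExt.ext ((fst_homSet_dual φ a).trans ha) (hm a ((CRing.mem_maximalIdeal_iff R a).2 ha)))
    let σA : base Λ k ⟶ dual Λ k := ⟨σ, AlgHom.ext fun c => by
      obtain ⟨a, rfl⟩ := R.res_surjective c
      change (dual Λ k).res (σ (R.res a)) = R.res a
      rw [hσ]
      exact congrArg (fun f : R.carrier →ₐ[Λ] k => f a) φ.2⟩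
    have hφ : φ = HomSet.map σA (basePoint R.carrier R.res) :=
      Subtype.ext (AlgHom.ext fun a => (hσ a).symm)
    have hσb : σA = baseToDual := by
      refine hc (ξ.app _ (basePoint R.carrier R.res)) σA ?_
      rw [← ξ.natural, ← hφ]
      exact ((hl θ).symm.trans (LinearMap.mem_ker.1 hθ)).trans (tangentStr_zero' F _).symm
    refine Subtype.ext (sndLin_injective ?_)
    change sndLin θ = sndLin (0 : TangentSpace (hR R.carrier R.res))
    rw [map_zero]
    funext a
    change TrivSqZeroExt.snd (φ.1 a) = (0 : k)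
    rw [hφ, hσb]
    rfl
  obtain ⟨L, hL⟩ := ev.exists_leftInverse_of_injective (LinearMap.ker_eq_bot.2 hev)
  let b := Module.finBasis k N
  choose lift hlift using R.res_surjective
  let z : Fin (Module.finrank k N) → R.carrier := fun j =>
    ∑ i : sm, lift (b.repr (L (Pi.single i 1)) j) * (i : R.carrier)
  have hsum : ∀ (θ : TangentSpace (hR R.carrier R.res)) (j), sndFun θ (z j) =
      ∑ i : sm, sndFun θ (i : R.carrier) * b.repr (L (Pi.single i 1)) j := fun θ j => by
    rw [show z j = ∑ i : sm, lift (b.repr (L (Pi.single i 1)) j) * (i : R.carrier) from rfl,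
      show sndFun θ (∑ i : sm, lift (b.repr (L (Pi.single i 1)) j) * (i : R.carrier)) = _ from
        map_sum (AddMonoidHom.mk' (sndFun θ) (sndFun_add_apply θ)) _ _]
    refine Finset.sum_congr rfl fun i _ => ?_
    change sndFun θ _ = _
    rw [sndFun_mul, hlift, hmem i]
    ring
  have hrepr : ∀ (n : N) (j), sndFun n.1 (z j) = b.repr n j := fun n j => by
    rw [hsum]
    have hn : L (ev n) = n := congrArg (fun f : N →ₗ[k] N => f n) hL
    conv_rhs => rw [← hn, pi_eq_sum_univ (ev n), map_sum, map_sum]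
    rw [Finsupp.finsetSum_apply]
    refine Finset.sum_congr rfl fun i _ => ?_
    rw [map_smul, map_smul, Finsupp.smul_apply, smul_eq_mul]
    rw [show (Pi.single i 1 : sm → k) = fun i' => if i = i' then 1 else 0 from
      funext fun i' => by simp [Pi.single_apply, eq_comm]]
    rfl
  have hz : ∀ j, R.res (z j) = 0 := fun j => by
    simp only [z, map_sum, map_mul, hmem, mul_zero, Finset.sum_const_zero]
  have hzle : Ideal.span (Set.range z) ≤ maximalIdeal R.carrier := by
    rw [Ideal.span_le]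
    rintro _ ⟨j, rfl⟩
    exact (CRing.mem_maximalIdeal_iff R _).2 (hz j)
  obtain ⟨R', π, hπ, hπs, hπk⟩ := exists_quot R _ hzle
  have hπz : ∀ j, π (z j) = 0 := fun j => by
    have : z j ∈ RingHom.ker π := hπk ▸ Ideal.subset_span ⟨j, rfl⟩
    exact this
  have hfactor : ∀ {A : Art Λ k} (ψ : HomSet R.carrier R.res A), (∀ j, ψ.1 (z j) = 0) →
      ∃ ψ' : HomSet R'.carrier R'.res A, ψ'.1.comp π = ψ.1 := fun {A} ψ hψ => by
    obtain ⟨g, hg⟩ := exists_algHom_factor hπs ψ.1 (by
      rw [hπk, Ideal.span_le]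
      rintro _ ⟨j, rfl⟩
      exact hψ j)
    refine ⟨⟨g, AlgHom.ext fun r => ?_⟩, AlgHom.ext hg⟩
    obtain ⟨a, rfl⟩ := hπs r
    change A.res (g (π a)) = R'.res (π a)
    rw [hg]
    exact (congrArg (fun f : R.carrier →ₐ[Λ] k => f a) ψ.2).trans
      (congrArg (fun f : R.carrier →ₐ[Λ] k => f a) hπ).symm
  have hext : ∀ {A : Art Λ k} {ψ₁ ψ₂ : HomSet R'.carrier R'.res A},
      ψ₁.1.comp π = ψ₂.1.comp π → ψ₁ = ψ₂ := fun {A ψ₁ ψ₂} h =>
    Subtype.ext (AlgHom.ext fun r => by
      obtain ⟨a, rfl⟩ := hπs r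
      exact congrArg (fun f : R.carrier →ₐ[Λ] A => f a) h)
  refine ⟨⟨R', ξ.along π hπ, ?_, ?_, ?_⟩⟩
  · refine isVersal_of_smallExt _ fun B A μ hμ φ' y hy => ?_
    let φ'' : HomSet R'.carrier R'.res A := φ'
    let φ : HomSet R.carrier R.res A := ⟨φ''.1.comp π, by rw [← AlgHom.comp_assoc, φ''.2, hπ]⟩
    obtain ⟨ψ, hψ, hψy⟩ := hξ μ hμ.1 φ y hy
    obtain ⟨t, ht, ht0, htm⟩ := exists_generator hμ
    obtain ⟨P, p₁, p₂, hP⟩ := exists_isFibreProd μ μ hμ.1
    obtain ⟨g, hg⟩ := exists_diffMap ht ht0 htm hP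
    have hT := tangentSquare_of_spec ht ht0 htm hP hg
    have hc' : ∀ j, ∃ c, ψ.1 (z j) = c * t := fun j => by
      have : ψ.1 (z j) ∈ RingHom.ker μ.toAlgHom := by
        change μ (ψ.1 (z j)) = 0
        have e := congrArg (fun f : HomSet R.carrier R.res A => f.1 (z j)) hψ
        refine e.trans ?_
        change φ''.1 (π (z j)) = 0
        rw [hπz, map_zero]
      rw [ht, Ideal.mem_span_singleton'] at this
      obtain ⟨c, hc⟩ := this
      exact ⟨c, hc.symm⟩
    choose c hcz using hc'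
    let n : N := ∑ j, (-(B.res (c j))) • b j
    have hn : ∀ j, sndFun n.1 (z j) = -(B.res (c j)) := fun j => by
      rw [hrepr]
      exact congrFun (b.repr_sum_self fun j => -(B.res (c j))) j
    let θ : HomSet R.carrier R.res (dual Λ k) := n.1
    obtain ⟨w, hw₁, hw₂⟩ := exists_homSet_lift hT.split ψ θ
      ((eq_basePoint _ _ _).trans (eq_basePoint _ _ _).symm)
    have hθ : ξ.app _ θ = F.map baseToDual x₀ :=
      ((hl n.1).symm.trans (LinearMap.mem_ker.1 n.2)).trans (tangentStr_zero' F x₀).symm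
    obtain ⟨Δ, hΔ₁, hΔ₂⟩ := exists_lift hT.self (𝟙 B) (𝟙 B) rfl
    have hw : ξ.app P w = F.map Δ y := (cmp_inj_iff F hT.split).1 (h2 _ _ hT.split).1 _ _
      (by rw [← ξ.natural, hw₁, hψy, map_map, hΔ₁, map_id_app])
      (by
        rw [← ξ.natural, hw₂, hθ, map_map, hT.diag Δ hΔ₁ hΔ₂, ← map_map]
        exact congrArg _ (Subsingleton.elim _ _))
    have hval : ∀ a, ∃ e, p₂ (w.1 a) = ψ.1 a + e * t ∧ B.res e = sndFun n.1 a := fun a => by
      obtain ⟨e, he, he'⟩ := hg (w.1 a)
      have h₁ : p₁ (w.1 a) = ψ.1 a := congrArg (fun f : HomSet R.carrier R.res B => f.1 a) hw₁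
      refine ⟨e, by rw [he, h₁], he'.trans ?_⟩
      exact congrArg (fun f : HomSet R.carrier R.res (dual Λ k) => TrivSqZeroExt.snd (f.1 a)) hw₂
    obtain ⟨ψ', hψ'⟩ := hfactor (HomSet.map p₂ w) (fun j => by
      obtain ⟨e, he, he'⟩ := hval (z j)
      change p₂ (w.1 (z j)) = 0
      rw [he, hcz, ← add_mul]
      exact htm _ (by rw [mem_maximalIdeal_iff, map_add, he', hn, add_neg_cancel]))
    refine ⟨ψ', hext (AlgHom.ext fun a => ?_), ?_⟩
    · change μ (ψ'.1 (π a)) = φ''.1 (π a)
      rw [show ψ'.1 (π a) = p₂ (w.1 a) from congrArg (fun f : R.carrier →ₐ[Λ] B => f a) hψ',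
        ← hP.w_apply]
      refine (congrArg μ.toAlgHom
        (congrArg (fun f : HomSet R.carrier R.res B => f.1 a) hw₁)).trans ?_
      exact congrArg (fun f : HomSet R.carrier R.res A => f.1 a) hψ
    · change ξ.app B _ = y
      rw [show (⟨ψ'.1.comp π, _⟩ : HomSet R.carrier R.res B) = HomSet.map p₂ w from
        Subtype.ext hψ', ξ.natural, hw, map_map, hΔ₂, map_id_app]
  · intro θ₁ θ₂ he
    let θ₁' : HomSet R'.carrier R'.res (dual Λ k) := θ₁
    let θ₂' : HomSet R'.carrier R'.res (dual Λ k) := θ₂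
    let η₁ : TangentSpace (hR R.carrier R.res) :=
      TangentSpace.mk (F := hR R.carrier R.res) ⟨θ₁'.1.comp π, by rw [← AlgHom.comp_assoc, θ₁'.2, hπ]⟩
    let η₂ : TangentSpace (hR R.carrier R.res) :=
      TangentSpace.mk (F := hR R.carrier R.res) ⟨θ₂'.1.comp π, by rw [← AlgHom.comp_assoc, θ₂'.2, hπ]⟩
    have hN : η₁ - η₂ ∈ N := by
      rw [LinearMap.mem_ker, map_sub, sub_eq_zero, hl, hl]
      exact he
    have hz' : ∀ η : HomSet R'.carrier R'.res (dual Λ k), ∀ j,
        (TrivSqZeroExt.snd (η.1 (π (z j))) : k) = 0 := fun η j => by rw [hπz, map_zero]; rfl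
    have h0' : (⟨η₁ - η₂, hN⟩ : N) = 0 := b.ext_elem fun j => by
      rw [← hrepr, map_zero, Finsupp.zero_apply]
      change sndLin (η₁ - η₂) (z j) = 0
      rw [map_sub, Pi.sub_apply]
      exact sub_eq_zero.2 ((hz' θ₁' j).trans (hz' θ₂' j).symm)
    have e := sub_eq_zero.1 (congrArg Subtype.val h0' : η₁ - η₂ = 0)
    exact hext (congrArg Subtype.val (show (η₁ : HomSet R.carrier R.res (dual Λ k)) = η₂ from e))
  · intro v
    obtain ⟨θ₀, hθ₀⟩ := surjective_app_of_versal hξ (dual Λ k) v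
    let η₀ : TangentSpace (hR R.carrier R.res) := TangentSpace.mk (F := hR R.carrier R.res) θ₀
    let n : N := ∑ j, sndFun η₀ (z j) • b j
    have hn : ∀ j, sndFun n.1 (z j) = sndFun η₀ (z j) := fun j => by
      rw [hrepr]
      exact congrFun (b.repr_sum_self fun j => sndFun η₀ (z j)) j
    let η := η₀ - n.1
    have hη : ∀ j, sndFun η (z j) = 0 := fun j => by
      change sndLin (η₀ - n.1) (z j) = 0
      rw [map_sub, Pi.sub_apply]
      exact sub_eq_zero.2 (hn j).symm
    let η' : HomSet R.carrier R.res (dual Λ k) := η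
    obtain ⟨ψ', hψ'⟩ := hfactor η' fun j =>
      TrivSqZeroExt.ext ((fst_homSet_dual η' _).trans (hz j)) (hη j)
    refine ⟨ψ', ?_⟩
    change ξ.app _ _ = v
    rw [show (⟨ψ'.1.comp π, _⟩ : HomSet R.carrier R.res (dual Λ k)) = η' from Subtype.ext hψ']
    refine (hl η).symm.trans ?_
    rw [show η = η₀ - n.1 from rfl, map_sub, LinearMap.mem_ker.1 n.2, sub_zero, hl]
    exact hθ₀

theorem hasHull_of_s1_heps_hfin [TangentStr F] (h0 : H0 F) (h1 : S1 F) (h2 : Heps F)
    (h3 : Hfin F) (hc : SeesDerivations F) : HasHull F := by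
  obtain ⟨V⟩ := hasVersal_of_s1_heps_hfin h0 h1 h2 h3
  exact hasHull_of_versal h0 h2 V hc

theorem isProrepresentable_of_hull (P : Hull F) (h0 : H0 F) (h4 : HSq F) :
    IsProrepresentable F := by
  haveI := h0.2
  haveI : Subsingleton ((hR P.ring.carrier P.ring.res).obj (base Λ k)) := (h0_hR _ _).2
  refine ⟨⟨P.ring, P.family, fun A => ⟨?_, surjective_app_of_versal P.miniversal.1 A⟩⟩⟩
  exact injective_of_tangent_injective (NatFam.ofFamily P.family)
    (fun _ _ _ _ _ _ h _ => (isLeftExact_hR _ _ _ _ _ _ h).2)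
    (fun _ _ _ _ h => isLeftExact_hR _ _ _ _ _ _ h)
    (fun _ _ _ _ _ _ h hf => (h4 _ _ _ h hf).1) P.miniversal.2.1 A

theorem isProrepresentable_of_conditions [TangentStr F] (h0 : H0 F) (h1 : Hbar F) (h2 : Heps F)
    (h3 : Hfin F) (h4 : HSq F) (hc : SeesDerivations F) : IsProrepresentable F := by
  obtain ⟨P⟩ := hasHull_of_s1_heps_hfin h0 (s1_of_hbar F h1) h2 h3 hc
  exact isProrepresentable_of_hull P h0 h4

omit [IsNoetherianRing Λ] [Module.Finite Λ k] in
theorem h0_of_prorep (P : ProRep F) : H0 F := h0_of_surjective fun A => (P.universal A).2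

omit [IsNoetherianRing Λ] [Module.Finite Λ k] in
theorem isLeftExact_of_prorep (P : ProRep F) : IsLeftExact F := by
  intro B A A' A'' p' p'' f' f'' h
  refine ⟨(cmp_inj_iff F h).2 fun z₁ z₂ e₁ e₂ => ?_, (cmp_surj_iff F h).2 fun x' x'' e => ?_⟩
  · obtain ⟨φ₁, rfl⟩ := (P.universal B).2 z₁
    obtain ⟨φ₂, rfl⟩ := (P.universal B).2 z₂
    rw [← P.family.natural, ← P.family.natural] at e₁ e₂
    exact congrArg _ ((cmp_inj_iff (hR P.ring.carrier P.ring.res) h).1
      (isLeftExact_hR _ _ _ _ _ _ h).1 φ₁ φ₂ ((P.universal A').1 e₁) ((P.universal A'').1 e₂))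
  · obtain ⟨φ', rfl⟩ := (P.universal A').2 x'
    obtain ⟨φ'', rfl⟩ := (P.universal A'').2 x''
    rw [← P.family.natural, ← P.family.natural] at e
    obtain ⟨φ, h₁, h₂⟩ := exists_homSet_lift h φ' φ'' ((P.universal A).1 e)
    exact ⟨P.family.app B φ, by rw [← P.family.natural, h₁], by rw [← P.family.natural, h₂]⟩

omit [IsNoetherianRing Λ] [Module.Finite Λ k] in
theorem seesDerivations_of_prorep (P : ProRep F) : SeesDerivations F := by
  intro x₀ σ e
  obtain ⟨φ, rfl⟩ := (P.universal _).2 x₀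
  rw [← P.family.natural, ← P.family.natural] at e
  refine hom_ext (AlgHom.ext fun c => ?_)
  obtain ⟨a, ha⟩ := P.ring.res_surjective c
  have hφ : φ.1 a = c := (congrArg (fun f : HomSet P.ring.carrier P.ring.res (base Λ k) => f.1 a)
    (eq_basePoint _ _ φ)).trans ha
  have := congrArg (fun f : HomSet P.ring.carrier P.ring.res (dual Λ k) => f.1 a)
    ((P.universal _).1 e)
  exact (congrArg σ.toAlgHom hφ.symm).trans (this.trans
    (congrArg (baseToDual : base Λ k ⟶ dual Λ k).toAlgHom hφ))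

theorem hfin_of_surjective_tangent [TangentStr F] {R : CRing Λ k} (ξ : Family R.carrier R.res F)
    (h : Function.Surjective (ξ.app (dual Λ k))) : Hfin F := by
  have hhR : Heps (hR R.carrier R.res) := fun _ _ _ _ h => isLeftExact_hR _ _ _ _ _ _ h
  obtain ⟨TR⟩ := nonempty_tangentStr (hR R.carrier R.res) (h0_hR _ _) hhR
  obtain ⟨l, hl⟩ := exists_tangentLinear (h0_hR _ _) hhR (NatFam.ofFamily ξ)
  haveI : Module.Finite k (TangentSpace (hR R.carrier R.res)) :=
    hfin_hR R.res_surjective (CRing.mem_maximalIdeal_iff R)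
  refine Module.Finite.of_surjective l fun y => ?_
  obtain ⟨x, hx⟩ := h y
  exact ⟨x, (hl x).trans hx⟩

end Groth.Agent.ArtFunLib

namespace Groth.Agent.ArtFunLib

open ArtFun ArtFun.Art IsLocalRing

variable {Λ k : Type u} [CommRing Λ] [Field k] [Algebra Λ k]

theorem h0_of_tangent_surjective {F : Art Λ k ⥤ Type v} {R : Type u} [CommRing R] [Algebra Λ R]
    {resR : R →ₐ[Λ] k} (ξ : Family R resR F)
    (h : Function.Surjective (ξ.app (dual Λ k))) : H0 F := by
  refine ⟨⟨ξ.app _ (basePoint R resR)⟩, ⟨fun a b => ?_⟩⟩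
  have key : ∀ y : F.obj (base Λ k), y = ξ.app _ (basePoint R resR) := fun y => by
    obtain ⟨θ, hθ⟩ := h (F.map baseToDual y)
    have h2 := congrArg (F.map (toBase (dual Λ k))) hθ
    rw [← ξ.natural, eq_basePoint R resR (HomSet.map _ θ), map_map F,
      eq_toBase (baseToDual ≫ toBase (dual Λ k)), ← eq_toBase (𝟙 (base Λ k)), map_id_app] at h2
    exact h2.symm
  rw [key a, key b]

theorem isMiniversal_of_isUniversal {F : Art Λ k ⥤ Type v} {R : Type u} [CommRing R] [Algebra Λ R]
    {resR : R →ₐ[Λ] k} (ξ : Family R resR F) (hu : IsUniversal ξ) :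
    IsMiniversal ξ := by
  refine ⟨fun B A μ _ φ y e => ?_, hu _⟩
  obtain ⟨ψ, rfl⟩ := (hu B).2 y
  exact ⟨ψ, (hu A).1 (by rw [ξ.natural, e]), rfl⟩

/-- A map of coefficient rings that is injective on tangent spaces is surjective. -/
theorem surjective_of_tangent_injective [IsNoetherianRing Λ] [Module.Finite Λ k] {R S : CRing Λ k}
    (f : R.carrier →ₐ[Λ] S.carrier) (hf : S.res.comp f = R.res)
    (h : ∀ θ₁ θ₂ : HomSet S.carrier S.res (dual Λ k), θ₁.1.comp f = θ₂.1.comp f → θ₁ = θ₂) :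
    Function.Surjective f := by
  haveI := R.isAdicComplete
  refine ((surjective_cotangent_tfae R.res S.res R.res_surjective (CRing.mem_maximalIdeal_iff R)
    (CRing.mem_maximalIdeal_iff S) f hf).out 0 1).2 ?_
  let W := Ideal.map f (maximalIdeal R.carrier) ⊔ maximalIdeal S.carrier ^ 2
  have hWle : W ≤ maximalIdeal S.carrier := sup_le (Ideal.map_le_iff_le_comap.2
    (CRing.maximalIdeal_le_comap f hf)) (Ideal.pow_le_self two_ne_zero)
  have hkm : RingHom.ker S.res = maximalIdeal S.carrier :=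
    Ideal.ext fun a => ((CRing.mem_maximalIdeal_iff S a).trans RingHom.mem_ker.symm).symm
  obtain ⟨E, q, hq, hqk, hqr⟩ := exists_artQuot S.res_surjective W (hWle.trans hkm.ge) 2
    (hkm ▸ le_sup_right)
  obtain ⟨σ, hσ⟩ := exists_algHom_factor R.res_surjective (q.comp f) (fun a ha => by
    change q (f a) = 0
    rw [← RingHom.mem_ker, hqk]
    exact Ideal.mem_sup_left (Ideal.mem_map_of_mem f ((CRing.mem_maximalIdeal_iff R a).2 ha)))
  let σA : base Λ k ⟶ E := ⟨σ, AlgHom.ext fun c => by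
    obtain ⟨a, rfl⟩ := R.res_surjective c
    change E.res (σ (R.res a)) = R.res a
    rw [hσ]
    exact (congrArg (fun g : S.carrier →ₐ[Λ] k => g (f a)) hqr).trans
      (CRing.res_comp_apply f hf a)⟩
  refine le_antisymm hWle fun s hs => ?_
  by_contra hsW
  have hE : maximalIdeal E ^ 2 = ⊥ := by
    rw [pow_two, ← le_bot_iff, Ideal.mul_le]
    intro a ha b hb
    obtain ⟨a, rfl⟩ := hq a
    obtain ⟨b, rfl⟩ := hq b
    have hmem : ∀ x, q x ∈ maximalIdeal E → x ∈ maximalIdeal S.carrier := fun x hx => by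
      rw [mem_maximalIdeal_iff] at hx
      rw [CRing.mem_maximalIdeal_iff, ← hx]
      exact (congrArg (fun g : S.carrier →ₐ[Λ] k => g x) hqr).symm
    rw [Ideal.mem_bot, ← map_mul, ← RingHom.mem_ker, hqk]
    exact Ideal.mem_sup_right (by rw [pow_two]; exact Ideal.mul_mem_mul (hmem a ha) (hmem b hb))
  obtain ⟨ψ, hψ, hψσ⟩ := exists_toDual_ne_zero σA hE (t := q s)
    ((mem_maximalIdeal_iff E _).2 ((congrArg (fun g : S.carrier →ₐ[Λ] k => g s) hqr).trans
      ((CRing.mem_maximalIdeal_iff S s).1 hs))) (fun h0 => hsW (hqk ▸ h0 : s ∈ W))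
  let θ₁ : HomSet S.carrier S.res (dual Λ k) := HomSet.map ψ ⟨q, hqr⟩
  let θ₂ : HomSet S.carrier S.res (dual Λ k) := HomSet.map baseToDual (basePoint _ _)
  have := h θ₁ θ₂ (AlgHom.ext fun r => by
    change ψ (q (f r)) = (baseToDual : base Λ k ⟶ dual Λ k) (S.res (f r))
    rw [CRing.res_comp_apply f hf, show q (f r) = σA (R.res r) from (hσ r).symm, ← hψσ]
    rfl)
  exact hψ (congrArg (fun t : HomSet S.carrier S.res (dual Λ k) => TrivSqZeroExt.snd (t.1 s)) this)

end Groth.Agent.ArtFunLib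

namespace Groth.Agent.ArtFunLib

/-- A surjective endomorphism of a Noetherian ring is injective. -/
theorem injective_of_surjective_ringEnd {A : Type*} [CommRing A] [IsNoetherianRing A]
    (f : A →+* A) (hf : Function.Surjective f) : Function.Injective f := by
  have hker : ∀ n, RingHom.ker (f ^ n) ≤ RingHom.ker (f ^ (n + 1)) := fun n x hx => by
    change (f ^ (n + 1)) x = 0
    rw [pow_succ', RingHom.mul_def, RingHom.comp_apply, show (f ^ n) x = 0 from hx, map_zero]
  obtain ⟨n, hn⟩ := monotone_stabilizes_iff_noetherian.2 inferInstance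
    (⟨fun n => RingHom.ker (f ^ n), monotone_nat_of_le_succ hker⟩ : ℕ →o Ideal A)
  have hs : Function.Surjective (f ^ n : A →+* A) := by
    rw [RingHom.coe_pow]; exact hf.iterate n
  refine (injective_iff_map_eq_zero f).2 fun x hx => ?_
  obtain ⟨y, rfl⟩ := hs x
  have h1 : y ∈ RingHom.ker (f ^ (n + 1)) := by
    change (f ^ (n + 1)) y = 0
    rw [pow_succ', RingHom.mul_def, RingHom.comp_apply]
    exact hx
  rw [show RingHom.ker (f ^ (n + 1)) = RingHom.ker (f ^ n) from (hn (n + 1) n.le_succ).symm] at h1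
  exact h1

end Groth.Agent.ArtFunLib
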