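import Groth.Prelude.Def_ArtFun3
import Mathlib.RingTheory.LocalRing.Pullback
import Mathlib.RingTheory.Length
import Mathlib.RingTheory.Finiteness.Basic
import Mathlib.RingTheory.HopkinsLevitzki

/-!
Basic facts on the category of Artinian local `Λ`-algebras with residue field `k`:
isomorphisms, kernels, fibre products (existence, universal property), small extensions and the
induction principle factoring a surjection into small extensions.
-/

universe u v w

open CategoryTheory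

namespace Groth.Agent.ArtFunLib

open ArtFun ArtFun.Art IsLocalRing

variable {Λ k : Type u} [CommRing Λ] [Field k] [Algebra Λ k]

lemma apply_mem_maximalIdeal {A B : Art Λ k} (f : A ⟶ B) {a : A} (ha : a ∈ maximalIdeal A) :
    f a ∈ maximalIdeal B := by
  rw [mem_maximalIdeal_iff] at ha ⊢
  rw [res_app, ha]

lemma apply_mem_maximalIdeal_iff {A B : Art Λ k} (f : A ⟶ B) (a : A) :
    f a ∈ maximalIdeal B ↔ a ∈ maximalIdeal A := by
  rw [mem_maximalIdeal_iff, mem_maximalIdeal_iff, res_app]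

lemma ker_le_maximalIdeal {A B : Art Λ k} (f : A ⟶ B) :
    RingHom.ker f.toAlgHom ≤ maximalIdeal A := fun a ha => by
  rw [mem_maximalIdeal_iff, ← res_app f, show f a = 0 from ha, map_zero]

lemma maximalIdeal_pow_eq_bot (A : Art Λ k) : ∃ n : ℕ, maximalIdeal A ^ (n + 1) = ⊥ := by
  obtain ⟨n, hn⟩ := (isArtinianRing_iff_isNilpotent_maximalIdeal A).1 inferInstance
  exact ⟨n, le_bot_iff.1 ((Ideal.pow_le_pow_right n.le_succ).trans (le_of_eq hn))⟩

lemma injective_of_ker_eq_bot {A B : Art Λ k} (f : A ⟶ B) (h : RingHom.ker f.toAlgHom = ⊥) :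
    Function.Injective f :=
  (RingHom.injective_iff_ker_eq_bot f.toAlgHom).2 h

theorem isIso_of_bijective {A B : Art Λ k} (f : A ⟶ B) (h : Function.Bijective f) : IsIso f := by
  let e : A ≃ₐ[Λ] B := AlgEquiv.ofBijective f.toAlgHom h
  refine ⟨⟨homMk (e.symm : B →ₐ[Λ] A) ?_, ?_, ?_⟩⟩
  · apply AlgHom.ext
    intro b
    obtain ⟨a, rfl⟩ := h.2 b
    change A.res (e.symm (e a)) = B.res (f a)
    rw [AlgEquiv.symm_apply_apply, res_app]
  · exact hom_ext (AlgHom.ext fun a => e.symm_apply_apply a)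
  · exact hom_ext (AlgHom.ext fun b => e.apply_symm_apply b)

theorem bijective_of_isIso {A B : Art Λ k} (f : A ⟶ B) [IsIso f] : Function.Bijective f := by
  refine ⟨fun a b hab => ?_, fun b => ⟨inv f b, ?_⟩⟩
  · have := congrArg (fun x => inv f x) hab
    simpa [← Art.comp_apply] using this
  · change (inv f ≫ f) b = b
    rw [IsIso.inv_hom_id]; rfl

lemma apply_mem_pow {R S : Type*} [CommRing R] [CommRing S] {F : Type*} [FunLike F R S]
    [RingHomClass F R S] (p : F) (I : Ideal R) (J : Ideal S) (h : ∀ a ∈ I, p a ∈ J) (n : ℕ)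
    {a : R} (ha : a ∈ I ^ n) : p a ∈ J ^ n := by
  have h1 := Ideal.mem_map_of_mem p ha
  rw [Ideal.map_pow] at h1
  exact Ideal.pow_right_mono (Ideal.map_le_iff_le_comap.2 h) n h1

section Functor

variable (F : Art Λ k ⥤ Type v)

lemma map_map {A B C : Art Λ k} (f : A ⟶ B) (g : B ⟶ C) (x : F.obj A) :
    F.map g (F.map f x) = F.map (f ≫ g) x :=
  (FunctorToTypes.map_comp_apply F f g x).symm

lemma map_id_app {A : Art Λ k} (x : F.obj A) : F.map (𝟙 A) x = x :=
  FunctorToTypes.map_id_apply F x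

lemma map_bijective {A B : Art Λ k} (f : A ⟶ B) (h : Function.Bijective f) :
    Function.Bijective (F.map f) := by
  haveI := isIso_of_bijective f h
  refine ⟨fun x y hxy => ?_, fun y => ⟨F.map (inv f) y, ?_⟩⟩
  · have := congrArg (F.map (inv f)) hxy
    rwa [map_map, map_map, IsIso.hom_inv_id, map_id_app, map_id_app] at this
  · rw [map_map, IsIso.inv_hom_id, map_id_app]

end Functor

section FibreProducts

variable {B A A' A'' : Art Λ k} {p' : B ⟶ A'} {p'' : B ⟶ A''} {f' : A' ⟶ A} {f'' : A'' ⟶ A}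

theorem isFibreProd_symm (h : IsFibreProd p' p'' f' f'') : IsFibreProd p'' p' f'' f' where
  w := h.w.symm
  inj b₁ b₂ h₁ h₂ := h.inj b₁ b₂ h₂ h₁
  surj a'' a' e := by
    obtain ⟨b, hb', hb''⟩ := h.surj a' a'' e.symm
    exact ⟨b, hb'', hb'⟩

theorem surjective_fst (h : IsFibreProd p' p'' f' f'') (hf : Function.Surjective f'') :
    Function.Surjective p' := fun a' => by
  obtain ⟨a'', ha''⟩ := hf (f' a')
  obtain ⟨b, hb, -⟩ := h.surj a' a'' ha''.symm
  exact ⟨b, hb⟩

theorem surjective_snd (h : IsFibreProd p' p'' f' f'') (hf : Function.Surjective f') :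
    Function.Surjective p'' :=
  surjective_fst (isFibreProd_symm h) hf

/-- Lift a compatible pair of algebra maps into a fibre product. -/
theorem exists_algHom_lift (h : IsFibreProd p' p'' f' f'') {C : Type w} [CommRing C] [Algebra Λ C]
    (g' : C →ₐ[Λ] A') (g'' : C →ₐ[Λ] A'') (hw : ∀ c, f' (g' c) = f'' (g'' c)) :
    ∃ g : C →ₐ[Λ] B, ∀ c, p' (g c) = g' c ∧ p'' (g c) = g'' c := by
  choose g hg using fun c => h.surj (g' c) (g'' c) (hw c)
  refine ⟨{ toFun := g, map_one' := ?_, map_mul' := fun x y => ?_, map_zero' := ?_,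
            map_add' := fun x y => ?_, commutes' := fun r => ?_ }, hg⟩
  · apply h.inj <;> simp [(hg 1).1, (hg 1).2]
  · apply h.inj <;> simp [(hg _).1, (hg _).2]
  · apply h.inj <;> simp [(hg 0).1, (hg 0).2]
  · apply h.inj <;> simp [(hg _).1, (hg _).2]
  · apply h.inj <;> simp [(hg _).1, (hg _).2]

theorem exists_lift (h : IsFibreProd p' p'' f' f'') {C : Art Λ k} (g' : C ⟶ A') (g'' : C ⟶ A'')
    (hw : g' ≫ f' = g'' ≫ f'') : ∃ g : C ⟶ B, g ≫ p' = g' ∧ g ≫ p'' = g'' := by
  obtain ⟨g, hg⟩ := exists_algHom_lift h g'.toAlgHom g''.toAlgHom (fun c => by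
    change (g' ≫ f') c = (g'' ≫ f'') c
    rw [hw])
  refine ⟨homMk g ?_, hom_ext (AlgHom.ext fun c => (hg c).1), hom_ext (AlgHom.ext fun c => (hg c).2)⟩
  apply AlgHom.ext
  intro c
  change B.res (g c) = C.res c
  rw [← res_app p' (g c), (hg c).1, res_app]

theorem hom_ext_of_isFibreProd (h : IsFibreProd p' p'' f' f'') {C : Art Λ k} {g₁ g₂ : C ⟶ B}
    (h₁ : g₁ ≫ p' = g₂ ≫ p') (h₂ : g₁ ≫ p'' = g₂ ≫ p'') : g₁ = g₂ :=
  hom_ext (AlgHom.ext fun c => h.inj _ _ (congrArg (fun g : C ⟶ A' => g c) h₁)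
    (congrArg (fun g : C ⟶ A'' => g c) h₂))

/-- Lift a compatible pair of elements of `h_R`. -/
theorem exists_homSet_lift (h : IsFibreProd p' p'' f' f'') {R : Type u} [CommRing R] [Algebra Λ R]
    {resR : R →ₐ[Λ] k} (φ' : HomSet R resR A') (φ'' : HomSet R resR A'')
    (hw : HomSet.map f' φ' = HomSet.map f'' φ'') :
    ∃ φ : HomSet R resR B, HomSet.map p' φ = φ' ∧ HomSet.map p'' φ = φ'' := by
  obtain ⟨g, hg⟩ := exists_algHom_lift h φ'.1 φ''.1
    (fun c => congrArg (fun φ : HomSet R resR A => φ.1 c) hw)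
  refine ⟨⟨g, ?_⟩, Subtype.ext (AlgHom.ext fun c => (hg c).1),
    Subtype.ext (AlgHom.ext fun c => (hg c).2)⟩
  apply AlgHom.ext
  intro c
  change B.res (g c) = resR c
  rw [← res_app p' (g c), (hg c).1]
  exact congrArg (fun f : R →ₐ[Λ] k => f c) φ'.2

variable (f' f'')

/-- The pullback algebra as an object, given that its augmentation is surjective. -/
theorem exists_isFibreProd_of_res [IsNoetherianRing Λ] [Module.Finite Λ k]
    (hres : ∀ c : k, ∃ (a' : A') (a'' : A''), f' a' = f'' a'' ∧ A'.res a' = c)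
    (hfin : ∀ C : Art Λ k, Module.Finite Λ C) :
    ∃ (B : Art Λ k) (p' : B ⟶ A') (p'' : B ⟶ A''), IsFibreProd p' p'' f' f'' := by
  let S : Subalgebra Λ (A' × A'') := AlgHom.pullback f'.toAlgHom f''.toAlgHom
  haveI : IsLocalHom f''.toAlgHom := isLocalHom f''
  haveI : IsLocalRing S := AlgHom.isLocalRing_pullback f'.toAlgHom f''.toAlgHom
  haveI := hfin A'
  haveI := hfin A''
  haveI : IsNoetherian Λ (A' × A'') := isNoetherian_of_isNoetherianRing_of_finite Λ _
  haveI : IsNoetherian Λ S := isNoetherian_submodule' (Subalgebra.toSubmodule S)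
  haveI : IsNoetherianRing S := isNoetherian_of_tower Λ ‹IsNoetherian Λ S›
  let p₁ : S →ₐ[Λ] A' := AlgHom.pullbackFst f'.toAlgHom f''.toAlgHom
  let p₂ : S →ₐ[Λ] A'' := AlgHom.pullbackSnd f'.toAlgHom f''.toAlgHom
  have hres₂ : ∀ s : S, A''.res (p₂ s) = A'.res (p₁ s) := fun s => by
    have := congrArg A.res (s.2 : f' s.1.1 = f'' s.1.2)
    exact ((res_app f'' _).symm.trans (this.symm.trans (res_app f' _)))
  have hmem : ∀ s ∈ maximalIdeal S, p₁ s ∈ maximalIdeal A' ∧ p₂ s ∈ maximalIdeal A'' := by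
    intro s hs
    by_contra hc
    apply (IsLocalRing.mem_maximalIdeal _).1 hs
    rw [mem_maximalIdeal_iff, mem_maximalIdeal_iff, hres₂, and_self] at hc
    refine (AlgHom.isUnit_pullback_mk_iff f'.toAlgHom f''.toAlgHom s.2).2 ⟨?_, ?_⟩
    · exact notMem_maximalIdeal.1 fun h => hc ((mem_maximalIdeal_iff _ _).1 h)
    · exact notMem_maximalIdeal.1 fun h => hc (by
        rw [← hres₂]; exact (mem_maximalIdeal_iff _ _).1 h)
  haveI : IsArtinianRing S := by
    obtain ⟨n', hn'⟩ := maximalIdeal_pow_eq_bot A'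
    obtain ⟨n'', hn''⟩ := maximalIdeal_pow_eq_bot A''
    rw [isArtinianRing_iff_isNilpotent_maximalIdeal]
    refine ⟨n' + n'' + 1, le_bot_iff.1 fun s hs => ?_⟩
    have h₁ := apply_mem_pow p₁ _ _ (fun s hs => (hmem s hs).1) _ hs
    have h₂ := apply_mem_pow p₂ _ _ (fun s hs => (hmem s hs).2) _ hs
    have e₁ := Ideal.pow_le_pow_right (show n' + 1 ≤ n' + n'' + 1 by omega) h₁
    have e₂ := Ideal.pow_le_pow_right (show n'' + 1 ≤ n' + n'' + 1 by omega) h₂
    rw [hn'] at e₁
    rw [hn''] at e₂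
    exact Subtype.ext (Prod.ext (Ideal.mem_bot.1 e₁) (Ideal.mem_bot.1 e₂))
  let R : Art Λ k := Art.of S (A'.res.comp p₁) (fun c => by
    obtain ⟨a', a'', he, hc⟩ := hres c
    exact ⟨⟨(a', a''), he⟩, hc⟩)
  refine ⟨R, homMk p₁ rfl, homMk p₂ (AlgHom.ext hres₂), ?_, ?_, ?_⟩
  · exact hom_ext (AlgHom.pullback_comm_sq _ _)
  · intro b₁ b₂ h₁ h₂
    exact Subtype.ext (Prod.ext h₁ h₂)
  · intro a' a'' e
    exact ⟨⟨(a', a''), e⟩, rfl, rfl⟩

end FibreProducts

section Finiteness

variable [Module.Finite Λ k]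

/-- An object is a finite `Λ`-module. -/
theorem module_finite (A : Art Λ k) : Module.Finite Λ A := by
  suffices H : ∀ {M : Type u} [AddCommGroup M] [Module A M], IsFiniteLength A M →
      ∀ [Module Λ M] [IsScalarTower Λ A M], Module.Finite Λ M from
    H (isFiniteLength_iff_isNoetherian_isArtinian.2 ⟨inferInstance, inferInstance⟩)
  intro M _ _ hM
  induction hM with
  | of_subsingleton => intros; infer_instance
  | @of_simple_quotient M _ _ N hs _ ih =>
    intro _ _
    haveI : Module.Finite Λ N := ih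
    haveI : Module.Finite Λ (M ⧸ N) := by
      obtain ⟨m, hm, ⟨e⟩⟩ := isSimpleModule_iff_quot_maximal.1 hs
      obtain rfl : m = maximalIdeal A := IsLocalRing.eq_maximalIdeal hm
      have hk : maximalIdeal A = RingHom.ker A.res := Ideal.ext fun a => by
        rw [mem_maximalIdeal_iff, RingHom.mem_ker]
      haveI : Module.Finite Λ (A ⧸ maximalIdeal A) := by
        rw [hk]
        exact Module.Finite.equiv
          (Ideal.quotientKerAlgEquivOfSurjective A.res_surjective).symm.toLinearEquiv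
      exact Module.Finite.equiv (e.symm.restrictScalars Λ)
    haveI : Module.Finite Λ (N.restrictScalars Λ) := ih
    haveI : Module.Finite Λ (M ⧸ N.restrictScalars Λ) :=
      Module.Finite.equiv (Submodule.Quotient.restrictScalarsEquiv Λ N).symm
    exact Module.Finite.of_submodule_quotient (N.restrictScalars Λ)

end Finiteness

section FibreProducts'

variable [IsNoetherianRing Λ] [Module.Finite Λ k]

theorem exists_isFibreProd {A A' A'' : Art Λ k} (f' : A' ⟶ A) (f'' : A'' ⟶ A)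
    (hf : Function.Surjective f'') :
    ∃ (B : Art Λ k) (p' : B ⟶ A') (p'' : B ⟶ A''), IsFibreProd p' p'' f' f'' :=
  exists_isFibreProd_of_res f' f'' (fun c => by
    obtain ⟨a', ha'⟩ := A'.res_surjective c
    obtain ⟨a'', ha''⟩ := hf (f' a')
    exact ⟨a', a'', ha''.symm, ha'⟩) module_finite

theorem exists_isFibreProd_of_surjective_algebraMap (hΛ : Function.Surjective (algebraMap Λ k))
    {A A' A'' : Art Λ k} (f' : A' ⟶ A) (f'' : A'' ⟶ A) :
    ∃ (B : Art Λ k) (p' : B ⟶ A') (p'' : B ⟶ A''), IsFibreProd p' p'' f' f'' :=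
  exists_isFibreProd_of_res f' f'' (fun c => by
    obtain ⟨r, rfl⟩ := hΛ c
    exact ⟨algebraMap Λ A' r, algebraMap Λ A'' r, by simp, AlgHom.commutes _ _⟩) module_finite

end FibreProducts'

section SmallExt

/-- A nonzero ideal of an object contains a nonzero element killed by the maximal ideal. -/
theorem exists_socle {A : Art Λ k} {I : Ideal A} (hI : I ≠ ⊥) :
    ∃ t ∈ I, t ≠ 0 ∧ ∀ a ∈ maximalIdeal A, a * t = 0 := by
  classical
  obtain ⟨N, hN⟩ := maximalIdeal_pow_eq_bot A
  have hex : ∃ n, maximalIdeal A ^ n * I = ⊥ := ⟨N + 1, by rw [hN, Ideal.bot_mul]⟩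
  have h0 : Nat.find hex ≠ 0 := fun h => hI (by
    have := Nat.find_spec hex
    rwa [h, pow_zero, Ideal.one_eq_top, Ideal.top_mul] at this)
  obtain ⟨n, hn⟩ := Nat.exists_eq_succ_of_ne_zero h0
  have hne : maximalIdeal A ^ n * I ≠ ⊥ := Nat.find_min hex (by omega)
  obtain ⟨t, ht, ht0⟩ := Submodule.exists_mem_ne_zero_of_ne_bot hne
  refine ⟨t, Ideal.mul_le_right ht, ht0, fun a ha => ?_⟩
  have := Ideal.mul_mem_mul ha ht
  rw [← mul_assoc, ← pow_succ', ← Nat.succ_eq_add_one, ← hn, Nat.find_spec hex] at this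
  exact this

theorem isSmallExt_of_ker_eq_span {A B : Art Λ k} {p : B ⟶ A} (hp : Function.Surjective p) {t : B}
    (ht : RingHom.ker p.toAlgHom = Ideal.span {t}) (ht0 : t ≠ 0)
    (hm : ∀ a ∈ maximalIdeal B, a * t = 0) : IsSmallExt p := by
  refine ⟨hp, ?_, ⟨⟨t, ht⟩⟩, ?_⟩
  · rw [ht]; simp [ht0]
  · rw [ht, ← le_bot_iff, Ideal.mul_le]
    intro a ha b hb
    obtain ⟨c, rfl⟩ := Ideal.mem_span_singleton'.1 hb
    rw [Ideal.mem_bot, mul_left_comm, hm a ha, mul_zero]

theorem exists_generator {A B : Art Λ k} {p : B ⟶ A} (hp : IsSmallExt p) :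
    ∃ t : B, RingHom.ker p.toAlgHom = Ideal.span {t} ∧ t ≠ 0 ∧
      ∀ a ∈ maximalIdeal B, a * t = 0 := by
  obtain ⟨-, hne, ⟨⟨t, ht⟩⟩, hm⟩ := hp
  refine ⟨t, ht, fun h => hne (by rw [ht, h]; simp), fun a ha => ?_⟩
  have : a * t ∈ maximalIdeal B * RingHom.ker p.toAlgHom :=
    Ideal.mul_mem_mul ha (ht ▸ Ideal.mem_span_singleton_self t)
  rwa [hm, Ideal.mem_bot] at this

/-- Every surjection factors into small extensions, as an induction principle that peels off the
first small extension. -/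
theorem surjective_induction
    {P : ∀ ⦃B A : Art Λ k⦄, (B ⟶ A) → Prop}
    (hiso : ∀ ⦃B A : Art Λ k⦄ (e : B ⟶ A), Function.Bijective e → P e)
    (hstep : ∀ ⦃B C A : Art Λ k⦄ (p : B ⟶ C) (q : C ⟶ A), IsSmallExt p → Function.Surjective q →
      P q → P (p ≫ q))
    {B A : Art Λ k} (f : B ⟶ A) (hf : Function.Surjective f) : P f := by
  suffices H : ∀ (I : Ideal B), ∀ ⦃C : Art Λ k⦄ (q : B ⟶ C) (g : C ⟶ A),
      RingHom.ker q.toAlgHom = I → Function.Surjective q → Function.Surjective g → q ≫ g = f →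
      P g from
    H ⊥ (𝟙 B) f ((RingHom.injective_iff_ker_eq_bot _).1 Function.injective_id)
      Function.surjective_id hf (Category.id_comp f)
  intro I
  induction I using WellFoundedGT.induction with
  | ind I ih =>
    intro C q g hI hq hg hw
    by_cases h0 : RingHom.ker g.toAlgHom = ⊥
    · exact hiso g ⟨injective_of_ker_eq_bot g h0, hg⟩
    obtain ⟨t, htk, ht0, htm⟩ := exists_socle h0
    have hK : Ideal.span {t} ≤ maximalIdeal C :=
      (Ideal.span_singleton_le_iff_mem _).2 (ker_le_maximalIdeal g htk)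
    have hKg : Ideal.span {t} ≤ RingHom.ker g.toAlgHom :=
      (Ideal.span_singleton_le_iff_mem _).2 htk
    have hsm : IsSmallExt (quotMk C (Ideal.span {t}) hK) :=
      isSmallExt_of_ker_eq_span (quotMk_surjective _ _ _) (Ideal.mk_ker) ht0 htm
    have hg' : Function.Surjective (quotFactor hK g hKg) := fun a => by
      obtain ⟨c, hc⟩ := hg a
      exact ⟨quotMk C _ hK c, hc⟩
    rw [← quotMk_quotFactor hK g hKg]
    refine hstep _ _ hsm hg' (ih (RingHom.ker (q ≫ quotMk C _ hK).toAlgHom) ?_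
      (q ≫ quotMk C _ hK) _ rfl (hsm.1.comp hq) hg'
      (by rw [Category.assoc, quotMk_quotFactor, hw]))
    subst hI
    refine lt_of_le_of_ne (fun b hb => ?_) fun hEq => ?_
    · change quotMk C _ hK (q b) = 0
      rw [show q b = 0 from hb]
      exact map_zero _
    · obtain ⟨b, hb⟩ := hq t
      have : b ∈ RingHom.ker (q ≫ quotMk C _ hK).toAlgHom := by
        change quotMk C _ hK (q b) = 0
        rw [hb]
        exact Ideal.Quotient.eq_zero_iff_mem.2 (Ideal.mem_span_singleton_self t)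
      rw [← hEq] at this
      exact ht0 (hb ▸ this)

end SmallExt

end Groth.Agent.ArtFunLib
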