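import Groth.Agent.ArtFunLib.Basic

/-!
Comparison maps of fibre product squares, natural families of maps between functors of Artin rings,
lifting along small extensions and the action of the tangent space on the fibres.
-/

universe u v w

open CategoryTheory

namespace Groth.Agent.ArtFunLib

open ArtFun ArtFun.Art IsLocalRing

variable {Λ k : Type u} [CommRing Λ] [Field k] [Algebra Λ k]

/-- A natural family of maps between functors with values in possibly different universes. -/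
structure NatFam (F : Art Λ k ⥤ Type v) (G : Art Λ k ⥤ Type w) where
  app : ∀ A : Art Λ k, F.obj A → G.obj A
  natural : ∀ {A B : Art Λ k} (f : A ⟶ B) (x : F.obj A), app B (F.map f x) = G.map f (app A x)

namespace NatFam

variable {F : Art Λ k ⥤ Type v} {G : Art Λ k ⥤ Type w}

def ofNatTrans {G : Art Λ k ⥤ Type v} (η : F ⟶ G) : NatFam F G where
  app A x := η.app A x
  natural f x := NatTrans.naturality_apply η f x

def ofFamily {R : Type u} [CommRing R] [Algebra Λ R] {resR : R →ₐ[Λ] k}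
    (ξ : Family R resR F) : NatFam (hR R resR) F where
  app A φ := ξ.app A φ
  natural f φ := ξ.natural f φ

/-- Lifting property of `η` along one morphism. -/
def Lifts (η : NatFam F G) {B A : Art Λ k} (μ : B ⟶ A) : Prop :=
  ∀ (x : F.obj A) (y : G.obj B), G.map μ y = η.app A x →
    ∃ x' : F.obj B, F.map μ x' = x ∧ η.app B x' = y

lemma lifts_of_bijective (η : NatFam F G) {B A : Art Λ k} (μ : B ⟶ A)
    (hμ : Function.Bijective μ) : η.Lifts μ := fun x y h => by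
  obtain ⟨x', hx'⟩ := (map_bijective F μ hμ).2 x
  refine ⟨x', hx', (map_bijective G μ hμ).1 ?_⟩
  rw [← η.natural, hx', h]

lemma Lifts.comp {η : NatFam F G} {B C A : Art Λ k} {p : B ⟶ C} {q : C ⟶ A}
    (hp : η.Lifts p) (hq : η.Lifts q) : η.Lifts (p ≫ q) := fun x y h => by
  rw [← map_map G] at h
  obtain ⟨x₁, hx₁, hy₁⟩ := hq x _ h
  obtain ⟨x', hx', hy'⟩ := hp x₁ y hy₁.symm
  exact ⟨x', by rw [← map_map F, hx', hx₁], hy'⟩

theorem lifts_of_forall_small (η : NatFam F G)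
    (h : ∀ ⦃B A : Art Λ k⦄ (μ : B ⟶ A), IsSmallExt μ → η.Lifts μ)
    ⦃B A : Art Λ k⦄ (μ : B ⟶ A) (hμ : Function.Surjective μ) : η.Lifts μ :=
  surjective_induction (P := fun _ _ μ => η.Lifts μ)
    (fun _ _ e he => η.lifts_of_bijective e he) (fun _ _ _ p _ hp _ hq => (h p hp).comp hq) μ hμ

end NatFam

lemma isSmooth_iff_lifts {F G : Art Λ k ⥤ Type v} (η : F ⟶ G) :
    IsSmooth η ↔ ∀ ⦃B A : Art Λ k⦄ (μ : B ⟶ A), Function.Surjective μ →
      (NatFam.ofNatTrans η).Lifts μ := by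
  refine ⟨fun h B A μ hμ x y e => ?_, fun h B A μ hμ r => ?_⟩
  · obtain ⟨z, hz⟩ := h μ hμ ⟨(x, y), e.symm⟩
    exact ⟨z, congrArg (fun t => t.1.1) hz, congrArg (fun t => t.1.2) hz⟩
  · obtain ⟨z, hz, hz'⟩ := h μ hμ r.1.1 r.1.2 r.2.symm
    exact ⟨z, Subtype.ext (Prod.ext hz hz')⟩

lemma lifts_iff_relCmp_surjective {F G : Art Λ k ⥤ Type v} (η : F ⟶ G) {B A : Art Λ k}
    (μ : B ⟶ A) : (NatFam.ofNatTrans η).Lifts μ ↔ Function.Surjective (relCmp η μ) := by
  refine ⟨fun h r => ?_, fun h x y e => ?_⟩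
  · obtain ⟨z, hz, hz'⟩ := h r.1.1 r.1.2 r.2.symm
    exact ⟨z, Subtype.ext (Prod.ext hz hz')⟩
  · obtain ⟨z, hz⟩ := h ⟨(x, y), e.symm⟩
    exact ⟨z, congrArg (fun t => t.1.1) hz, congrArg (fun t => t.1.2) hz⟩

lemma isVersal_iff_lifts {F : Art Λ k ⥤ Type v} {R : Type u} [CommRing R] [Algebra Λ R]
    {resR : R →ₐ[Λ] k} (ξ : Family R resR F) :
    IsVersal ξ ↔ ∀ ⦃B A : Art Λ k⦄ (μ : B ⟶ A), Function.Surjective μ →
      (NatFam.ofFamily ξ).Lifts μ := Iff.rfl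

lemma isVersal_of_smallExt {F : Art Λ k ⥤ Type v} {R : Type u} [CommRing R] [Algebra Λ R]
    {resR : R →ₐ[Λ] k} (ξ : Family R resR F)
    (h : ∀ ⦃B A : Art Λ k⦄ (μ : B ⟶ A), IsSmallExt μ → (NatFam.ofFamily ξ).Lifts μ) :
    IsVersal ξ :=
  (isVersal_iff_lifts ξ).2 ((NatFam.ofFamily ξ).lifts_of_forall_small h)

lemma isSmoothFunctor_of_smallExt {F : Art Λ k ⥤ Type v}
    (h : ∀ ⦃B A : Art Λ k⦄ (μ : B ⟶ A), IsSmallExt μ → Function.Surjective (F.map μ)) :
    IsSmoothFunctor F := fun B A μ hμ => by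
  refine surjective_induction (P := fun _ _ μ => Function.Surjective (F.map μ))
    (fun _ _ e he => (map_bijective F e he).2) (fun B C A p q hp _ hq x => ?_) μ hμ
  obtain ⟨y, rfl⟩ := hq x
  obtain ⟨z, rfl⟩ := h p hp y
  exact ⟨z, (map_map F p q z).symm⟩

section HomFunctor

variable (R : Type u) [CommRing R] [Algebra Λ R] (resR : R →ₐ[Λ] k)

/-- The point of `h_R(k)`. -/
def basePoint : HomSet R resR (base Λ k) := ⟨resR, AlgHom.id_comp _⟩

lemma eq_basePoint (φ : HomSet R resR (base Λ k)) : φ = basePoint R resR :=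
  Subtype.ext ((AlgHom.id_comp _).symm.trans φ.2)

lemma h0_hR : H0 (hR R resR) :=
  ⟨⟨basePoint R resR⟩, ⟨fun a b => (eq_basePoint R resR a).trans (eq_basePoint R resR b).symm⟩⟩

lemma isLeftExact_hR : IsLeftExact (hR R resR) := by
  intro B A A' A'' p' p'' f' f'' h
  refine ⟨fun z₁ z₂ e => ?_, fun x => ?_⟩
  · exact Subtype.ext (AlgHom.ext fun c => h.inj _ _
      (congrArg (fun t => t.1.1.1 c) e) (congrArg (fun t => t.1.2.1 c) e))
  · obtain ⟨φ, h₁, h₂⟩ := exists_homSet_lift h x.1.1 x.1.2 x.2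
    exact ⟨φ, FibProd.ext h₁ h₂⟩

end HomFunctor

section CmpLemmas

variable (F : Art Λ k ⥤ Type v)

lemma cmp_surj_iff {B A A' A'' : Art Λ k} {p' : B ⟶ A'} {p'' : B ⟶ A''} {f' : A' ⟶ A}
    {f'' : A'' ⟶ A} (h : IsFibreProd p' p'' f' f'') :
    Function.Surjective (cmp F h) ↔ ∀ x' x'', F.map f' x' = F.map f'' x'' →
      ∃ z, F.map p' z = x' ∧ F.map p'' z = x'' := by
  refine ⟨fun hs x' x'' e => ?_, fun hs x => ?_⟩
  · obtain ⟨z, hz⟩ := hs ⟨(x', x''), e⟩
    exact ⟨z, congrArg (fun t => t.1.1) hz, congrArg (fun t => t.1.2) hz⟩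
  · obtain ⟨z, hz, hz'⟩ := hs x.1.1 x.1.2 x.2
    exact ⟨z, FibProd.ext hz hz'⟩

lemma cmp_inj_iff {B A A' A'' : Art Λ k} {p' : B ⟶ A'} {p'' : B ⟶ A''} {f' : A' ⟶ A}
    {f'' : A'' ⟶ A} (h : IsFibreProd p' p'' f' f'') :
    Function.Injective (cmp F h) ↔ ∀ z₁ z₂, F.map p' z₁ = F.map p' z₂ →
      F.map p'' z₁ = F.map p'' z₂ → z₁ = z₂ :=
  ⟨fun hi _ _ e₁ e₂ => hi (FibProd.ext e₁ e₂),
    fun hi _ _ e => hi _ _ (congrArg (fun t => t.1.1) e) (congrArg (fun t => t.1.2) e)⟩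

theorem cmp_bijective_symm {B A A' A'' : Art Λ k} {p' : B ⟶ A'} {p'' : B ⟶ A''} {f' : A' ⟶ A}
    {f'' : A'' ⟶ A} (h : IsFibreProd p' p'' f' f'')
    (hb : Function.Bijective (cmp F (isFibreProd_symm h))) : Function.Bijective (cmp F h) := by
  refine ⟨(cmp_inj_iff F h).2 fun z₁ z₂ e₁ e₂ => ?_, (cmp_surj_iff F h).2 fun x' x'' e => ?_⟩
  · exact (cmp_inj_iff F _).1 hb.1 z₁ z₂ e₂ e₁
  · obtain ⟨z, h₁, h₂⟩ := (cmp_surj_iff F _).1 hb.2 x'' x' e.symm
    exact ⟨z, h₂, h₁⟩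

theorem isFibreProd_bijective_fst {B A A' A'' : Art Λ k} {p' : B ⟶ A'} {p'' : B ⟶ A''}
    {f' : A' ⟶ A} {f'' : A'' ⟶ A} (h : IsFibreProd p' p'' f' f'') (hf : Function.Bijective f'') :
    Function.Bijective p' :=
  ⟨fun b₁ b₂ e => h.inj b₁ b₂ e (hf.1 (by rw [← h.w_apply, ← h.w_apply, e])),
    surjective_fst h hf.2⟩

theorem cmp_bijective_of_bijective {B A A' A'' : Art Λ k} {p' : B ⟶ A'} {p'' : B ⟶ A''}
    {f' : A' ⟶ A} {f'' : A'' ⟶ A} (h : IsFibreProd p' p'' f' f'') (hf : Function.Bijective f'') :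
    Function.Bijective (cmp F h) := by
  have hp := map_bijective F p' (isFibreProd_bijective_fst h hf)
  refine ⟨(cmp_inj_iff F h).2 fun z₁ z₂ e _ => hp.1 e, (cmp_surj_iff F h).2 fun x' x'' e => ?_⟩
  obtain ⟨z, hz⟩ := hp.2 x'
  refine ⟨z, hz, (map_bijective F f'' hf).1 ?_⟩
  rw [map_map, ← h.w, ← map_map, hz, e]

/-- The kernel of the projection of a fibre product along a small extension. -/
theorem exists_kernel_generator {B A A' A'' : Art Λ k} {p' : B ⟶ A'} {p'' : B ⟶ A''}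
    {f' : A' ⟶ A} {f'' : A'' ⟶ A} (h : IsFibreProd p' p'' f' f'') {t'' : A''}
    (ht : RingHom.ker f''.toAlgHom = Ideal.span {t''}) (ht0 : t'' ≠ 0)
    (hm : ∀ a ∈ maximalIdeal A'', a * t'' = 0) :
    ∃ t : B, p'' t = t'' ∧ RingHom.ker p'.toAlgHom = Ideal.span {t} ∧ t ≠ 0 ∧
      ∀ b ∈ maximalIdeal B, b * t = 0 := by
  obtain ⟨t, ht', ht''⟩ := h.surj 0 t'' (by
    rw [map_zero]
    exact (RingHom.mem_ker.1 (by rw [ht]; exact Ideal.mem_span_singleton_self t'')).symm)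
  refine ⟨t, ht'', le_antisymm (fun b hb => ?_) ((Ideal.span_singleton_le_iff_mem _).2 ht'), ?_, ?_⟩
  · have hb0 : p' b = 0 := hb
    have h1 : p'' b ∈ RingHom.ker f''.toAlgHom := by
      change f'' (p'' b) = 0
      rw [← h.w_apply, hb0, map_zero]
    rw [ht, Ideal.mem_span_singleton'] at h1
    obtain ⟨c, hc⟩ := h1
    obtain ⟨b', hb'⟩ := B.res_surjective (A''.res c)
    refine Ideal.mem_span_singleton'.2 ⟨b', h.inj _ _ ?_ ?_⟩
    · rw [map_mul, ht', mul_zero, hb0]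
    · have : (p'' b' - c) * t'' = 0 := hm _ (by
        rw [mem_maximalIdeal_iff, map_sub, res_app, hb', sub_self])
      rw [map_mul, ht'', ← hc, sub_mul, sub_eq_zero] at *
      exact this
  · intro h0
    exact ht0 (by rw [← ht'', h0, map_zero])
  · intro b hb
    refine h.inj _ _ ?_ ?_
    · rw [map_mul, ht', mul_zero, map_zero]
    · rw [map_mul, ht'', map_zero]
      exact hm _ (apply_mem_maximalIdeal p'' hb)

theorem isSmallExt_fst {B A A' A'' : Art Λ k} {p' : B ⟶ A'} {p'' : B ⟶ A''}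
    {f' : A' ⟶ A} {f'' : A'' ⟶ A} (h : IsFibreProd p' p'' f' f'') (hf : IsSmallExt f'') :
    IsSmallExt p' := by
  obtain ⟨t'', ht, ht0, hm⟩ := exists_generator hf
  obtain ⟨t, -, htk, ht0', hm'⟩ := exists_kernel_generator h ht ht0 hm
  exact isSmallExt_of_ker_eq_span (surjective_fst h hf.1) htk ht0' hm'

variable [IsNoetherianRing Λ] [Module.Finite Λ k]

/-- Pasting: a square over a composite surjection splits into two squares. -/
theorem exists_paste {B A A' A'' C : Art Λ k} {p' : B ⟶ A'} {p'' : B ⟶ A''} {f' : A' ⟶ A}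
    {p : A'' ⟶ C} {q : C ⟶ A} (h : IsFibreProd p' p'' f' (p ≫ q)) (hq : Function.Surjective q) :
    ∃ (D : Art Λ k) (d' : D ⟶ A') (d'' : D ⟶ C) (g : B ⟶ D),
      IsFibreProd d' d'' f' q ∧ IsFibreProd g p'' d'' p ∧ g ≫ d' = p' := by
  obtain ⟨D, d', d'', hD⟩ := exists_isFibreProd f' q hq
  obtain ⟨g, hg', hg''⟩ := exists_lift hD p' (p'' ≫ p) (by rw [Category.assoc]; exact h.w)
  refine ⟨D, d', d'', g, hD, ⟨hg'', fun b₁ b₂ e₁ e₂ => h.inj _ _ ?_ e₂, fun d a'' e => ?_⟩, hg'⟩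
  · rw [← hg']
    exact congrArg d'.toAlgHom e₁
  · obtain ⟨b, hb', hb''⟩ := h.surj (d' d) a'' (by
      rw [hD.w_apply, e]; rfl)
    refine ⟨b, hD.inj _ _ ?_ ?_, hb''⟩
    · rw [← hb', ← hg']; rfl
    · rw [e, ← hb'']
      exact congrArg (fun m : B ⟶ C => m b) hg''

theorem cmp_surjective_of_smallExt (hF : Hbar F)
    {B A A' A'' : Art Λ k} {p' : B ⟶ A'} {p'' : B ⟶ A''} {f' : A' ⟶ A} {f'' : A'' ⟶ A}
    (h : IsFibreProd p' p'' f' f'') (hf : Function.Surjective f'') :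
    Function.Surjective (cmp F h) := by
  refine surjective_induction (P := fun A'' A f'' => ∀ ⦃B A' : Art Λ k⦄ (p' : B ⟶ A')
    (p'' : B ⟶ A'') (f' : A' ⟶ A) (h : IsFibreProd p' p'' f' f''), Function.Surjective (cmp F h))
    (fun A'' A e he B A' p' p'' f' h => (cmp_bijective_of_bijective F h he).2)
    (fun A'' C A p q hp hq ih B A' p' p'' f' h => ?_) f'' hf p' p'' f' h
  obtain ⟨D, d', d'', g, hD, hg, hgd⟩ := exists_paste h hq
  rw [cmp_surj_iff] at *
  intro x' x'' e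
  rw [← map_map] at e
  obtain ⟨zD, hzD', hzD''⟩ := (cmp_surj_iff F hD).1 (ih _ _ _ hD) x' _ e
  obtain ⟨z, hz, hz''⟩ := (cmp_surj_iff F hg).1 (hF _ _ _ _ hg hp) zD x'' hzD''
  exact ⟨z, by rw [← hgd, ← map_map, hz, hzD'], hz''⟩

theorem cmp_injective_of_smallExt
    (hF : ∀ ⦃B A A' A'' : Art Λ k⦄ (p' : B ⟶ A') (p'' : B ⟶ A'') (f' : A' ⟶ A) (f'' : A'' ⟶ A)
      (h : IsFibreProd p' p'' f' f''), IsSmallExt f'' → Function.Injective (cmp F h))
    {B A A' A'' : Art Λ k} {p' : B ⟶ A'} {p'' : B ⟶ A''} {f' : A' ⟶ A} {f'' : A'' ⟶ A}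
    (h : IsFibreProd p' p'' f' f'') (hf : Function.Surjective f'') :
    Function.Injective (cmp F h) := by
  refine surjective_induction (P := fun A'' A f'' => ∀ ⦃B A' : Art Λ k⦄ (p' : B ⟶ A')
    (p'' : B ⟶ A'') (f' : A' ⟶ A) (h : IsFibreProd p' p'' f' f''), Function.Injective (cmp F h))
    (fun A'' A e he B A' p' p'' f' h => (cmp_bijective_of_bijective F h he).1)
    (fun A'' C A p q hp hq ih B A' p' p'' f' h => ?_) f'' hf p' p'' f' h
  obtain ⟨D, d', d'', g, hD, hg, hgd⟩ := exists_paste h hq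
  rw [cmp_inj_iff]
  intro z₁ z₂ e₁ e₂
  refine (cmp_inj_iff F hg).1 (hF _ _ _ _ hg hp) z₁ z₂ ?_ e₂
  refine (cmp_inj_iff F hD).1 (ih _ _ _ hD) _ _ ?_ ?_
  · rw [map_map, map_map, hgd, e₁]
  · rw [map_map, map_map, hg.w, ← map_map, ← map_map, e₂]

theorem s1_of_hbar (hF : Hbar F) : S1 F :=
  fun _ _ _ _ _ _ _ _ h hf => cmp_surjective_of_smallExt F hF h hf

omit [IsNoetherianRing Λ] [Module.Finite Λ k] in
theorem hbar_of_s1 (hF : S1 F) : Hbar F :=
  fun _ _ _ _ _ _ _ _ h hf => hF _ _ _ _ h hf.1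

end CmpLemmas

section Torsor

/-- The coefficient of a multiple of `t`. -/
noncomputable def coef {B : Art Λ k} (t a : B) : k := by
  classical exact if h : ∃ b, a = b * t then B.res h.choose else 0

lemma coef_eq {B : Art Λ k} {t : B} (ht0 : t ≠ 0) (hm : ∀ a ∈ maximalIdeal B, a * t = 0)
    {a b : B} (h : a = b * t) : coef t a = B.res b := by
  classical
  have hex : ∃ b, a = b * t := ⟨b, h⟩
  rw [coef, dif_pos hex]
  by_contra hne
  apply ht0
  have hu : IsUnit (hex.choose - b) := notMem_maximalIdeal.1 fun hmem => hne (by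
    rwa [mem_maximalIdeal_iff, map_sub, sub_eq_zero] at hmem)
  exact hu.mul_right_eq_zero.1 (by rw [sub_mul, ← hex.choose_spec, ← h, sub_self])

lemma dual_ext {A : Art Λ k} {f g : A ⟶ dual Λ k}
    (h : ∀ a, (TrivSqZeroExt.snd (f a) : k) = TrivSqZeroExt.snd (g a)) : f = g :=
  hom_ext (AlgHom.ext fun a => TrivSqZeroExt.ext ((res_app f a).trans (res_app g a).symm) (h a))

lemma fst_apply_dual {A : Art Λ k} (f : A ⟶ dual Λ k) (a : A) :
    TrivSqZeroExt.fst (f a) = A.res a := res_app f a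

lemma snd_toBase_baseToDual {A : Art Λ k} (a : A) :
    TrivSqZeroExt.snd ((toBase A ≫ baseToDual : A ⟶ dual Λ k) a) = 0 := rfl

/-- `(p₁, p₂)` is a self fibre product of `p` and `(p₁, g)` identifies it with the product with
`k[ε]`, the diagonal having zero component. -/
structure TangentSquare {B A P : Art Λ k} (p : B ⟶ A) (p₁ p₂ : P ⟶ B) (g : P ⟶ dual Λ k) :
    Prop where
  self : IsFibreProd p₁ p₂ p p
  split : IsFibreProd p₁ g (toBase B) (toBase (dual Λ k))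
  diag : ∀ Δ : B ⟶ P, Δ ≫ p₁ = 𝟙 B → Δ ≫ p₂ = 𝟙 B → Δ ≫ g = toBase B ≫ baseToDual

/-- The difference map attached to a generator of the kernel of a small extension. -/
theorem exists_diffMap {B A P : Art Λ k} {p : B ⟶ A} {t : B}
    (ht : RingHom.ker p.toAlgHom = Ideal.span {t}) (ht0 : t ≠ 0)
    (hm : ∀ a ∈ maximalIdeal B, a * t = 0) {p₁ p₂ : P ⟶ B} (hP : IsFibreProd p₁ p₂ p p) :
    ∃ g : P ⟶ dual Λ k, ∀ z, ∃ b, p₂ z = p₁ z + b * t ∧ B.res b = TrivSqZeroExt.snd (g z) := by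
  have hd : ∀ z, ∃ b, p₂ z = p₁ z + b * t := fun z => by
    have : p₂ z - p₁ z ∈ RingHom.ker p.toAlgHom := by
      change p (p₂ z - p₁ z) = 0
      rw [map_sub, ← hP.w_apply, sub_self]
    rw [ht, Ideal.mem_span_singleton'] at this
    obtain ⟨b, hb⟩ := this
    exact ⟨b, by rw [hb]; ring⟩
  choose b hb using hd
  have hc : ∀ z c, p₂ z = p₁ z + c * t → B.res (b z) = B.res c := fun z c hc => by
    rw [← coef_eq ht0 hm (a := p₂ z - p₁ z) (b := b z) (by rw [hb]; ring),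
      coef_eq ht0 hm (b := c) (by rw [hc]; ring)]
  let φ : P →ₐ[Λ] DualNumber k :=
    { toFun := fun z => TrivSqZeroExt.inl (P.res z) + TrivSqZeroExt.inr (B.res (b z))
      map_one' := by rw [hc 1 0 (by simp)]; simp
      map_mul' := fun x y => by
        rw [hc (x * y) (b x * p₂ y + p₁ x * b y) (by rw [map_mul, map_mul, hb y, hb x]; ring)]
        refine TrivSqZeroExt.ext ?_ ?_
        · simp
        · simp [res_app]
          ring
      map_zero' := by rw [hc 0 0 (by simp)]; simp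
      map_add' := fun x y => by
        rw [hc (x + y) (b x + b y) (by rw [map_add, map_add, hb x, hb y]; ring)]
        refine TrivSqZeroExt.ext ?_ ?_ <;> simp
      commutes' := fun r => by
        rw [hc _ 0 (by simp)]
        refine TrivSqZeroExt.ext ?_ ?_ <;> simp [TrivSqZeroExt.algebraMap_eq_inl'] }
  have e₁ : ∀ z, TrivSqZeroExt.fst (φ z) = P.res z := fun z => by simp [φ]
  have e₂ : ∀ z, TrivSqZeroExt.snd (φ z) = B.res (b z) := fun z => by simp [φ]
  exact ⟨⟨φ, AlgHom.ext e₁⟩, fun z => ⟨b z, hb z, (e₂ z).symm⟩⟩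

theorem tangentSquare_of_spec {B A P : Art Λ k} {p : B ⟶ A} {t : B}
    (ht : RingHom.ker p.toAlgHom = Ideal.span {t}) (ht0 : t ≠ 0)
    (hm : ∀ a ∈ maximalIdeal B, a * t = 0) {p₁ p₂ : P ⟶ B} (hP : IsFibreProd p₁ p₂ p p)
    {g : P ⟶ dual Λ k}
    (hg : ∀ z, ∃ b, p₂ z = p₁ z + b * t ∧ B.res b = TrivSqZeroExt.snd (g z)) :
    TangentSquare p p₁ p₂ g where
  self := hP
  split := by
    refine ⟨by rw [eq_toBase (p₁ ≫ _), eq_toBase (g ≫ _)], fun z z' e₁ e₂ => ?_, fun b d e => ?_⟩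
    · obtain ⟨c, hc, hc'⟩ := hg z
      obtain ⟨c', hcz, hcz'⟩ := hg z'
      refine hP.inj _ _ e₁ ?_
      rw [hc, hcz, e₁]
      congr 1
      rw [← sub_eq_zero, ← sub_mul]
      exact hm _ (by rw [mem_maximalIdeal_iff, map_sub, hc', hcz', e₂, sub_self])
    · obtain ⟨c, hc⟩ := B.res_surjective (TrivSqZeroExt.snd d)
      obtain ⟨z, hz₁, hz₂⟩ := hP.surj b (b + c * t) (by
        rw [map_add, map_mul]
        rw [show p t = 0 from RingHom.mem_ker.1 (by rw [ht]; exact Ideal.mem_span_singleton_self t),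
          mul_zero, add_zero])
      refine ⟨z, hz₁, TrivSqZeroExt.ext ?_ ?_⟩
      · rw [fst_apply_dual, ← res_app p₁, hz₁]
        exact e
      · obtain ⟨c', hc', hc''⟩ := hg z
        rw [hz₁, hz₂, add_right_inj] at hc'
        rw [← hc'', ← hc, ← coef_eq ht0 hm hc', ← coef_eq ht0 hm (a := c * t) rfl]
  diag Δ h₁ h₂ := dual_ext fun b => by
    rw [snd_toBase_baseToDual]
    obtain ⟨c, hc, hc'⟩ := hg (Δ b)
    have e₁ : p₁ (Δ b) = b := congrArg (fun f : B ⟶ B => f b) h₁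
    have e₂ : p₂ (Δ b) = b := congrArg (fun f : B ⟶ B => f b) h₂
    change TrivSqZeroExt.snd (g (Δ b)) = _
    rw [e₁, e₂] at hc
    rw [← hc', ← coef_eq ht0 hm (a := 0) (b := c) (by linear_combination hc),
      coef_eq ht0 hm (a := 0) (b := 0) (by simp), map_zero]

variable [IsNoetherianRing Λ] [Module.Finite Λ k]

theorem exists_tangentSquare {B A : Art Λ k} (p : B ⟶ A) (hp : IsSmallExt p) :
    ∃ (P : Art Λ k) (p₁ p₂ : P ⟶ B) (g : P ⟶ dual Λ k), TangentSquare p p₁ p₂ g := by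
  obtain ⟨t, ht, ht0, hm⟩ := exists_generator hp
  obtain ⟨P, p₁, p₂, hP⟩ := exists_isFibreProd p p hp.1
  obtain ⟨g, hg⟩ := exists_diffMap ht ht0 hm hP
  exact ⟨P, p₁, p₂, g, tangentSquare_of_spec ht ht0 hm hP hg⟩

variable {F : Art Λ k ⥤ Type v} {G : Art Λ k ⥤ Type w}

omit [IsNoetherianRing Λ] [Module.Finite Λ k] in
/-- Moving a lift along the tangent space to hit a prescribed lift of the image. -/
theorem TangentSquare.adjust {B A P : Art Λ k} {p : B ⟶ A} {p₁ p₂ : P ⟶ B} {g : P ⟶ dual Λ k}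
    (h : TangentSquare p p₁ p₂ g) (η : NatFam F G) [Subsingleton (F.obj (base Λ k))]
    (hFε : Function.Surjective (cmp F h.split)) (hGsq : Function.Surjective (cmp G h.self))
    (hGε : Function.Injective (cmp G h.split)) (hsurj : Function.Surjective (η.app (dual Λ k)))
    (x' : F.obj B) (y : G.obj B) (hy : G.map p y = η.app A (F.map p x')) :
    ∃ x'' : F.obj B, F.map p x'' = F.map p x' ∧ η.app B x'' = y := by
  obtain ⟨w, hw₁, hw₂⟩ := (cmp_surj_iff G h.self).1 hGsq (η.app B x') y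
    (by rw [← η.natural, hy])
  obtain ⟨θ, hθ⟩ := hsurj (G.map g w)
  obtain ⟨z, hz₁, hz₂⟩ := (cmp_surj_iff F h.split).1 hFε x' θ (Subsingleton.elim _ _)
  have hzw : η.app P z = w := (cmp_inj_iff G h.split).1 hGε _ _
    (by rw [← η.natural, hz₁, hw₁]) (by rw [← η.natural, hz₂, hθ])
  refine ⟨F.map p₂ z, ?_, by rw [η.natural, hzw, hw₂]⟩
  rw [map_map, ← h.self.w, ← map_map, hz₁]

omit [IsNoetherianRing Λ] [Module.Finite Λ k] in
/-- Two lifts with the same image are equal when the tangent map is injective. -/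
theorem TangentSquare.unique {B A P : Art Λ k} {p : B ⟶ A} {p₁ p₂ : P ⟶ B} {g : P ⟶ dual Λ k}
    (h : TangentSquare p p₁ p₂ g) (η : NatFam F G)
    (hFsq : Function.Surjective (cmp F h.self)) (hFε : Function.Injective (cmp F h.split))
    (hGsq : Function.Injective (cmp G h.self)) (hinj : Function.Injective (η.app (dual Λ k)))
    {y₁ y₂ : F.obj B} (hA : F.map p y₁ = F.map p y₂) (hB : η.app B y₁ = η.app B y₂) :
    y₁ = y₂ := by
  obtain ⟨Δ, hΔ₁, hΔ₂⟩ := exists_lift h.self (𝟙 B) (𝟙 B) rfl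
  obtain ⟨w, hw₁, hw₂⟩ := (cmp_surj_iff F h.self).1 hFsq y₁ y₂ hA
  have e : η.app P w = η.app P (F.map Δ y₁) := (cmp_inj_iff G h.self).1 hGsq _ _
    (by rw [← η.natural, ← η.natural, hw₁, map_map, hΔ₁, map_id_app])
    (by rw [← η.natural, ← η.natural, hw₂, map_map, hΔ₂, map_id_app, hB])
  have hw : w = F.map Δ y₁ := (cmp_inj_iff F h.split).1 hFε _ _
    (by rw [hw₁, map_map, hΔ₁, map_id_app]) (hinj (by rw [η.natural, η.natural, e]))
  rw [← hw₂, hw, map_map, hΔ₂, map_id_app]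

/-- Smoothness from surjectivity on tangent spaces and existence of lifts. -/
theorem lifts_of_tangent_surjective (η : NatFam F G) [Subsingleton (F.obj (base Λ k))]
    (hFε : Heps F) (hG : Hbar G) (hGε : Heps G)
    (hsurj : Function.Surjective (η.app (dual Λ k)))
    {B A : Art Λ k} (μ : B ⟶ A) (hμ : IsSmallExt μ)
    (hlift : ∀ (x : F.obj A) (y : G.obj B), G.map μ y = η.app A x → ∃ x', F.map μ x' = x) :
    η.Lifts μ := fun x y e => by
  obtain ⟨x', rfl⟩ := hlift x y e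
  obtain ⟨P, p₁, p₂, g, h⟩ := exists_tangentSquare μ hμ
  exact h.adjust η (hFε _ _ h.split).2 (hG _ _ _ _ h.self hμ) (hGε _ _ h.split).1 hsurj x' y e

/-- Relative injectivity along surjections from injectivity on tangent spaces. -/
theorem injective_rel_of_tangent_injective (η : NatFam F G)
    (hFsq : ∀ ⦃B A A' : Art Λ k⦄ (p₁ p₂ : B ⟶ A') (f : A' ⟶ A) (h : IsFibreProd p₁ p₂ f f),
      IsSmallExt f → Function.Surjective (cmp F h))
    (hFε : Heps F)
    (hGsq : ∀ ⦃B A A' : Art Λ k⦄ (p₁ p₂ : B ⟶ A') (f : A' ⟶ A) (h : IsFibreProd p₁ p₂ f f),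
      IsSmallExt f → Function.Injective (cmp G h))
    (hinj : Function.Injective (η.app (dual Λ k)))
    ⦃B A : Art Λ k⦄ (μ : B ⟶ A) (hμ : Function.Surjective μ) (y₁ y₂ : F.obj B)
    (hA : F.map μ y₁ = F.map μ y₂) (hB : η.app B y₁ = η.app B y₂) : y₁ = y₂ := by
  refine surjective_induction (P := fun B A μ => ∀ y₁ y₂ : F.obj B, F.map μ y₁ = F.map μ y₂ →
    η.app B y₁ = η.app B y₂ → y₁ = y₂)
    (fun B A e he y₁ y₂ hA _ => (map_bijective F e he).1 hA)
    (fun B C A p q hp _ ih y₁ y₂ hA hB => ?_) μ hμ y₁ y₂ hA hB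
  rw [← map_map, ← map_map] at hA
  have hC : F.map p y₁ = F.map p y₂ := ih _ _ hA (by rw [η.natural, η.natural, hB])
  obtain ⟨P, p₁, p₂, g, h⟩ := exists_tangentSquare p hp
  exact h.unique η (hFsq _ _ _ h.self hp) (hFε _ _ h.split).1 (hGsq _ _ _ h.self hp) hinj hC hB

/-- Injectivity on all objects from injectivity on tangent spaces. -/
theorem injective_of_tangent_injective (η : NatFam F G) [Subsingleton (F.obj (base Λ k))]
    (hFsq : ∀ ⦃B A A' : Art Λ k⦄ (p₁ p₂ : B ⟶ A') (f : A' ⟶ A) (h : IsFibreProd p₁ p₂ f f),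
      IsSmallExt f → Function.Surjective (cmp F h))
    (hFε : Heps F)
    (hGsq : ∀ ⦃B A A' : Art Λ k⦄ (p₁ p₂ : B ⟶ A') (f : A' ⟶ A) (h : IsFibreProd p₁ p₂ f f),
      IsSmallExt f → Function.Injective (cmp G h))
    (hinj : Function.Injective (η.app (dual Λ k))) (A : Art Λ k) :
    Function.Injective (η.app A) := fun y₁ y₂ e =>
  injective_rel_of_tangent_injective η hFsq hFε hGsq hinj (toBase A) A.res_surjective y₁ y₂
    (Subsingleton.elim _ _) e

omit [IsNoetherianRing Λ] [Module.Finite Λ k] in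
theorem surjective_of_lifts (η : NatFam F G)
    (h : ∀ ⦃B A : Art Λ k⦄ (μ : B ⟶ A), Function.Surjective μ → η.Lifts μ)
    (h0 : Function.Surjective (η.app (base Λ k))) (A : Art Λ k) :
    Function.Surjective (η.app A) := fun y => by
  obtain ⟨x, hx⟩ := h0 (G.map (toBase A) y)
  obtain ⟨x', -, hx'⟩ := h (toBase A) A.res_surjective x y hx.symm
  exact ⟨x', hx'⟩

/-- `H̄`, `H_ε` and `H` imply bijectivity for all squares along small extensions. -/
theorem cmp_injective_of_hsq (h1 : Hbar F) (h2 : Heps F) (h4 : HSq F)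
    ⦃B A A' A'' : Art Λ k⦄ (p' : B ⟶ A') (p'' : B ⟶ A'') (f' : A' ⟶ A) (f'' : A'' ⟶ A)
    (h : IsFibreProd p' p'' f' f'') (hf : IsSmallExt f'') : Function.Injective (cmp F h) := by
  rw [cmp_inj_iff]
  intro z₁ z₂ e' e''
  obtain ⟨t'', ht'', ht0'', hm''⟩ := exists_generator hf
  obtain ⟨t, htt, ht, ht0, hm⟩ := exists_kernel_generator h ht'' ht0'' hm''
  obtain ⟨P, p₁, p₂, hP⟩ := exists_isFibreProd p' p' (surjective_fst h hf.1)
  obtain ⟨g, hg⟩ := exists_diffMap ht ht0 hm hP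
  have hT := tangentSquare_of_spec ht ht0 hm hP hg
  obtain ⟨P'', q₁, q₂, hQ⟩ := exists_isFibreProd f'' f'' hf.1
  obtain ⟨g'', hg''⟩ := exists_diffMap ht'' ht0'' hm'' hQ
  obtain ⟨r, hr₁, hr₂⟩ := exists_lift hQ (p₁ ≫ p'') (p₂ ≫ p'')
    (by rw [Category.assoc, Category.assoc, ← h.w, ← Category.assoc, hP.w, Category.assoc])
  have hgr : g = r ≫ g'' := dual_ext fun z => by
    obtain ⟨b, hb, hb'⟩ := hg z
    obtain ⟨c, hc, hc'⟩ := hg'' (r z)
    have e₁ : q₁ (r z) = p'' (p₁ z) := congrArg (fun m : P ⟶ A'' => m z) hr₁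
    have e₂ : q₂ (r z) = p'' (p₂ z) := congrArg (fun m : P ⟶ A'' => m z) hr₂
    change _ = TrivSqZeroExt.snd (g'' (r z))
    rw [e₁, e₂, hb, map_add, map_mul, htt, add_right_inj] at hc
    rw [← hb', ← hc', ← res_app p'' b, ← coef_eq ht0'' hm'' (a := p'' b * t'') rfl,
      coef_eq ht0'' hm'' hc]
  obtain ⟨w, hw₁, hw₂⟩ := (cmp_surj_iff F hP).1
    (h1 _ _ _ _ hP (isSmallExt_of_ker_eq_span (surjective_fst h hf.1) ht ht0 hm)) z₁ z₂ e'
  obtain ⟨Δ, hΔ₁, hΔ₂⟩ := exists_lift hP (𝟙 B) (𝟙 B) rfl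
  obtain ⟨Δ'', hΔ₁'', hΔ₂''⟩ := exists_lift hQ (𝟙 A'') (𝟙 A'') rfl
  have hrw : F.map r w = F.map Δ'' (F.map p'' z₁) :=
    (cmp_inj_iff F hQ).1 (h4 _ _ _ hQ hf).1 _ _
      (by simp only [map_map, Category.assoc, hr₁, hΔ₁'', Category.comp_id]
          rw [← map_map F, hw₁])
      (by simp only [map_map, Category.assoc, hr₂, hΔ₂'', Category.comp_id]
          rw [← map_map F, hw₂, e''])
  have hd'' : Δ'' ≫ g'' = toBase A'' ≫ baseToDual :=
    (tangentSquare_of_spec ht'' ht0'' hm'' hQ hg'').diag Δ'' hΔ₁'' hΔ₂''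
  have hgw : F.map g w = F.map g (F.map Δ z₁) := by
    rw [hgr, ← map_map, hrw, map_map, map_map, hd'', map_map, ← hgr, hT.diag Δ hΔ₁ hΔ₂,
      ← Category.assoc, eq_toBase (p'' ≫ toBase A'')]
  have hw : w = F.map Δ z₁ := (cmp_inj_iff F hT.split).1 (h2 _ _ hT.split).1 _ _
    (by rw [hw₁, map_map, hΔ₁, map_id_app]) hgw
  rw [← hw₂, hw, map_map, hΔ₂, map_id_app]

end Torsor

end Groth.Agent.ArtFunLib
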