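import Groth.Agent.S15128
import Groth.Agent.S15129
import Mathlib.RingTheory.Regular.RegularSequence
import Mathlib.RingTheory.Noetherian.OfPrime
import Mathlib.RingTheory.Nakayama
import Mathlib.RingTheory.Finiteness.Ideal

/-!
Regular sequences and flat quotients over an Artinian local base.
-/

universe u

open scoped TensorProduct

namespace Groth.Agent.ArtFunLib.FlatSeq

open IsLocalRing

variable {C R : Type u} [CommRing C] [IsLocalRing C] [CommRing R] [Algebra C R]

local notation "mR" => Ideal.map (algebraMap C R) (maximalIdeal C)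

lemma mem_smul_top_iff (I : Ideal R) (x : I) :
    x ∈ maximalIdeal C • (⊤ : Submodule C I) ↔ (x : R) ∈ mR * I := by
  have h : (maximalIdeal C • (⊤ : Submodule C I)).map (I.subtype.restrictScalars C) =
      (mR * I).restrictScalars C := by
    rw [Submodule.map_smul'', Submodule.map_top, ← smul_eq_mul, Ideal.smul_restrictScalars]
    congr 1
    exact Submodule.ext fun y => ⟨fun ⟨z, hz⟩ => hz ▸ z.2, fun hy => ⟨⟨y, hy⟩, rfl⟩⟩
  rw [← Submodule.restrictScalars_mem C (mR * I), ← h]
  exact ⟨fun hx => ⟨x, hx, rfl⟩, fun ⟨z, hz, he⟩ => Subtype.ext he ▸ hz⟩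

lemma mem_smul_top_iff_quot (I : Ideal R) (x : R) :
    (Submodule.Quotient.mk x : R ⧸ I) ∈ maximalIdeal C • (⊤ : Submodule C (R ⧸ I)) ↔ x ∈ mR ⊔ I := by
  have h : maximalIdeal C • (⊤ : Submodule C (R ⧸ I)) =
      (maximalIdeal C • (⊤ : Submodule C R)).map ((I.mkQ).restrictScalars C) := by
    have hr : LinearMap.range ((I.mkQ).restrictScalars C) = ⊤ :=
      LinearMap.range_eq_top.2 (Submodule.mkQ_surjective I)
    rw [Submodule.map_smul'', Submodule.map_top]
    exact congrArg _ hr.symm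
  rw [h, Ideal.smul_top_eq_map]
  refine ⟨fun ⟨y, hy, he⟩ => ?_, fun hx => ?_⟩
  · rw [show x = y + (x - y) by ring]
    exact Submodule.add_mem_sup hy ((Submodule.Quotient.eq I).1 he.symm)
  · obtain ⟨y, hy, i, hi, rfl⟩ := Submodule.mem_sup.1 hx
    exact ⟨y, hy, (Submodule.Quotient.eq I).2 (by simpa using hi)⟩

variable [IsArtinianRing C]

/-- A quotient of a flat algebra is flat iff `I ∩ m R = m I`. -/
theorem flat_quotient_iff [Module.Flat C R] (I : Ideal R) :
    Module.Flat C (R ⧸ I) ↔ I ⊓ mR ≤ mR * I := by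
  obtain ⟨h₁, h₂⟩ := S15129.result C I R (R ⧸ I) (I.subtype.restrictScalars C)
    ((I.mkQ).restrictScalars C) Subtype.val_injective (Submodule.mkQ_surjective I)
    (fun y => ⟨fun hy => ⟨⟨y, (Submodule.Quotient.mk_eq_zero I).1 hy⟩, rfl⟩,
      fun ⟨z, hz⟩ => hz ▸ (Submodule.Quotient.mk_eq_zero I).2 z.2⟩)
  have key : ∀ x : I, (1 : ResidueField C) ⊗ₜ[C] x = 0 ↔ (x : R) ∈ mR * I := fun x =>
    (S15129.one_tmul_eq_zero_iff x).trans (mem_smul_top_iff I x)
  have key' : ∀ x : R, (1 : ResidueField C) ⊗ₜ[C] x = 0 ↔ x ∈ mR := fun x => by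
    rw [S15129.one_tmul_eq_zero_iff, Ideal.smul_top_eq_map]
    rfl
  refine ⟨fun h x hx => (key ⟨x, hx.1⟩).1 ?_, fun h => h₁ ?_⟩
  · refine (h₂ h).2 ?_
    rw [LinearMap.lTensor_tmul, map_zero]
    exact (key' x).2 hx.2
  · rw [injective_iff_map_eq_zero]
    intro z hz
    obtain ⟨x, rfl⟩ := TensorProduct.mk_surjective C I (ResidueField C) Ideal.Quotient.mk_surjective z
    rw [TensorProduct.mk_apply, LinearMap.lTensor_tmul] at hz
    exact (key x).2 (h ⟨x.2, (key' _).1 hz⟩)

/-- Lifting a regular element from the closed fibre. -/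
theorem regular_and_flat_succ [Module.Flat C R] (I : Ideal R) [Module.Flat C (R ⧸ I)] (a : R)
    (hfib : ∀ v, a * v ∈ mR ⊔ I → v ∈ mR ⊔ I) :
    (∀ v, a * v ∈ I → v ∈ I) ∧ Module.Flat C (R ⧸ (I ⊔ Ideal.span {a})) := by
  refine ⟨fun v hv => ?_, (flat_quotient_iff _).2 fun y hy => ?_⟩
  · let h : (R ⧸ I) →ₗ[C] (R ⧸ I) := LinearMap.mulLeft C (Ideal.Quotient.mk I a)
    have hinj : Function.Injective h := by
      refine (S15128.result C (R ⧸ I) (R ⧸ I) h).1 ?_
      rw [injective_iff_map_eq_zero]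
      intro z hz
      obtain ⟨x, rfl⟩ := TensorProduct.mk_surjective C (R ⧸ I) (ResidueField C) Ideal.Quotient.mk_surjective z
      obtain ⟨x, rfl⟩ := Ideal.Quotient.mk_surjective x
      rw [TensorProduct.mk_apply, LinearMap.lTensor_tmul, S15129.one_tmul_eq_zero_iff] at hz
      rw [TensorProduct.mk_apply, S15129.one_tmul_eq_zero_iff]
      exact (mem_smul_top_iff_quot I x).2 (hfib x ((mem_smul_top_iff_quot I (a * x)).1 hz))
    rw [← Ideal.Quotient.eq_zero_iff_mem] at hv ⊢
    exact hinj (hv.trans (map_zero h).symm)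
  · obtain ⟨hyI, hym⟩ := hy
    obtain ⟨i, hi, b, hb, rfl⟩ := Submodule.mem_sup.1 hyI
    obtain ⟨v, rfl⟩ := Ideal.mem_span_singleton'.1 hb
    have h1 : a * v ∈ mR ⊔ I := by
      rw [show a * v = (i + v * a) - i by ring]
      exact sub_mem (Submodule.mem_sup_left hym) (Submodule.mem_sup_right hi)
    obtain ⟨w, hw, i', hi', rfl⟩ := Submodule.mem_sup.1 (hfib v h1)
    have h2 : i + i' * a ∈ I ⊓ mR := ⟨add_mem hi (Ideal.mul_mem_right _ _ hi'), by
      rw [show i + i' * a = (i + (w + i') * a) - w * a by ring]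
      exact sub_mem hym (Ideal.mul_mem_right _ _ hw)⟩
    rw [show i + (w + i') * a = (i + i' * a) + w * a by ring, Ideal.mul_sup]
    exact add_mem (Submodule.mem_sup_left ((flat_quotient_iff I).1 inferInstance h2))
      (Submodule.mem_sup_right (Ideal.mul_mem_mul hw (Ideal.mem_span_singleton_self a)))

/-- If a regular element has flat quotient, the ring has flat quotient and the element is regular
on the closed fibre. -/
theorem flat_and_fib_of_succ [Module.Flat C R] [IsNoetherianRing R] (I : Ideal R) (a : R)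
    (ha : a ∈ Ideal.jacobson (⊥ : Ideal R)) (hreg : ∀ v, a * v ∈ I → v ∈ I)
    [Module.Flat C (R ⧸ ((I ⊔ Ideal.span {a} : Ideal R)))] :
    Module.Flat C (R ⧸ I) ∧ ∀ v, a * v ∈ mR ⊔ I → v ∈ mR ⊔ I := by
  have hflat := (flat_quotient_iff (C := C) (I ⊔ Ideal.span {a})).1 inferInstance
  have key : ∀ y ∈ (I ⊔ Ideal.span {a}) ⊓ mR, ∃ u ∈ mR * I, ∃ c ∈ mR, y = u + a * c := fun y hy => by
    have h := hflat hy
    rw [Ideal.mul_sup, Submodule.mem_sup] at h
    obtain ⟨u, hu, d, hd, rfl⟩ := h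
    obtain ⟨c, hc, rfl⟩ := Ideal.mem_mul_span_singleton.1 hd
    exact ⟨u, hu, c, hc, by ring⟩
  refine ⟨(flat_quotient_iff I).2 ?_, fun v hv => ?_⟩
  · refine Submodule.le_of_le_smul_of_le_jacobson_bot (I := Ideal.span {a}) (IsNoetherian.noetherian _)
      ((Ideal.span_singleton_le_iff_mem _).2 ha) fun y hy => ?_
    obtain ⟨u, hu, c, hc, rfl⟩ := key y ⟨Submodule.mem_sup_left hy.1, hy.2⟩
    have hcI : c ∈ I := hreg c (by
      rw [show a * c = (u + a * c) - u by ring]
      exact sub_mem hy.1 (Ideal.mul_le_right hu))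
    exact Submodule.add_mem_sup hu (Submodule.smul_mem_smul (Ideal.mem_span_singleton_self a) ⟨hcI, hc⟩)
  · obtain ⟨w, hw, i, hi, he⟩ := Submodule.mem_sup.1 hv
    obtain ⟨u, hu, c, hc, he'⟩ := key w ⟨by
      rw [show w = -i + v * a by linear_combination he]
      exact add_mem (Submodule.mem_sup_left (neg_mem hi))
        (Submodule.mem_sup_right (Ideal.mem_span_singleton'.2 ⟨v, rfl⟩)), hw⟩
    have h1 : v - c ∈ I := hreg _ (by
      rw [show a * (v - c) = u + i by linear_combination he' - he]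
      exact add_mem (Ideal.mul_le_right hu) hi)
    rw [show v = c + (v - c) by ring]
    exact Submodule.add_mem_sup hc h1

/-- The prefix ideals of a finite sequence. -/
def prefixIdeal {S : Type*} [CommRing S] {r : ℕ} (a : Fin r → S) (i : ℕ) : Ideal S :=
  Ideal.ofList ((List.ofFn a).take i)

lemma prefixIdeal_last {S : Type*} [CommRing S] {r : ℕ} (a : Fin r → S) :
    prefixIdeal a r = Ideal.span (Set.range a) := by
  unfold prefixIdeal
  rw [List.take_of_length_le (by simp)]
  unfold Ideal.ofList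
  congr 1
  ext x
  simp [List.mem_ofFn]

lemma prefixIdeal_succ {S : Type*} [CommRing S] {r : ℕ} (a : Fin r → S) (i : Fin r) :
    prefixIdeal a (i + 1) = prefixIdeal a i ⊔ Ideal.span {a i} := by
  unfold prefixIdeal
  rw [List.take_succ_eq_append_getElem (by simp), Ideal.ofList_append, Ideal.ofList_singleton]
  simp

lemma prefixIdeal_zero {S : Type*} [CommRing S] {r : ℕ} (a : Fin r → S) : prefixIdeal a 0 = ⊥ := by
  simp [prefixIdeal]

lemma isWeaklyRegular_iff {S : Type*} [CommRing S] {r : ℕ} (a : Fin r → S) :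
    RingTheory.Sequence.IsWeaklyRegular S (List.ofFn a) ↔
      ∀ i : Fin r, ∀ v, a i * v ∈ prefixIdeal a i → v ∈ prefixIdeal a i := by
  have aux : ∀ (I : Ideal S) (x : S),
      IsSMulRegular (S ⧸ (I • ⊤ : Submodule S S)) x ↔ ∀ v, x * v ∈ I → v ∈ I := fun I x => by
    rw [show (I • ⊤ : Submodule S S) = I from Ideal.mul_top I]
    refine ⟨fun h v hv => ?_, fun h => ?_⟩
    · rw [← Submodule.Quotient.mk_eq_zero I]
      refine h ?_
      change x • (Submodule.Quotient.mk v : S ⧸ I) = x • (0 : S ⧸ I)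
      rw [smul_zero, ← Submodule.Quotient.mk_smul, Submodule.Quotient.mk_eq_zero]
      exact hv
    · intro p q hpq
      obtain ⟨p, rfl⟩ := Submodule.Quotient.mk_surjective I p
      obtain ⟨q, rfl⟩ := Submodule.Quotient.mk_surjective I q
      refine (Submodule.Quotient.eq I).2 (h _ ?_)
      have h2 := (Submodule.Quotient.eq I).1 hpq
      simpa [mul_sub] using h2
  refine ⟨fun h i v hv => ?_, fun h => ⟨fun i hi => ?_⟩⟩
  · have := (aux _ _).1 (h.regular_mod_prev i (by simp)) v
    simpa [prefixIdeal, hv] using this (by simpa [prefixIdeal] using hv)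
  · rw [aux]
    have hi' : i < r := by simpa using hi
    intro v hv
    simpa [prefixIdeal] using h ⟨i, hi'⟩ v (by simpa [prefixIdeal] using hv)

theorem fib_of_isWeaklyRegular [Module.Flat C R] [IsNoetherianRing R] {r : ℕ} (a : Fin r → R)
    (ha : ∀ i, a i ∈ Ideal.jacobson (⊥ : Ideal R))
    (hreg : RingTheory.Sequence.IsWeaklyRegular R (List.ofFn a))
    [h : Module.Flat C (R ⧸ Ideal.span (Set.range a))] (i : Fin r) :
    ∀ v, a i * v ∈ mR ⊔ prefixIdeal a i → v ∈ mR ⊔ prefixIdeal a i := by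
  have hfl : ∀ d, ∀ j, j + d = r → Module.Flat C (R ⧸ prefixIdeal a j) := by
    intro d
    induction d with
    | zero =>
      intro j hj
      rw [show j = r by omega, prefixIdeal_last]
      exact h
    | succ d ih =>
      intro j hj
      haveI := ih (j + 1) (by omega)
      haveI : Module.Flat C (R ⧸ (prefixIdeal a j ⊔ Ideal.span {a ⟨j, by omega⟩})) := by
        rw [← prefixIdeal_succ a ⟨j, by omega⟩]; infer_instance
      exact (flat_and_fib_of_succ _ _ (ha _) ((isWeaklyRegular_iff a).1 hreg ⟨j, (show j < r by omega)⟩)).1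
  haveI := hfl (r - (i + 1)) (i + 1) (by omega)
  haveI : Module.Flat C (R ⧸ (prefixIdeal a i ⊔ Ideal.span {a i})) := by
    rw [← prefixIdeal_succ]; infer_instance
  exact (flat_and_fib_of_succ _ _ (ha i) ((isWeaklyRegular_iff a).1 hreg i)).2

theorem isWeaklyRegular_of_fib [Module.Flat C R] {r : ℕ} (a : Fin r → R)
    (hfib : ∀ (i : Fin r), ∀ v, a i * v ∈ mR ⊔ prefixIdeal a i → v ∈ mR ⊔ prefixIdeal a i) :
    RingTheory.Sequence.IsWeaklyRegular R (List.ofFn a) ∧
      Module.Flat C (R ⧸ Ideal.span (Set.range a)) := by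
  have hfl : ∀ j, j ≤ r → Module.Flat C (R ⧸ prefixIdeal a j) := by
    intro j
    induction j with
    | zero =>
      intro _
      rw [prefixIdeal_zero]
      exact Module.Flat.of_linearEquiv (AlgEquiv.quotientBot C R).toLinearEquiv
    | succ j ih =>
      intro hj
      haveI := ih (by omega)
      rw [prefixIdeal_succ a ⟨j, by omega⟩]
      exact (regular_and_flat_succ _ _ (hfib ⟨j, by omega⟩)).2
  refine ⟨(isWeaklyRegular_iff a).2 fun i => ?_, prefixIdeal_last a ▸ hfl r le_rfl⟩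
  haveI := hfl i i.isLt.le
  exact (regular_and_flat_succ _ _ (hfib i)).1

/-- Local Noetherian rings from a nilpotent ideal. -/
theorem isNoetherianRing_of_nilpotent {S : Type*} [CommRing S] (N : Ideal S) (hN : IsNilpotent N)
    (hfg : N.FG) [IsNoetherianRing (S ⧸ N)] : IsNoetherianRing S := by
  refine IsNoetherianRing.of_prime fun P hP => ?_
  have hle : N ≤ P := by
    obtain ⟨n, hn⟩ := hN
    exact Ideal.IsPrime.le_of_pow_le (n := n) (hn.trans_le bot_le)
  have h1 : (P.map (Ideal.Quotient.mk N)).FG := IsNoetherian.noetherian _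
  obtain ⟨Q, hQfg, hQ⟩ : ∃ Q : Ideal S, Q.FG ∧ Q.map (Ideal.Quotient.mk N) = P.map (Ideal.Quotient.mk N) := by
    obtain ⟨s, hs⟩ := h1
    classical
    choose f hf using fun x : S ⧸ N => Ideal.Quotient.mk_surjective x
    refine ⟨Ideal.span ((s.image f : Finset S) : Set S), ⟨_, rfl⟩, ?_⟩
    rw [Ideal.map_span, Finset.coe_image, Set.image_image, ← hs]
    simp [hf]
  have h2 : P = Q ⊔ N := by
    have := congrArg (Ideal.comap (Ideal.Quotient.mk N)) hQ
    rw [Ideal.comap_map_of_surjective' _ Ideal.Quotient.mk_surjective,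
      Ideal.comap_map_of_surjective' _ Ideal.Quotient.mk_surjective, Ideal.mk_ker] at this
    rw [this, sup_eq_left.2 hle]
  rw [h2]
  exact Submodule.FG.sup hQfg hfg

theorem isLocalRing_of_nilpotent {S : Type*} [CommRing S] (N : Ideal S) (hN : IsNilpotent N)
    [IsLocalRing (S ⧸ N)] : IsLocalRing S := by
  haveI : Nontrivial S := (Ideal.Quotient.mk N).domain_nontrivial
  haveI : IsLocalHom (Ideal.Quotient.mk N) := ⟨fun x hx => by
    obtain ⟨y, hy⟩ := Ideal.Quotient.mk_surjective (↑hx.unit⁻¹ : S ⧸ N)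
    have h1 : 1 - x * y ∈ N := by
      rw [← Ideal.Quotient.eq, map_one, map_mul, hy, IsUnit.mul_val_inv]
    obtain ⟨n, hn⟩ := hN
    have h2 : IsNilpotent (1 - x * y) := ⟨n, by
      have := Ideal.pow_mem_pow h1 n
      rwa [hn, Ideal.zero_eq_bot, Ideal.mem_bot] at this⟩
    have h3 := h2.isUnit_one_sub
    rw [sub_sub_cancel] at h3
    exact isUnit_of_mul_isUnit_left h3⟩
  exact RingHom.domain_isLocalRing (Ideal.Quotient.mk N)

end Groth.Agent.ArtFunLib.FlatSeq
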