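import Groth.Agent.ArtFunLib.Basic
import Groth.Prelude.Def_ArtFun2
import Mathlib.RingTheory.AdicCompletion.Basic

/-!
An object of `Art Λ k` as a coefficient ring.
-/

universe u

open CategoryTheory

namespace Groth.Agent.ArtFunLib

open ArtFun ArtFun.Art IsLocalRing

variable {Λ k : Type u} [CommRing Λ] [Field k] [Algebra Λ k]

theorem isAdicComplete_art (A : Art Λ k) : IsAdicComplete (maximalIdeal A) A := by
  obtain ⟨N, hN⟩ := maximalIdeal_pow_eq_bot A
  have key : ∀ {n : ℕ} {x y : A}, N + 1 ≤ n →
      x ≡ y [SMOD (maximalIdeal A ^ n • ⊤ : Submodule A A)] → x = y := fun {n x y} hn h => by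
    rw [SModEq.sub_mem, smul_eq_mul, Ideal.mul_top] at h
    have h' : x - y ∈ maximalIdeal A ^ (N + 1) := Ideal.pow_le_pow_right hn h
    rw [hN, Ideal.mem_bot] at h'
    exact sub_eq_zero.1 h'
  exact
    { haus' := fun x hx => key (y := 0) le_rfl (hx (N + 1))
      prec' := fun f hf => ⟨f (N + 1), fun n => by
        by_cases hn : n ≤ N + 1
        · exact hf hn
        · rw [key le_rfl (hf (m := N + 1) (n := n) (by omega))]⟩ }

/-- An object of `Art Λ k` is a coefficient ring. -/
def artCRing (A : Art Λ k) : CRing Λ k :=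
  { carrier := A.carrier
    isNoetherianRing := inferInstance
    res := A.res
    res_surjective := A.res_surjective
    isAdicComplete := isAdicComplete_art A }

end Groth.Agent.ArtFunLib
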