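import Groth.Agent.ArtFunLib.PowerSeries
import Groth.Prelude.Def_ArtFun3
import Groth.Agent.S12708
import Mathlib.RingTheory.LocalRing.Length
import Mathlib.RingTheory.Finiteness.Basic

/-!
Smooth morphisms of coefficient rings are power series extensions; versal families split off
minimal versal ones.
-/

universe u v w

open CategoryTheory

namespace Groth.Agent.ArtFunLib

open ArtFun ArtFun.Art IsLocalRing

variable {Λ k : Type u} [CommRing Λ] [Field k] [Algebra Λ k]

theorem truncHom_surjective (P : CRing Λ k) (N : ℕ) : Function.Surjective (P.truncHom N).1 :=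
  Ideal.Quotient.mk_surjective

theorem eq_of_along_self {R P : CRing Λ k} {f g : R.carrier →ₐ[Λ] P.carrier} (hf : P.res.comp f = R.res)
    (hg : P.res.comp g = R.res)
    (h : (Family.self R.carrier R.res).along f hf = (Family.self R.carrier R.res).along g hg) : f = g :=
  eq_of_trunc_eq fun n =>
    congrArg (fun ξ : Family P.carrier P.res (hR R.carrier R.res) =>
      (show HomSet R.carrier R.res (P.trunc n) from ξ.app _ (P.truncHom n)).1) h

theorem apply_mem_maximalIdeal_pow {R S : CRing Λ k} (f : R.carrier →ₐ[Λ] S.carrier)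
    (hf : S.res.comp f = R.res) {N : ℕ} {a : R.carrier} (ha : a ∈ maximalIdeal R.carrier ^ N) :
    f a ∈ maximalIdeal S.carrier ^ N :=
  apply_mem_pow f (maximalIdeal R.carrier) (maximalIdeal S.carrier)
    (fun _ hw => CRing.maximalIdeal_le_comap f hf hw) _ ha

/-- If `θ : R[[X]] → S` hits irredundant relative generators and is approximately split by versality,
it is bijective. -/
theorem bijective_psHom_of_versal {R S : CRing Λ k} (f : R.carrier →ₐ[Λ] S.carrier)
    (hf : S.res.comp f = R.res) {n : ℕ} (x : Fin n → S.carrier)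
    (hgen : maximalIdeal S.carrier ≤ Ideal.span (Set.range x) ⊔ Ideal.map f (maximalIdeal R.carrier) ⊔ maximalIdeal S.carrier ^ 2)
    (θ : (psRing R n).carrier →ₐ[Λ] S.carrier) (hθ : S.res.comp θ = (psRing R n).res)
    (hθC : θ.comp (psC R n) = f) (hθX : ∀ i, θ (psX R n i) = x i)
    (I : Ideal R.carrier) (hI : I ≤ maximalIdeal R.carrier)
    (hsub : ∀ z ∈ maximalIdeal (psRing R n).carrier, θ z ∈ Ideal.map f I ⊔ maximalIdeal S.carrier ^ 2 →
      z ∈ Ideal.map (psC R n) I ⊔ maximalIdeal (psRing R n).carrier ^ 2)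
    {G : Art Λ k ⥤ Type v} (ξ : Family S.carrier S.res G) (hξ : IsVersal ξ)
    (u : Family (psRing R n).carrier (psRing R n).res G) (hu : u.along θ hθ = ξ)
    (hC : ∀ (g : S.carrier →ₐ[Λ] (psRing R n).carrier) (hg : (psRing R n).res.comp g = S.res),
      ξ.along g hg = u → (∀ z, g (θ z) - z ∈ Ideal.map (psC R n) I ⊔ maximalIdeal (psRing R n).carrier ^ 2) →
        maximalIdeal R.carrier ≤
        (Ideal.map (g.comp θ) (maximalIdeal (psRing R n).carrier) ⊔ maximalIdeal (psRing R n).carrier ^ 2).comap (psC R n)) :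
    Function.Bijective θ := by
  have hθs := surjective_psHom f hf θ hθ hθC x hθX hgen
  let P := psRing R n
  let J := Ideal.map f I ⊔ maximalIdeal S.carrier ^ 2
  have hkm : RingHom.ker S.res = maximalIdeal S.carrier :=
    Ideal.ext fun a => ((CRing.mem_maximalIdeal_iff S a).trans RingHom.mem_ker.symm).symm
  have hJm : J ≤ maximalIdeal S.carrier := sup_le (Ideal.map_le_iff_le_comap.2 (hI.trans (CRing.maximalIdeal_le_comap f hf)))
    (Ideal.pow_le_self two_ne_zero)
  obtain ⟨A, π, hπ, hπk, hπr⟩ := exists_artQuot S.res_surjective J (hJm.trans hkm.ge) 2 (hkm ▸ le_sup_right)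
  let φA : HomSet S.carrier S.res A := ⟨π, hπr⟩
  let πθ : HomSet P.carrier P.res A := ⟨π.comp θ, by rw [← AlgHom.comp_assoc, hπr, hθ]⟩
  have hk1 : CRing.mpow P 1 ≤ RingHom.ker πθ.1 := fun a ha => by
    change π (θ a) = 0
    rw [← RingHom.mem_ker, hπk]
    exact Submodule.mem_sup_right (apply_mem_pow θ (maximalIdeal (psRing R n).carrier) (maximalIdeal S.carrier) (fun b hb => CRing.maximalIdeal_le_comap θ hθ hb) _ ha)
  let μ := truncFactor P πθ 1 hk1
  have hμ : Function.Surjective μ := fun a => by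
    obtain ⟨s, rfl⟩ := hπ a
    obtain ⟨p, rfl⟩ := hθs s
    exact ⟨Ideal.Quotient.mk _ p, rfl⟩
  obtain ⟨ψ₁, hψ₁μ, hψ₁u⟩ := hξ μ hμ φA (u.app _ (P.truncHom 1)) (by
    rw [← u.natural, map_truncFactor P πθ 1 hk1, ← hu]
    rfl)
  have hlift : ∀ N (ψ : HomSet S.carrier S.res (P.trunc (N + 1))),
      ξ.app _ ψ = u.app _ (P.truncHom (N + 1)) →
      ∃ ψ', HomSet.map (P.truncMap (N + 1)) ψ' = ψ ∧ ξ.app _ ψ' = u.app _ (P.truncHom (N + 1 + 1)) :=
    fun N ψ hψ => hξ _ (truncMap_surjective P (N + 1)) ψ _ (by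
      rw [hψ, ← u.natural]
      exact congrArg (u.app _) (Subtype.ext (AlgHom.ext fun _ => rfl)))
  choose next hn₁ hn₂ using hlift
  let w : ∀ N, {ψ : HomSet S.carrier S.res (P.trunc (N + 1)) // ξ.app _ ψ = u.app _ (P.truncHom (N + 1))} := fun N =>
    Nat.rec ⟨ψ₁, hψ₁u⟩ (fun N ψ => ⟨next N ψ.1 ψ.2, hn₂ N ψ.1 ψ.2⟩) N
  obtain ⟨g, hg, hgn⟩ := exists_hom_of_compat (fun N => HomSet.map (P.truncMap N) (w N).1)
    (fun N => congrArg (HomSet.map (P.truncMap N)) (hn₁ N (w N).1 (w N).2))
  have hgu : ξ.along g hg = u := toFormalElt_injective (FormalElt.ext' fun N => by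
    refine Eq.trans (congrArg (ξ.app _) (Subtype.ext (hgn N))) ?_
    rw [ξ.natural, (w N).2, ← u.natural]
    exact congrArg (u.app _) (Subtype.ext (AlgHom.ext fun _ => rfl)))
  have hgπ : ∀ s, π (θ (g s)) = π s := fun s => by
    have e1 : (P.truncHom 1).1 (g s) = ψ₁.1 s := by
      have h1 := congrArg (fun t : S.carrier →ₐ[Λ] (P.trunc 1) => t s) (hgn 1)
      refine h1.trans ?_
      exact congrArg (fun t : HomSet S.carrier S.res (P.trunc 1) => t.1 s) (hn₁ 0 (w 0).1 (w 0).2)
    refine Eq.trans ?_ (congrArg (fun t : HomSet S.carrier S.res A => t.1 s) hψ₁μ)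
    change π (θ (g s)) = μ (ψ₁.1 s)
    rw [← e1]
    rfl
  have hclose : ∀ z, g (θ z) - z ∈ Ideal.map (psC R n) I ⊔ maximalIdeal (psRing R n).carrier ^ 2 := fun z => by
    have hzJ : θ (g (θ z) - z) ∈ J := by
      rw [← hπk, RingHom.mem_ker, map_sub, map_sub, hgπ, sub_self]
    refine hsub _ ?_ hzJ
    rw [CRing.mem_maximalIdeal_iff, map_sub, CRing.res_comp_apply g hg, CRing.res_comp_apply θ hθ, sub_self]
  have hbij := bijective_psEnd (g.comp θ) (by rw [← AlgHom.comp_assoc, hg, hθ]) (hC g hg hgu hclose)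
    (fun i => (sup_le ((Ideal.map_mono hI).trans le_sup_left) le_sup_right : Ideal.map (psC R n) I ⊔ maximalIdeal (psRing R n).carrier ^ 2 ≤ Ideal.map (psC R n) (maximalIdeal R.carrier) ⊔ maximalIdeal (psRing R n).carrier ^ 2) (hclose (psX R n i)))
  exact ⟨fun a b h => hbij.1 (congrArg g h), hθs⟩

/-- Irredundant relative generators separate the relative cotangent space. -/
theorem sub_mem_of_rel_gens {R S : CRing Λ k} (f : R.carrier →ₐ[Λ] S.carrier) (hf : S.res.comp f = R.res)
    {n : ℕ} (x : Fin n → S.carrier)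
    (hind : ∀ c : Fin n → S.carrier, ∑ i, c i * x i ∈ Ideal.map f (maximalIdeal R.carrier) ⊔ maximalIdeal S.carrier ^ 2 →
      ∀ i, c i ∈ maximalIdeal S.carrier)
    (θ : (psRing R n).carrier →ₐ[Λ] S.carrier) (hθ : S.res.comp θ = (psRing R n).res)
    (hθC : θ.comp (psC R n) = f) (hθX : ∀ i, θ (psX R n i) = x i)
    (z : (psRing R n).carrier) (hzm : z ∈ maximalIdeal (psRing R n).carrier)
    (hzJ : θ z ∈ Ideal.map f (maximalIdeal R.carrier) ⊔ maximalIdeal S.carrier ^ 2) :
    ∃ (a : (psRing R n).carrier) (c : Fin n → (psRing R n).carrier), a ∈ Ideal.map (psC R n) (maximalIdeal R.carrier) ∧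
      (∀ i, c i ∈ maximalIdeal (psRing R n).carrier) ∧ z = a + ∑ i, c i * psX R n i := by
  rw [maximalIdeal_psRing] at hzm
  obtain ⟨a, ha, b, hb, rfl⟩ := Submodule.mem_sup.1 hzm
  obtain ⟨c, rfl⟩ := (Submodule.mem_span_range_iff_exists_fun _).1 hb
  have ha' : θ a ∈ Ideal.map f (maximalIdeal R.carrier) ⊔ maximalIdeal S.carrier ^ 2 := by
    have := Ideal.mem_map_of_mem θ ha
    rw [Ideal.map_mapₐ, hθC] at this
    exact Submodule.mem_sup_left this
  have hc : ∑ i, θ (c i) * x i ∈ Ideal.map f (maximalIdeal R.carrier) ⊔ maximalIdeal S.carrier ^ 2 := by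
    rw [map_add, map_sum] at hzJ
    simp only [smul_eq_mul, map_mul, hθX] at hzJ
    exact (Ideal.add_mem_iff_right _ ha').1 hzJ
  refine ⟨a, c, ha, fun i => ?_, rfl⟩
  rw [CRing.mem_maximalIdeal_iff, ← CRing.res_comp_apply θ hθ, ← CRing.mem_maximalIdeal_iff]
  exact hind _ hc i

/-- A smooth morphism of coefficient rings is a power series extension. -/
theorem exists_psIso_of_versal {R S : CRing Λ k} (f : R.carrier →ₐ[Λ] S.carrier)
    (hf : S.res.comp f = R.res) (hξ : IsVersal ((Family.self R.carrier R.res).along f hf)) :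
    ∃ (n : ℕ) (θ : (psRing R n).carrier →ₐ[Λ] S.carrier),
      S.res.comp θ = (psRing R n).res ∧ θ.comp (psC R n) = f ∧ Function.Bijective θ := by
  obtain ⟨n, x, hxm, hgen, hind⟩ := exists_rel_gens f hf (maximalIdeal S.carrier) le_rfl
    (le_sup_left.trans le_sup_left)
  obtain ⟨θ, hθ, hθC, hθX⟩ := exists_psHom f hf x fun i => (CRing.mem_maximalIdeal_iff S _).1 (hxm i)
  refine ⟨n, θ, hθ, hθC, bijective_psHom_of_versal f hf x hgen θ hθ hθC hθX (maximalIdeal R.carrier) le_rfl
    ?_ _ hξ ((Family.self R.carrier R.res).along (psC R n) (psC_res R n)) ?_ ?_⟩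
  · intro z hzm hzJ
    obtain ⟨a, c, ha, hc, rfl⟩ := sub_mem_of_rel_gens f hf x hind θ hθ hθC hθX z hzm hzJ
    exact Ideal.add_mem _ (Submodule.mem_sup_left ha) (Submodule.mem_sup_right (Ideal.sum_mem _ fun i _ => by
      rw [pow_two]
      exact Ideal.mul_mem_mul (hc i) ((CRing.mem_maximalIdeal_iff _ _).2 (psX_res R n i))))
  · subst hθC
    exact toFormalElt_injective (FormalElt.ext' fun N => Subtype.ext rfl)
  · intro g hg e _ a ha
    have hgf : g.comp f = psC R n := eq_of_along_self (by rw [← AlgHom.comp_assoc, hg, hf]) (psC_res R n)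
      (Eq.trans (toFormalElt_injective (FormalElt.ext' fun N => Subtype.ext rfl)) e)
    refine Submodule.mem_sup_left ?_
    rw [← hgf, ← hθC, ← AlgHom.comp_assoc]
    exact Ideal.mem_map_of_mem _ (CRing.maximalIdeal_le_comap _ (psC_res R n) ha)

/-- Versality passes to retracts. -/
theorem isVersal_along_of_retract {R S : CRing Λ k} {F : Art Λ k ⥤ Type v} {ξ : Family R.carrier R.res F}
    (hξ : IsVersal ξ) (p : R.carrier →ₐ[Λ] S.carrier) (hp : S.res.comp p = R.res)
    (g : S.carrier →ₐ[Λ] R.carrier) (hg : R.res.comp g = S.res) (hpg : p.comp g = AlgHom.id Λ S.carrier)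
    (e : (ξ.along p hp).along g hg = ξ) : IsVersal (ξ.along p hp) := by
  intro B A μ hμ φ y hy
  let φ' : HomSet R.carrier R.res A := ⟨φ.1.comp p, by rw [← AlgHom.comp_assoc, φ.2, hp]⟩
  obtain ⟨ψ, hψμ, hψy⟩ := hξ μ hμ φ' y hy
  refine ⟨⟨ψ.1.comp g, by rw [← AlgHom.comp_assoc, ψ.2, hg]⟩, Subtype.ext ?_, ?_⟩
  · change μ.toAlgHom.comp (ψ.1.comp g) = φ.1
    rw [← AlgHom.comp_assoc, show μ.toAlgHom.comp ψ.1 = φ'.1 from congrArg Subtype.val hψμ]
    change (φ.1.comp p).comp g = φ.1
    rw [AlgHom.comp_assoc, hpg, AlgHom.comp_id]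
  · exact (congrArg (fun t : Family R.carrier R.res F => t.app B ψ) e).trans hψy

theorem family_along_id {R : CRing Λ k} {F : Art Λ k ⥤ Type v} (ξ : Family R.carrier R.res F)
    (h : R.res.comp (AlgHom.id Λ R.carrier) = R.res) : ξ.along (AlgHom.id Λ R.carrier) h = ξ :=
  toFormalElt_injective (FormalElt.ext' fun _ => rfl)

theorem family_along_along {R S T : CRing Λ k} {F : Art Λ k ⥤ Type v} (ξ : Family R.carrier R.res F)
    (f : R.carrier →ₐ[Λ] S.carrier) (hf : S.res.comp f = R.res) (g : S.carrier →ₐ[Λ] T.carrier)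
    (hg : T.res.comp g = S.res) (h : T.res.comp (g.comp f) = R.res) :
    (ξ.along f hf).along g hg = ξ.along (g.comp f) h :=
  toFormalElt_injective (FormalElt.ext' fun _ => rfl)

theorem family_along_congr {R S : CRing Λ k} {F : Art Λ k ⥤ Type v} (ξ : Family R.carrier R.res F)
    {f f' : R.carrier →ₐ[Λ] S.carrier} (e : f = f') (hf : S.res.comp f = R.res) (hf' : S.res.comp f' = R.res) :
    ξ.along f hf = ξ.along f' hf' := by
  subst e; rfl

/-- The composite form of transport along an isomorphism. -/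
theorem isVersal_of_bijective {R S : CRing Λ k} {F : Art Λ k ⥤ Type v} (θ : R.carrier →ₐ[Λ] S.carrier)
    (hθ : S.res.comp θ = R.res) (hb : Function.Bijective θ) {ξ : Family R.carrier R.res F}
    (hξ : IsVersal ξ) : IsVersal (ξ.along θ hθ) := by
  let e := AlgEquiv.ofBijective θ hb
  have hg : R.res.comp e.symm.toAlgHom = S.res := AlgHom.ext fun s => by
    refine (CRing.res_comp_apply θ hθ (e.symm s)).symm.trans ?_
    exact congrArg S.res (e.apply_symm_apply s)
  have h1 : e.symm.toAlgHom.comp θ = AlgHom.id Λ R.carrier := AlgHom.ext fun a => e.symm_apply_apply a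
  refine isVersal_along_of_retract hξ θ hθ e.symm.toAlgHom hg (AlgHom.ext fun s => e.apply_symm_apply s) ?_
  rw [family_along_along ξ θ hθ _ hg (by rw [h1, AlgHom.comp_id]), family_along_congr ξ h1 _ (AlgHom.comp_id _),
    family_along_id]

variable [IsNoetherianRing Λ] [Module.Finite Λ k]

omit [IsNoetherianRing Λ] in
theorem length_residueField_ne_top : Module.length Λ k ≠ ⊤ := by
  haveI : Algebra.IsIntegral (↥(algebraMap Λ k).range) k := by
    haveI : Algebra.IsIntegral Λ k := Algebra.IsIntegral.of_finite Λ k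
    refine ⟨fun x => ?_⟩
    obtain ⟨p, hp, hpx⟩ := Algebra.IsIntegral.isIntegral (R := Λ) x
    refine ⟨p.map (algebraMap Λ k).rangeRestrict, hp.map _, ?_⟩
    rw [Polynomial.eval₂_map]
    exact hpx
  let K := (algebraMap Λ k).range
  letI : Field K := (isField_of_isIntegral_of_isField (R := K) (S := k) Subtype.val_injective
    (Field.toIsField k)).toField
  letI : Algebra Λ K := (algebraMap Λ k).rangeRestrict.toAlgebra
  haveI : IsScalarTower Λ K k := IsScalarTower.of_algebraMap_eq fun _ => rfl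
  haveI : Module.Finite K k := Module.Finite.of_restrictScalars_finite Λ K k
  rw [Module.length_eq_of_surjective (R := K) (S := Λ) (M := k) (RingHom.rangeRestrict_surjective _)]
  exact Module.length_ne_top

theorem isFiniteLength_art (A : Art Λ k) : IsFiniteLength Λ A := by
  letI : Algebra A k := A.res.toRingHom.toAlgebra
  haveI : IsScalarTower Λ A k := IsScalarTower.of_algebraMap_eq fun r => (A.res.commutes r).symm
  rw [← Module.length_ne_top_iff, ← Groth.Agent.S12708.result (k := k) A A.res_surjective A]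
  exact WithTop.mul_ne_top length_residueField_ne_top Module.length_ne_top

/-- The Fitting projection of an endomorphism fixing an element. -/
theorem exists_fitting_art {A : Art Λ k} (T : A ⟶ A) :
    ∃ N₀, ∀ N ≥ N₀, ∃! q : A →ₐ[Λ] A,
      (∀ a, q a ∈ LinearMap.range (T.toAlgHom.toLinearMap ^ N)) ∧
      (∀ a, (T.toAlgHom.toLinearMap ^ N) (q a) = (T.toAlgHom.toLinearMap ^ N) a) := by
  obtain ⟨_, _⟩ := isFiniteLength_iff_isNoetherian_isArtinian.1 (isFiniteLength_art A)
  obtain ⟨N₀, hN₀⟩ := Filter.eventually_atTop.1 (LinearMap.eventually_isCompl_ker_pow_range_pow T.toAlgHom.toLinearMap)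
  refine ⟨N₀, fun N hN => ?_⟩
  have hc := hN₀ N hN
  let L := T.toAlgHom.toLinearMap ^ N
  have hL : ∃ E : A →ₐ[Λ] A, ∀ a, E a = L a := by
    refine ⟨T.toAlgHom ^ N, fun a => ?_⟩
    have : ∀ M a, (T.toAlgHom ^ M) a = (T.toAlgHom.toLinearMap ^ M) a := by
      intro M
      induction M with
      | zero => intro a; rfl
      | succ M ih => intro a; rw [pow_succ, pow_succ]; exact ih (T a)
    exact this N a
  obtain ⟨E, hE⟩ := hL
  have huniq : ∀ z z' : A, z ∈ LinearMap.range L → z' ∈ LinearMap.range L → L z = L z' → z = z' :=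
    fun z z' h h' e => sub_eq_zero.1 (Submodule.disjoint_def.1 hc.disjoint _
      (LinearMap.mem_ker.2 (by rw [map_sub, e, sub_self])) (Submodule.sub_mem _ h h'))
  have hex : ∀ a : A, ∃ z ∈ LinearMap.range L, L z = L a := fun a => by
    obtain ⟨p, hp, r, hr, e⟩ := Submodule.mem_sup.1 (hc.sup_eq_top ▸ Submodule.mem_top (x := a))
    exact ⟨r, hr, by rw [← e, map_add, LinearMap.mem_ker.1 hp, zero_add]⟩
  choose q hqr hqL using hex
  have hLmul : ∀ a b, L (a * b) = L a * L b := fun a b => by rw [← hE, ← hE, ← hE, map_mul]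
  have hrmul : ∀ a b, a ∈ LinearMap.range L → b ∈ LinearMap.range L → a * b ∈ LinearMap.range L := by
    rintro _ _ ⟨a, rfl⟩ ⟨b, rfl⟩
    exact ⟨a * b, hLmul a b⟩
  refine ⟨AlgHom.ofLinearMap
    { toFun := q
      map_add' := fun a b => huniq _ _ (hqr _) (Submodule.add_mem _ (hqr a) (hqr b))
        (by rw [hqL, map_add, map_add, hqL, hqL])
      map_smul' := fun c a => huniq _ _ (hqr _) (Submodule.smul_mem _ c (hqr a))
        (by rw [hqL, map_smul, map_smul, hqL]; rfl) }
    (huniq _ _ (hqr _) ⟨1, by rw [← hE, map_one]⟩ (hqL 1))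
    (fun a b => huniq _ _ (hqr _) (hrmul _ _ (hqr a) (hqr b)) (by
      change L (q (a * b)) = L (q a * q b)
      rw [hqL, hLmul, hLmul, hqL, hqL])),
    ⟨hqr, hqL⟩, fun q' hq' => AlgHom.ext fun a => huniq _ _ (hq'.1 a) (hqr a) ((hq'.2 a).trans (hqL a).symm)⟩

/-- The Fitting projection fixes fixed elements. -/
theorem map_fitting {A : Art Λ k} (T : A ⟶ A) (F : Art Λ k ⥤ Type v) (z : F.obj A) (hz : F.map T z = z)
    (N : ℕ) (hc : IsCompl (LinearMap.ker (T.toAlgHom.toLinearMap ^ N)) (LinearMap.range (T.toAlgHom.toLinearMap ^ N)))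
    (q : A ⟶ A) (hqr : ∀ a, q a ∈ LinearMap.range (T.toAlgHom.toLinearMap ^ N))
    (hqL : ∀ a, (T.toAlgHom.toLinearMap ^ N) (q a) = (T.toAlgHom.toLinearMap ^ N) a) :
    F.map q z = z := by
  have hpow : ∀ M, ∃ E : A ⟶ A, (∀ a, E a = (T.toAlgHom.toLinearMap ^ M) a) ∧ F.map E z = z := by
    intro M
    induction M with
    | zero => exact ⟨𝟙 A, fun a => rfl, map_id_app F z⟩
    | succ M ih =>
      obtain ⟨E, hE, hEz⟩ := ih
      refine ⟨T ≫ E, fun a => ?_, by rw [← map_map, hz, hEz]⟩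
      rw [pow_succ]
      exact hE (T a)
  obtain ⟨E, hE, hEz⟩ := hpow N
  have hK : RingHom.ker E.toAlgHom ≤ maximalIdeal A := ker_le_maximalIdeal E
  let Q := quot A _ hK
  let π := quotMk A _ hK
  let ι : Q ⟶ A := quotFactor hK E le_rfl
  have hπι : π ≫ ι = E := quotMk_quotFactor hK E le_rfl
  have hπιa : ∀ a, ι (π a) = E a := fun a => rfl
  have hιinj : Function.Injective ι := by
    refine (injective_iff_map_eq_zero ι.toAlgHom).2 fun y hy => ?_
    obtain ⟨a, rfl⟩ := Ideal.Quotient.mk_surjective y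
    exact Ideal.Quotient.eq_zero_iff_mem.2 hy
  have hρ : Function.Bijective (ι ≫ π : Q ⟶ Q) := by
    refine ⟨(injective_iff_map_eq_zero (ι ≫ π).toAlgHom).2 fun y hy => ?_, fun y => ?_⟩
    · obtain ⟨a, rfl⟩ := Ideal.Quotient.mk_surjective y
      have h1 : E (E a) = 0 := Ideal.Quotient.eq_zero_iff_mem.1 hy
      refine Ideal.Quotient.eq_zero_iff_mem.2 ?_
      change E a = 0
      exact Submodule.disjoint_def.1 hc.disjoint _ (LinearMap.mem_ker.2 (by rw [← hE]; exact h1))
        ⟨a, (hE a).symm⟩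
    · obtain ⟨a, rfl⟩ := Ideal.Quotient.mk_surjective y
      obtain ⟨p, hp, r, ⟨c, rfl⟩, e⟩ := Submodule.mem_sup.1 (hc.sup_eq_top ▸ Submodule.mem_top (x := a))
      refine ⟨π c, Ideal.Quotient.eq.2 ?_⟩
      change E (E c - a) = 0
      rw [map_sub, hE (E c), hE a, hE c, ← e, map_add, LinearMap.mem_ker.1 hp, zero_add, sub_self]
  haveI := isIso_of_bijective _ hρ
  have hfix : F.map (ι ≫ π) (F.map π z) = F.map π z := by
    rw [map_map, ← Category.assoc, hπι, ← map_map, hEz]
  have hinv : F.map (inv (ι ≫ π)) (F.map π z) = F.map π z := by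
    conv_lhs => rw [← hfix]
    rw [map_map F (ι ≫ π) (inv (ι ≫ π)), IsIso.hom_inv_id, map_id_app]
  have hq : q = π ≫ inv (ι ≫ π) ≫ ι := by
    refine hom_ext (AlgHom.ext fun a => ?_)
    set b := (inv (ι ≫ π)) (π a) with hb
    have h1 : π (ι b) = π a := by
      have := congrArg (fun m : Q ⟶ Q => m (π a)) (IsIso.inv_hom_id (ι ≫ π))
      exact this
    have h2 : E (ι b) = E a := by rw [← hπιa, ← hπιa, h1]
    obtain ⟨c, hc'⟩ := hqr a
    have hbr : ι b ∈ LinearMap.range (T.toAlgHom.toLinearMap ^ N) := by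
      obtain ⟨c, hcb⟩ := Ideal.Quotient.mk_surjective b
      exact ⟨c, by rw [← hE, ← hcb]; rfl⟩
    change q a = ι b
    refine sub_eq_zero.1 (Submodule.disjoint_def.1 hc.disjoint _ (LinearMap.mem_ker.2 ?_)
      (Submodule.sub_mem _ ⟨c, hc'⟩ hbr))
    rw [map_sub, hqL, ← hE, ← hE, h2, sub_self]
  rw [hq, ← map_map, ← map_map, hinv, map_map, hπι, hEz]

/-- A non-surjective endomorphism fixing a family gives a proper retract. -/
theorem exists_retract_of_not_surjective {R : CRing Λ k} {F : Art Λ k ⥤ Type v} (ξ : Family R.carrier R.res F)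
    (e : R.carrier →ₐ[Λ] R.carrier) (he : R.res.comp e = R.res) (hξe : ξ.along e he = ξ)
    (hns : ¬ Function.Surjective e) :
    ∃ (p : R.carrier →ₐ[Λ] R.carrier) (hp : R.res.comp p = R.res),
      ξ.along p hp = ξ ∧ p.comp p = p ∧ RingHom.ker p ≠ ⊥ := by
  let T := fun n => CRing.truncMapOfHom e he n
  have hTz : ∀ n, F.map (T n) (ξ.toFormalElt.elt n) = ξ.toFormalElt.elt n := fun n => by
    conv_rhs => rw [← hξe, toFormalElt_along]
    rfl
  have hart : ∀ n, ∃ N₀, ∀ N ≥ N₀, IsCompl (LinearMap.ker ((T n).toAlgHom.toLinearMap ^ N))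
      (LinearMap.range ((T n).toAlgHom.toLinearMap ^ N)) ∧
      ⨅ m, LinearMap.range ((T n).toAlgHom.toLinearMap ^ m) = LinearMap.range ((T n).toAlgHom.toLinearMap ^ N) := fun n => by
    obtain ⟨_, _⟩ := isFiniteLength_iff_isNoetherian_isArtinian.1 (isFiniteLength_art (R.trunc n))
    exact Filter.eventually_atTop.1 ((LinearMap.eventually_isCompl_ker_pow_range_pow _).and
      (LinearMap.eventually_iInf_range_pow_eq _))
  choose N₁ hN₁' using hart
  have hN₁ : ∀ n N, N₁ n ≤ N → IsCompl (LinearMap.ker ((T n).toAlgHom.toLinearMap ^ N))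
      (LinearMap.range ((T n).toAlgHom.toLinearMap ^ N)) := fun n N h => (hN₁' n N h).1
  choose N₂ hN₂ using fun n => exists_fitting_art (T n)
  let Nn : ℕ → ℕ := fun n => Nat.rec (N₁ 0 + N₂ 0 + 1) (fun n M => M + N₁ (n + 1) + N₂ (n + 1)) n
  have hNn : ∀ n, N₁ n ≤ Nn n ∧ N₂ n ≤ Nn n := fun n => by
    cases n with
    | zero => exact ⟨by change _ ≤ N₁ 0 + N₂ 0 + 1; omega, by change _ ≤ N₁ 0 + N₂ 0 + 1; omega⟩
    | succ n => exact ⟨by change _ ≤ Nn n + N₁ (n + 1) + N₂ (n + 1); omega,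
        by change _ ≤ Nn n + N₁ (n + 1) + N₂ (n + 1); omega⟩
  choose q hq hquniq using fun n => hN₂ n (Nn n) (hNn n).2
  let qA : ∀ n, R.trunc n ⟶ R.trunc n := fun n => ⟨q n, AlgHom.ext fun a => by
    obtain ⟨c, hc⟩ := (hq n).1 a
    have hh := (hq n).2 a
    have key : ∀ (M : ℕ) (b : R.trunc n), (R.trunc n).res (((T n).toAlgHom.toLinearMap ^ M) b) = (R.trunc n).res b := by
      intro M
      induction M with
      | zero => intro b; rfl
      | succ M ih =>
        intro b
        rw [pow_succ]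
        exact (ih _).trans (res_app (T n) b)
    change (R.trunc n).res (q n a) = _
    rw [← key (Nn n) (q n a), hh, key]⟩
  let φ : ∀ n, HomSet R.carrier R.res (R.trunc n) := fun n => HomSet.map (qA n) (R.truncHom n)
  have hTc : ∀ n M (a : R.trunc (n + 1)),
      R.truncMap n (((T (n + 1)).toAlgHom.toLinearMap ^ M) a) = ((T n).toAlgHom.toLinearMap ^ M) (R.truncMap n a) := by
    intro n M
    induction M with
    | zero => intro a; rfl
    | succ M ih =>
      intro a
      rw [pow_succ, pow_succ]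
      refine (ih (T (n + 1) a)).trans (congrArg ((T n).toAlgHom.toLinearMap ^ M) ?_)
      exact congrArg (fun m : R.trunc (n + 1) ⟶ R.trunc n => m a) (CRing.truncMapOfHom_truncMap e he n)
  have hcompat : ∀ n, HomSet.map (R.truncMap n) (φ (n + 1)) = φ n := by
    intro n
    refine Subtype.ext (AlgHom.ext fun r => ?_)
    change R.truncMap n (q (n + 1) ((R.truncHom (n + 1)).1 r)) = q n ((R.truncHom n).1 r)
    have hle : Nn n ≤ Nn (n + 1) := by
      change Nn n ≤ Nn n + N₁ (n + 1) + N₂ (n + 1)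
      omega
    have hc := hN₁ n (Nn (n + 1)) ((hNn n).1.trans hle)
    refine sub_eq_zero.1 (Submodule.disjoint_def.1 hc.disjoint _ (LinearMap.mem_ker.2 ?_) (Submodule.sub_mem _ ?_ ?_))
    · rw [map_sub, ← hTc, (hq (n + 1)).2, hTc, sub_eq_zero]
      obtain ⟨d, hd⟩ := Nat.exists_eq_add_of_le hle
      rw [hd, add_comm, pow_add, Module.End.mul_apply, Module.End.mul_apply, (hq n).2]
      rfl
    · obtain ⟨c, hc'⟩ := (hq (n + 1)).1 ((R.truncHom (n + 1)).1 r)
      exact ⟨R.truncMap n c, by rw [← hTc, hc']⟩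
    · have hrange : LinearMap.range ((T n).toAlgHom.toLinearMap ^ Nn n) ≤ LinearMap.range ((T n).toAlgHom.toLinearMap ^ Nn (n + 1)) :=
        ((hN₁' n _ (hNn n).1).2.symm.trans (hN₁' n _ ((hNn n).1.trans hle)).2).le
      exact hrange ((hq n).1 _)
  obtain ⟨p, hp, hpn⟩ := exists_hom_of_compat φ hcompat
  have hpn' : ∀ n a, (R.truncHom n).1 (p a) = q n ((R.truncHom n).1 a) := fun n a =>
    congrArg (fun t : R.carrier →ₐ[Λ] (R.trunc n) => t a) (hpn n)
  refine ⟨p, hp, ?_, eq_of_trunc_eq fun n => AlgHom.ext fun a => ?_, fun hker => ?_⟩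
  · refine toFormalElt_injective (FormalElt.ext' fun n => ?_)
    refine Eq.trans (congrArg (ξ.app _) (Subtype.ext (hpn n))) ?_
    rw [ξ.natural]
    exact map_fitting (T n) F _ (hTz n) (Nn n) (hN₁ n _ (hNn n).1) (qA n) (hq n).1 (hq n).2
  · change (R.truncHom n).1 (p (p a)) = (R.truncHom n).1 (p a)
    rw [hpn', hpn']
    exact sub_eq_zero.1 (Submodule.disjoint_def.1 (hN₁ n _ (hNn n).1).disjoint _
      (LinearMap.mem_ker.2 (by rw [map_sub, (hq n).2, sub_self])) (Submodule.sub_mem _ ((hq n).1 _) ((hq n).1 _)))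
  · apply hns
    have hid : ∀ n a, q n ((R.truncHom n).1 a) = (R.truncHom n).1 a := fun n a => by
      have h : p a = a := by
        have hinj : Function.Injective p := (injective_iff_map_eq_zero p).2 fun x hx =>
          Ideal.mem_bot.1 (hker ▸ RingHom.mem_ker.2 hx)
        apply hinj
        have h1 : ∀ n, (R.truncHom n).1 (p (p a)) = (R.truncHom n).1 (p a) := fun n => by
          rw [hpn', hpn']
          exact sub_eq_zero.1 (Submodule.disjoint_def.1 (hN₁ n _ (hNn n).1).disjoint _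
            (LinearMap.mem_ker.2 (by rw [map_sub, (hq n).2, sub_self])) (Submodule.sub_mem _ ((hq n).1 _) ((hq n).1 _)))
        haveI := R.isAdicComplete
        refine sub_eq_zero.1 (IsHausdorff.haus (I := maximalIdeal R.carrier) inferInstance _ fun N => ?_)
        rw [SModEq.zero, smul_eq_mul, Ideal.mul_top]
        exact Ideal.pow_le_pow_right N.le_succ (Ideal.Quotient.eq.1 (h1 N))
      rw [← hpn', h]
    have hTs : Function.Surjective (T 1) := fun y => by
      obtain ⟨a, rfl⟩ := truncHom_surjective R 1 y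
      obtain ⟨c, hc⟩ := (hq 1).1 ((R.truncHom 1).1 a)
      rw [hid] at hc
      have h0 : 1 ≤ Nn 1 := by
        change 1 ≤ N₁ 0 + N₂ 0 + 1 + N₁ 1 + N₂ 1
        omega
      obtain ⟨M, hM⟩ := Nat.exists_eq_add_of_le h0
      rw [hM, pow_add, pow_one] at hc
      exact ⟨_, hc⟩
    haveI := R.isAdicComplete
    refine ((surjective_cotangent_tfae R.res R.res R.res_surjective (CRing.mem_maximalIdeal_iff R)
      (CRing.mem_maximalIdeal_iff R) e he).out 0 1).2 (le_antisymm (sup_le (Ideal.map_le_iff_le_comap.2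
        (CRing.maximalIdeal_le_comap e he)) (Ideal.pow_le_self two_ne_zero)) fun s hs => ?_)
    obtain ⟨y, hy⟩ := hTs ((R.truncHom 1).1 s)
    obtain ⟨b, rfl⟩ := truncHom_surjective R 1 y
    have h2 : e b - s ∈ maximalIdeal R.carrier ^ 2 := Ideal.Quotient.eq.1 hy
    have hbm : b ∈ maximalIdeal R.carrier := by
      have := (maximalIdeal R.carrier).add_mem (Ideal.pow_le_self two_ne_zero h2) hs
      rw [sub_add_cancel, CRing.mem_maximalIdeal_iff, CRing.res_comp_apply e he] at this
      exact (CRing.mem_maximalIdeal_iff R b).2 this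
    rw [show s = e b - (e b - s) by ring]
    exact Ideal.sub_mem _ (Submodule.mem_sup_left (Ideal.mem_map_of_mem e hbm)) (Submodule.mem_sup_right h2)

end Groth.Agent.ArtFunLib
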