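import Groth.Agent.ArtFunLib.Obs
import Groth.Agent.ArtFunLib.SmoothRel
import Groth.Agent.ArtFunLib.ArtCRing
import Mathlib.Algebra.Module.SpanRankOperations
import Mathlib.RingTheory.Ideal.KrullsHeightTheorem
import Mathlib.RingTheory.RegularLocalRing.Defs

/-!
Presentations over a field and the dimension estimates from an obstruction space.
-/

universe u v

open CategoryTheory

namespace Groth.Agent.ArtFunLib

open ArtFun ArtFun.Art IsLocalRing

section Local

variable {S R : Type u} [CommRing S] [CommRing R] [IsLocalRing S] [IsLocalRing R]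

lemma exists_finset_span_eq (R : Type u) [CommRing R] [IsLocalRing R] [IsNoetherianRing R] :
    ∃ g : Finset R, g.card = Module.finrank (ResidueField R) (CotangentSpace R) ∧
      Ideal.span (g : Set R) = maximalIdeal R := by
  obtain ⟨g, hg, hspan⟩ := Submodule.FG.exists_span_finset_card_eq_spanFinrank
    (IsNoetherian.noetherian (maximalIdeal R))
  exact ⟨g, hg.trans (IsLocalRing.spanFinrank_maximalIdeal_eq_finrank_cotangentSpace R), hspan⟩

lemma map_maximalIdeal_eq (π : S →+* R) (hπ : Function.Surjective π) :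
    (maximalIdeal S).map π = maximalIdeal R :=
  IsLocalRing.eq_maximalIdeal (Ideal.IsMaximal.map_of_surjective_of_ker_le hπ
    (IsLocalRing.le_maximalIdeal (RingHom.ker_ne_top π)))

lemma spanFinrank_le_card_of_le_sup_sq [IsNoetherianRing R] (t : Finset R)
    (ht : (t : Set R) ⊆ maximalIdeal R) (h : maximalIdeal R ≤ Ideal.span (t : Set R) ⊔ maximalIdeal R ^ 2) :
    (maximalIdeal R).spanFinrank ≤ t.card := by
  have h1 : maximalIdeal R ≤ Ideal.span (t : Set R) :=
    Submodule.le_of_le_smul_of_le_jacobson_bot (IsNoetherian.noetherian _)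
      (maximalIdeal_le_jacobson _) (by rwa [smul_eq_mul, ← pow_two])
  rw [le_antisymm h1 (Ideal.span_le.2 ht)]
  exact (Submodule.spanFinrank_span_le_ncard_of_finite t.finite_toSet).trans (Set.ncard_coe_finset t).le

/-- Part of a system of generators spanning the kernel modulo the square. -/
theorem exists_finset_ker_mod_sq [IsNoetherianRing S] [IsNoetherianRing R] (π : S →+* R)
    (hπ : Function.Surjective π) :
    ∃ e : Finset S, (e : Set S) ⊆ RingHom.ker π ∧
      RingHom.ker π ≤ Ideal.span (e : Set S) ⊔ maximalIdeal S ^ 2 ∧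
      e.card + (maximalIdeal R).spanFinrank ≤ (maximalIdeal S).spanFinrank := by
  classical
  let n := maximalIdeal S
  obtain ⟨f, hf, hfspan⟩ := Submodule.FG.exists_span_finset_card_eq_spanFinrank
    (IsNoetherian.noetherian n)
  let P : Finset S → Prop := fun t => t ⊆ f ∧
    maximalIdeal R ≤ Ideal.span ((t.image π : Finset R) : Set R) ⊔ maximalIdeal R ^ 2
  have hf0 : P f := ⟨le_rfl, by
    refine le_trans ?_ le_sup_left
    rw [Finset.coe_image, ← Ideal.map_span, ← map_maximalIdeal_eq π hπ]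
    exact le_of_eq (congrArg (Ideal.map π) hfspan.symm)⟩
  have hex : ∃ m, ∃ t, P t ∧ t.card = m := ⟨_, f, hf0, rfl⟩
  obtain ⟨T, ⟨hTf, hT⟩, hTc⟩ := Nat.find_spec hex
  have hfn : ∀ s ∈ f, s ∈ n := fun s hs => hfspan ▸ Submodule.subset_span hs
  have hd : (maximalIdeal R).spanFinrank ≤ T.card := by
    refine (spanFinrank_le_card_of_le_sup_sq (T.image π) (fun x hx => ?_) hT).trans Finset.card_image_le
    obtain ⟨s, hs, rfl⟩ := Finset.mem_image.1 hx
    rw [← map_maximalIdeal_eq π hπ]
    exact Ideal.mem_map_of_mem π (hfn s (hTf hs))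
  have hirr : ∀ a : S → S, π (∑ s ∈ T, a s * s) ∈ maximalIdeal R ^ 2 → ∀ s ∈ T, a s ∈ n := by
    intro a ha s₀ hs₀
    by_contra hu
    apply Nat.find_min hex (m := (T.erase s₀).card)
      (by rw [← hTc]; exact Finset.card_erase_lt_of_mem hs₀)
    refine ⟨T.erase s₀, ⟨(Finset.erase_subset _ _).trans hTf, hT.trans (sup_le ?_ le_sup_right)⟩, rfl⟩
    rw [Ideal.span_le]
    intro x hx
    obtain ⟨s, hs, rfl⟩ := Finset.mem_image.1 hx
    have others : ∀ s ∈ T, s ≠ s₀ → π s ∈ Ideal.span (((T.erase s₀).image π : Finset R) : Set R) :=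
      fun s hs hne => Ideal.subset_span (Finset.mem_image_of_mem _ (Finset.mem_erase.2 ⟨hne, hs⟩))
    by_cases hne : s = s₀
    · subst hne
      refine (Ideal.unit_mul_mem_iff_mem _ ((IsLocalRing.notMem_maximalIdeal.1 hu).map π)).1 ?_
      rw [show π (a s) * π s = π (∑ i ∈ T, a i * i) - ∑ i ∈ T.erase s, π (a i) * π i by
        rw [map_sum, ← Finset.sum_erase_add _ _ hs]; simp only [map_mul]; ring]
      exact sub_mem (Submodule.mem_sup_right ha) (Submodule.mem_sup_left (Ideal.sum_mem _ fun i hi =>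
        Ideal.mul_mem_left _ _ (others i (Finset.mem_of_mem_erase hi) (Finset.ne_of_mem_erase hi))))
    · exact Submodule.mem_sup_left (others s hs hne)
  -- correct each remaining generator into the kernel
  have hcor : ∀ s ∈ f, ∃ a : S → S, ∃ z ∈ n ^ 2, s - ∑ t ∈ T, a t * t - z ∈ RingHom.ker π := by
    intro s hs
    have h1 : π s ∈ Ideal.span ((T.image π : Finset R) : Set R) ⊔ maximalIdeal R ^ 2 :=
      hT (map_maximalIdeal_eq π hπ ▸ Ideal.mem_map_of_mem π (hfn s hs))
    rw [← map_maximalIdeal_eq π hπ, ← Ideal.map_pow, Finset.coe_image, ← Ideal.map_span,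
      ← Ideal.map_sup] at h1
    obtain ⟨w, hw, hwe⟩ := (Ideal.mem_map_iff_of_surjective π hπ).1 h1
    obtain ⟨u, hu, z, hz, rfl⟩ := Submodule.mem_sup.1 hw
    obtain ⟨a, -, rfl⟩ := (Submodule.mem_span_finset (R := S)).1 hu
    refine ⟨a, z, hz, ?_⟩
    simp only [smul_eq_mul] at hwe
    rw [RingHom.mem_ker, map_sub, map_sub, ← hwe, map_add]
    ring
  choose! a z hz hker using hcor
  let E : S → S := fun s => s - ∑ t ∈ T, a s t * t - z s
  refine ⟨(f \ T).image E, fun x hx => ?_, fun j hj => ?_, ?_⟩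
  · obtain ⟨s, hs, rfl⟩ := Finset.mem_image.1 hx
    exact hker s (Finset.mem_sdiff.1 hs).1
  · have hjn : j ∈ Ideal.span (f : Set S) :=
      (le_of_eq hfspan.symm : n ≤ Submodule.span S (f : Set S)) (IsLocalRing.le_maximalIdeal (RingHom.ker_ne_top π) hj)
    obtain ⟨b, -, rfl⟩ := (Submodule.mem_span_finset (R := S)).1 hjn
    simp only [smul_eq_mul] at hj ⊢
    let c : S → S := fun t => b t + ∑ s ∈ f \ T, b s * a s t
    have hsplit : ∑ s ∈ f, b s * s =
        ∑ s ∈ f \ T, b s * E s + ∑ t ∈ T, c t * t + ∑ s ∈ f \ T, b s * z s := by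
      rw [← Finset.sum_sdiff hTf]
      simp only [c, E, add_mul, Finset.sum_add_distrib, Finset.sum_mul, mul_sub, Finset.mul_sum,
        Finset.sum_sub_distrib, mul_assoc]
      rw [Finset.sum_comm (s := T)]
      ring
    rw [hsplit] at hj ⊢
    have h1 : ∑ s ∈ f \ T, b s * E s ∈ RingHom.ker π := Ideal.sum_mem _ fun s hs =>
      Ideal.mul_mem_left _ _ (hker s (Finset.mem_sdiff.1 hs).1)
    have h2 : ∑ s ∈ f \ T, b s * z s ∈ n ^ 2 := Ideal.sum_mem _ fun s hs =>
      Ideal.mul_mem_left _ _ (hz s (Finset.mem_sdiff.1 hs).1)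
    have h3 : π (∑ t ∈ T, c t * t) ∈ maximalIdeal R ^ 2 := by
      have : π (∑ t ∈ T, c t * t) = -π (∑ s ∈ f \ T, b s * z s) := by
        rw [RingHom.mem_ker, map_add, map_add, show π (∑ s ∈ f \ T, b s * E s) = 0 from h1, zero_add] at hj
        exact eq_neg_of_add_eq_zero_left hj
      rw [this, neg_mem_iff, ← map_maximalIdeal_eq π hπ, ← Ideal.map_pow]
      exact Ideal.mem_map_of_mem π h2
    refine add_mem (add_mem (Submodule.mem_sup_left (Ideal.sum_mem _ fun s hs => Ideal.mul_mem_left _ _
      (Ideal.subset_span (Finset.mem_image_of_mem E hs)))) (Submodule.mem_sup_right ?_))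
      (Submodule.mem_sup_right h2)
    refine Ideal.sum_mem _ fun t ht => ?_
    rw [pow_two]
    exact Ideal.mul_mem_mul (hirr c h3 t ht) (hfn t (hTf ht))
  · have := Finset.card_image_le (s := f \ T) (f := E)
    rw [Finset.card_sdiff_of_subset hTf] at this
    have := Finset.card_le_card hTf
    have hfc : f.card = (maximalIdeal S).spanFinrank := hf
    change ((f \ T).image E).card + _ ≤ _
    omega

/-- The estimates for a quotient of a regular local ring with few relations. -/
theorem bounds_of_relations {P R : Type u} [CommRing P] [IsRegularLocalRing P] [CommRing R]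
    [IsLocalRing R] [IsNoetherianRing R] (π : P →+* R) (hπ : Function.Surjective π) (r : ℕ)
    (hr : (RingHom.ker π).spanFinrank + (maximalIdeal R).spanFinrank ≤ (maximalIdeal P).spanFinrank + r) :
    ringKrullDim R ≤ (Module.finrank (ResidueField R) (CotangentSpace R) : WithBot ℕ∞) ∧
      (Module.finrank (ResidueField R) (CotangentSpace R) : WithBot ℕ∞) ≤ ringKrullDim R + (r : WithBot ℕ∞) ∧
      (r = 0 → IsRegularLocalRing R) ∧
      (ringKrullDim R + (r : WithBot ℕ∞) =
          (Module.finrank (ResidueField R) (CotangentSpace R) : WithBot ℕ∞) →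
        ∃ (P' : Type u) (_ : CommRing P') (_ : IsRegularLocalRing P') (π' : P' →+* R) (s : Finset P'),
          Function.Surjective π' ∧ Ideal.span (s : Set P') = RingHom.ker π' ∧
            ringKrullDim P' = ringKrullDim R + (s.card : WithBot ℕ∞)) := by
  rw [← IsLocalRing.spanFinrank_maximalIdeal_eq_finrank_cotangentSpace R]
  obtain ⟨s, hs, hspan⟩ := Submodule.FG.exists_span_finset_card_eq_spanFinrank
    (IsNoetherian.noetherian (RingHom.ker π))
  have h1 : ringKrullDim R ≤ ((maximalIdeal R).spanFinrank : WithBot ℕ∞) :=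
    ringKrullDim_le_spanFinrank_maximalIdeal R
  obtain ⟨n, hn⟩ : ∃ n : ℕ, ringKrullDim R = (n : WithBot ℕ∞) := by
    have h0 : 0 ≤ ringKrullDim R := ringKrullDim_nonneg_of_nontrivial
    rcases hR : ringKrullDim R with _ | m
    · rw [hR] at h0; exact absurd h0 (by decide)
    · rw [hR] at h1
      change ((m : ℕ∞) : WithBot ℕ∞) ≤ ((((maximalIdeal R).spanFinrank : ℕ) : ℕ∞) : WithBot ℕ∞) at h1
      obtain ⟨n, rfl⟩ := ENat.ne_top_iff_exists.1
        (ne_top_of_le_ne_top (ENat.coe_ne_top _) (WithBot.coe_le_coe.1 h1))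
      exact ⟨n, rfl⟩
  have hP : ringKrullDim P = ((maximalIdeal P).spanFinrank : WithBot ℕ∞) :=
    (IsRegularLocalRing.spanFinrank_maximalIdeal).symm
  have h2 : (maximalIdeal P).spanFinrank ≤ n + s.card := by
    have hle := ringKrullDim_le_ringKrullDim_quotient_add_spanFinrank (RingHom.ker π)
      ((IsLocalRing.le_maximalIdeal (RingHom.ker_ne_top π)).trans (IsLocalRing.maximalIdeal_le_jacobson ⊥) |>.trans Ideal.jacobson_bot.le)
    rw [ringKrullDim_eq_of_ringEquiv (RingHom.quotientKerEquivOfSurjective hπ), hn, hP, ← hs] at hle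
    exact_mod_cast hle
  rw [hn] at h1 ⊢
  have h1' : n ≤ (maximalIdeal R).spanFinrank := by exact_mod_cast h1
  refine ⟨h1, ?_, fun h0 => ?_, fun he => ⟨P, inferInstance, inferInstance, π, s, hπ, hspan, ?_⟩⟩
  · exact_mod_cast (show (maximalIdeal R).spanFinrank ≤ n + r by omega)
  · rw [isRegularLocalRing_iff, hn]
    exact_mod_cast (show (maximalIdeal R).spanFinrank = n by omega)
  · have he' : n + r = (maximalIdeal R).spanFinrank := by exact_mod_cast he
    rw [hP]
    exact_mod_cast (show (maximalIdeal P).spanFinrank = n + s.card by omega)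

end Local

section Complete

variable {k : Type u} [Field k]

/-- The ground field as a coefficient ring. -/
noncomputable def fieldCRing (k : Type u) [Field k] : CRing k k := artCRing (base k k)

theorem isSmoothFunctor_psRing_field (n : ℕ) :
    IsSmoothFunctor (hR (psRing (fieldCRing k) n).carrier (psRing (fieldCRing k) n).res) := by
  intro B A μ hμ φ
  let φ' : HomSet (psRing (fieldCRing k) n).carrier (psRing (fieldCRing k) n).res A := φ
  let y : HomSet (fieldCRing k).carrier (fieldCRing k).res B :=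
    ⟨(Algebra.ofId k B : k →ₐ[k] B), AlgHom.ext fun c => B.res.commutes c⟩
  obtain ⟨ψ, hψ, -⟩ := isVersal_psRing μ hμ φ' y (Subtype.ext (Subsingleton.elim _ _ :
    (_ : k →ₐ[k] A) = _))
  exact ⟨ψ, hψ⟩

/-- A complete local algebra with residue field `k` is a power series ring modulo relations of order two. -/
theorem exists_presentation_field (S : CRing k k) :
    ∃ (n : ℕ) (θ : (psRing (fieldCRing k) n).carrier →ₐ[k] S.carrier),
      Function.Surjective θ ∧ S.res.comp θ = (psRing (fieldCRing k) n).res ∧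
      RingHom.ker θ ≤ maximalIdeal (psRing (fieldCRing k) n).carrier ^ 2 := by
  let R := fieldCRing k
  let f : R.carrier →ₐ[k] S.carrier := (Algebra.ofId k S.carrier : k →ₐ[k] S.carrier)
  have hf : S.res.comp f = R.res := AlgHom.ext fun c => S.res.commutes c
  have hR0 : maximalIdeal R.carrier = ⊥ := (IsLocalRing.maximalIdeal_eq_bot : maximalIdeal k = ⊥)
  have hmap : Ideal.map f (maximalIdeal R.carrier) = ⊥ := by rw [hR0, Ideal.map_bot]
  obtain ⟨n, x, hx, hgen, hirr⟩ := exists_rel_gens f hf (maximalIdeal S.carrier) le_rfl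
    (le_sup_of_le_left le_sup_left)
  obtain ⟨θ, hθ, hθC, hθX⟩ := exists_psHom (n := n) f hf x fun i =>
    (CRing.mem_maximalIdeal_iff S _).1 (hx i)
  refine ⟨n, θ, surjective_psHom f hf θ hθ hθC x hθX hgen, hθ, fun z hz => ?_⟩
  have hzm : z ∈ maximalIdeal (psRing R n).carrier :=
    IsLocalRing.le_maximalIdeal (RingHom.ker_ne_top θ) hz
  have hps : maximalIdeal (psRing R n).carrier = Ideal.span (Set.range (psX R n)) := by
    rw [maximalIdeal_psRing, hR0, Ideal.map_bot, bot_sup_eq]
  rw [hps, Ideal.mem_span_range_iff_exists_fun] at hzm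
  obtain ⟨c, rfl⟩ := hzm
  have hc : ∀ i, θ (c i) ∈ maximalIdeal S.carrier := hirr (fun i => θ (c i)) (by
    rw [show ∑ i, θ (c i) * x i = θ (∑ i, c i * psX R n i) by simp [map_sum, hθX],
      show θ (∑ i, c i * psX R n i) = 0 from hz]
    exact zero_mem _)
  refine Ideal.sum_mem _ fun i _ => ?_
  rw [pow_two]
  refine Ideal.mul_mem_mul ?_ ((CRing.mem_maximalIdeal_iff _ _).2 (psX_res R n i))
  rw [CRing.mem_maximalIdeal_iff, ← CRing.res_comp_apply θ hθ]
  exact (CRing.mem_maximalIdeal_iff S _).1 (hc i)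

end Complete

end Groth.Agent.ArtFunLib
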