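import Groth.Agent.ArtFunLib.Cmp
import Groth.Prelude.Def_ArtFun2
import Mathlib.LinearAlgebra.Dual.Lemmas

/-!
The vector space structure on the tangent space, square-zero extensions of `k`, and the conditions
implied by the existence of versal and miniversal families.
-/

universe u v w

open CategoryTheory

namespace Groth.Agent.ArtFunLib

open ArtFun ArtFun.Art IsLocalRing

variable {Λ k : Type u} [CommRing Λ] [Field k] [Algebra Λ k]

lemma dual_hom_ext {A : Art Λ k} {f g : A ⟶ dual Λ k}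
    (h : ∀ a, (TrivSqZeroExt.snd (f a) : k) = TrivSqZeroExt.snd (g a)) : f = g := dual_ext h

lemma dual_snd_add (x y : dual Λ k) :
    (TrivSqZeroExt.snd (x + y) : k) = TrivSqZeroExt.snd x + TrivSqZeroExt.snd y := rfl

lemma dual_snd_mul (x y : dual Λ k) :
    (TrivSqZeroExt.snd (x * y) : k) =
      TrivSqZeroExt.fst x * TrivSqZeroExt.snd y + TrivSqZeroExt.snd x * TrivSqZeroExt.fst y :=
  DualNumber.snd_mul _ _

section Sum

/-- The sum of two maps to `k[ε]`. -/
lemma exists_pair {E : Art Λ k} (u v : E ⟶ dual Λ k) :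
    ∃ w : E ⟶ dual2 Λ k, w ≫ pr₁ = u ∧ w ≫ pr₂ = v ∧
      ∀ a, (TrivSqZeroExt.snd ((w ≫ plus : E ⟶ dual Λ k) a) : k) =
        TrivSqZeroExt.snd (u a) + TrivSqZeroExt.snd (v a) := by
  obtain ⟨w, h₁, h₂⟩ := exists_lift isFibreProd_dual2 u v
    (by rw [eq_toBase (u ≫ _), eq_toBase (v ≫ _)])
  refine ⟨w, h₁, h₂, fun a => ?_⟩
  rw [← h₁, ← h₂]
  rfl

variable (F : Art Λ k ⥤ Type v)

lemma exists_pair_elt (h0 : H0 F) (h2 : Heps F) (x y : F.obj (dual Λ k)) :
    ∃ z : F.obj (dual2 Λ k), F.map pr₁ z = x ∧ F.map pr₂ z = y :=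
  (cmp_surj_iff F isFibreProd_dual2).1 (h2 _ _ isFibreProd_dual2).2 x y
    (@Subsingleton.elim _ h0.2 _ _)

lemma tangentStr_add [TangentStr F] (z : F.obj (dual2 Λ k)) :
    TangentSpace.mk (F.map pr₁ z) + TangentSpace.mk (F.map pr₂ z) =
      TangentSpace.mk (F.map plus z) := TangentStr.add_eq z

lemma tangentStr_smul [TangentStr F] (c : k) (x : F.obj (dual Λ k)) :
    c • TangentSpace.mk x = TangentSpace.mk (F.map (scale c) x) := TangentStr.smul_eq c x

lemma tangentStr_zero [TangentStr F] (x : F.obj (dual Λ k)) :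
    TangentSpace.mk (F.map (toBase (dual Λ k) ≫ baseToDual) x) = (0 : TangentSpace F) := by
  have h : (toBase (dual Λ k) ≫ baseToDual : dual Λ k ⟶ dual Λ k) = scale 0 :=
    dual_hom_ext fun a => by
      change (0 : k) = ((0 : k) • LinearMap.id : k →ₗ[k] k) (TrivSqZeroExt.snd a)
      simp
  rw [h, ← tangentStr_smul, zero_smul]

lemma tangentStr_zero' [TangentStr F] [Subsingleton (F.obj (base Λ k))]
    (x₀ : F.obj (base Λ k)) :
    TangentSpace.mk (F.map baseToDual x₀) = (0 : TangentSpace F) := by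
  rw [show x₀ = F.map (toBase (dual Λ k)) (F.map baseToDual x₀) from Subsingleton.elim _ _,
    map_map F (toBase (dual Λ k)) baseToDual, tangentStr_zero]

/-- Existence of the vector space structure on the tangent space. -/
theorem nonempty_tangentStr [IsNoetherianRing Λ] [Module.Finite Λ k] (h0 : H0 F) (h2 : Heps F) :
    Nonempty (TangentStr F) := by
  haveI := h0.2
  obtain ⟨x₀⟩ := h0.1
  choose pair hp₁ hp₂ using exists_pair_elt F h0 h2
  have key : ∀ {E : Art Λ k} (u v s : E ⟶ dual Λ k) (z : F.obj E),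
      (∀ a, (TrivSqZeroExt.snd (s a) : k) = TrivSqZeroExt.snd (u a) + TrivSqZeroExt.snd (v a)) →
      F.map plus (pair (F.map u z) (F.map v z)) = F.map s z := by
    intro E u v s z hs
    obtain ⟨w, hw₁, hw₂, hw⟩ := exists_pair u v
    have : pair (F.map u z) (F.map v z) = F.map w z :=
      (cmp_inj_iff F isFibreProd_dual2).1 (h2 _ _ isFibreProd_dual2).1 _ _
        (by rw [hp₁, map_map, hw₁]) (by rw [hp₂, map_map, hw₂])
    rw [this, map_map]
    rw [show (w ≫ plus : E ⟶ dual Λ k) = s from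
      dual_hom_ext fun a => (hw a).trans (hs a).symm]
  have snd_scale : ∀ (c : k) (a : dual Λ k),
      (TrivSqZeroExt.snd ((scale c : dual Λ k ⟶ dual Λ k) a) : k) = c * TrivSqZeroExt.snd a :=
    fun c a => rfl
  have hzero : ∀ x, F.map (toBase (dual Λ k) ≫ baseToDual) x = F.map baseToDual x₀ := fun x => by
    rw [← map_map F]
    exact congrArg (F.map baseToDual) (Subsingleton.elim _ _)
  letI : Add (F.obj (dual Λ k)) := ⟨fun x y => F.map plus (pair x y)⟩
  letI : Zero (F.obj (dual Λ k)) := ⟨F.map baseToDual x₀⟩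
  letI : Neg (F.obj (dual Λ k)) := ⟨fun x => F.map (scale (-1)) x⟩
  letI : SMul k (F.obj (dual Λ k)) := ⟨fun c x => F.map (scale c) x⟩
  have hzero_add : ∀ x : F.obj (dual Λ k), 0 + x = x := fun x => by
    change F.map plus (pair (F.map baseToDual x₀) x) = x
    have := key (toBase _ ≫ baseToDual) (𝟙 _) (𝟙 _) x
      (fun a => (zero_add (TrivSqZeroExt.snd (show DualNumber k from a))).symm)
    rwa [hzero, map_id_app] at this
  have hcomm : ∀ x y : F.obj (dual Λ k), x + y = y + x := fun x y => by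
    change _ = F.map plus (pair y x)
    have := key pr₂ pr₁ plus (pair x y) (fun a => add_comm a.snd.1 a.snd.2)
    rw [hp₁, hp₂] at this
    exact this.symm
  have hassoc : ∀ x y z : F.obj (dual Λ k), x + y + z = x + (y + z) := fun x y z => by
    obtain ⟨T, t', t'', hT⟩ := exists_isFibreProd (toBase (dual2 Λ k)) (toBase (dual Λ k))
      (dual Λ k).res_surjective
    obtain ⟨e, he', he''⟩ := (cmp_surj_iff F hT).1 (h2 _ _ hT).2 (pair x y) z
      (Subsingleton.elim _ _)
    obtain ⟨v, hv₁, hv₂, hv⟩ := exists_pair (t' ≫ pr₂) t''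
    obtain ⟨w, hw₁, hw₂, hw⟩ := exists_pair (t' ≫ pr₁) (v ≫ plus)
    have ex : F.map (t' ≫ pr₁) e = x := by rw [← map_map, he', hp₁]
    have ey : F.map (t' ≫ pr₂) e = y := by rw [← map_map, he', hp₂]
    have e₁ : x + y = F.map (t' ≫ plus) e := by
      change F.map plus (pair x y) = _
      rw [← map_map, he']
    have e₂ : y + z = F.map (v ≫ plus) e := by
      change F.map plus (pair y z) = _
      rw [← ey, ← he'', key _ _ _ _ hv]
    calc x + y + z = F.map (w ≫ plus) e := by
          rw [e₁, ← he'']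
          refine key _ _ _ _ fun a => ?_
          rw [hw, hv]
          exact (add_assoc _ _ _).symm
      _ = x + (y + z) := by
          rw [e₂, ← ex]
          exact (key _ _ _ _ hw).symm
  have hneg : ∀ x : F.obj (dual Λ k), -x + x = 0 := fun x => by
    change F.map plus (pair (F.map (scale (-1)) x) x) = F.map baseToDual x₀
    have := key (scale (-1)) (𝟙 _) (toBase (dual Λ k) ≫ baseToDual) x (fun a => by
      rw [snd_scale]
      change (0 : k) = -1 * TrivSqZeroExt.snd (show DualNumber k from a) +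
        TrivSqZeroExt.snd (show DualNumber k from a)
      ring)
    rwa [hzero, map_id_app] at this
  let G : AddCommGroup (F.obj (dual Λ k)) :=
    { add := (· + ·), add_assoc := hassoc, zero := 0, zero_add := hzero_add,
      add_zero := fun x => (hcomm x 0).trans (hzero_add x), nsmul := nsmulRec, neg := Neg.neg,
      zsmul := zsmulRec, neg_add_cancel := hneg, add_comm := hcomm }
  have hsmul_add : ∀ (c : k) (x y : F.obj (dual Λ k)), c • (x + y) = c • x + c • y := fun c x y => by
    change F.map (scale c) (F.map plus (pair x y)) =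
      F.map plus (pair (F.map (scale c) x) (F.map (scale c) y))
    have := key (pr₁ ≫ scale c) (pr₂ ≫ scale c) (plus ≫ scale c) (pair x y)
      (fun a => mul_add c a.snd.1 a.snd.2)
    rw [← map_map, ← map_map, ← map_map, hp₁, hp₂] at this
    exact this.symm
  have hadd_smul : ∀ (c d : k) (x : F.obj (dual Λ k)), (c + d) • x = c • x + d • x := fun c d x =>
    (key (scale c) (scale d) (scale (c + d)) x fun a =>
      add_mul c d (TrivSqZeroExt.snd (show DualNumber k from a))).symm
  have hone : ∀ x : F.obj (dual Λ k), (1 : k) • x = x := fun x => by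
    change F.map (scale 1) x = x
    rw [show (scale 1 : dual Λ k ⟶ dual Λ k) = 𝟙 _ from
      dual_hom_ext fun a => by rw [snd_scale]; exact one_mul _, map_id_app]
  have hmul : ∀ (c d : k) (x : F.obj (dual Λ k)), (c * d) • x = c • d • x := fun c d x => by
    change F.map (scale (c * d)) x = F.map (scale c) (F.map (scale d) x)
    rw [map_map]
    rw [show (scale (c * d) : dual Λ k ⟶ dual Λ k) = scale d ≫ scale c from
      dual_hom_ext fun a => mul_assoc c d (TrivSqZeroExt.snd (show DualNumber k from a))]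
  have hzsmul : ∀ x : F.obj (dual Λ k), (0 : k) • x = 0 := fun x => by
    change F.map (scale 0) x = F.map baseToDual x₀
    rw [show (scale 0 : dual Λ k ⟶ dual Λ k) = toBase _ ≫ baseToDual from
      dual_hom_ext fun a => by rw [snd_scale, zero_mul]; rfl, hzero]
  have hsmulz : ∀ c : k, c • (0 : F.obj (dual Λ k)) = 0 := fun c => by
    rw [← hzsmul 0, ← hmul, mul_zero]
  refine ⟨{
    addCommGroup := G
    module :=
      { smul := (· • ·), one_smul := hone, mul_smul := hmul, smul_zero := hsmulz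
        smul_add := hsmul_add, add_smul := hadd_smul, zero_smul := hzsmul }
    smul_eq := fun c x => rfl
    add_eq := fun z => by
      change F.map plus (pair (F.map pr₁ z) (F.map pr₂ z)) = _
      exact key _ _ _ z fun a => rfl }⟩

end Sum

section Linear

variable {F : Art Λ k ⥤ Type v} {G : Art Λ k ⥤ Type w}

/-- The differential of a natural family is linear. -/
theorem exists_tangentLinear [TangentStr F] [TangentStr G] (h0 : H0 F) (h2 : Heps F)
    (η : NatFam F G) :
    ∃ f : TangentSpace F →ₗ[k] TangentSpace G, ∀ x, f x = η.app (dual Λ k) x := by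
  refine ⟨{ toFun := fun x => η.app (dual Λ k) x, map_add' := fun x y => ?_,
            map_smul' := fun c x => ?_ }, fun x => rfl⟩
  · obtain ⟨z, rfl, rfl⟩ := exists_pair_elt F h0 h2 x y
    refine (congrArg (η.app _) (TangentStr.add_eq z)).trans ?_
    simp only [η.natural]
    exact (TangentStr.add_eq _).symm
  · refine (congrArg (η.app _) (TangentStr.smul_eq c x)).trans ?_
    simp only [η.natural]
    exact (TangentStr.smul_eq c _).symm

end Linear

section SquareZero

variable [IsNoetherianRing Λ] [Module.Finite Λ k]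

/-- A nonzero element of the maximal ideal of a square-zero extension of `k` is seen by `k[ε]`. -/
theorem exists_toDual_ne_zero {E : Art Λ k} (σ : base Λ k ⟶ E)
    (hE : maximalIdeal E ^ 2 = ⊥) {t : E} (ht : t ∈ maximalIdeal E) (ht0 : t ≠ 0) :
    ∃ ψ : E ⟶ dual Λ k, (TrivSqZeroExt.snd (ψ t) : k) ≠ 0 ∧ σ ≫ ψ = baseToDual := by
  letI : Algebra k E := σ.toAlgHom.toRingHom.toAlgebra
  have hσ : ∀ c : k, E.res (algebraMap k E c) = c := fun c => res_app σ c
  let W : Submodule k E := Submodule.span k {(1 : E)}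
  have htW : t ∉ W := fun h => by
    obtain ⟨c, hc⟩ := Submodule.mem_span_singleton.1 h
    rw [Algebra.smul_def, mul_one] at hc
    have := (mem_maximalIdeal_iff E t).1 ht
    rw [← hc, hσ] at this
    exact ht0 (by rw [← hc, this, map_zero])
  obtain ⟨φ, hφ⟩ : ∃ φ : Module.Dual k (E ⧸ W), φ (W.mkQ t) ≠ 0 := by
    by_contra hc
    push Not at hc
    exact htW ((Submodule.Quotient.mk_eq_zero W).1 ((Module.forall_dual_apply_eq_zero_iff k _).1 hc))
  let D : E →ₗ[k] k := φ.comp W.mkQ
  have hD1 : D 1 = 0 := by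
    change φ (W.mkQ 1) = 0
    rw [show W.mkQ (1 : E) = 0 from
      (Submodule.Quotient.mk_eq_zero W).2 (Submodule.mem_span_singleton_self 1), map_zero]
  have hDc : ∀ c : k, D (algebraMap k E c) = 0 := fun c => by
    rw [Algebra.algebraMap_eq_smul_one, map_smul, hD1, smul_zero]
  have hmul : ∀ x y, D (x * y) = E.res x * D y + D x * E.res y := fun x y => by
    have h : (x - algebraMap k E (E.res x)) * (y - algebraMap k E (E.res y)) = 0 := by
      have := Ideal.mul_mem_mul
        (show x - algebraMap k E (E.res x) ∈ maximalIdeal E by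
          rw [mem_maximalIdeal_iff, map_sub, hσ, sub_self])
        (show y - algebraMap k E (E.res y) ∈ maximalIdeal E by
          rw [mem_maximalIdeal_iff, map_sub, hσ, sub_self])
      rwa [← pow_two, hE, Ideal.mem_bot] at this
    have hxy : x * y = E.res x • y + E.res y • x - algebraMap k E (E.res x * E.res y) := by
      rw [Algebra.smul_def, Algebra.smul_def, map_mul]
      linear_combination h
    rw [hxy, map_sub, map_add, map_smul, map_smul, hDc, smul_eq_mul, smul_eq_mul]
    ring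
  let ψ : E →ₐ[Λ] DualNumber k :=
    { toFun := fun x => TrivSqZeroExt.inl (E.res x) + TrivSqZeroExt.inr (D x)
      map_one' := by simp [hD1]
      map_mul' := fun x y => by
        refine TrivSqZeroExt.ext ?_ ?_
        · simp
        · simp [hmul]
      map_zero' := by simp
      map_add' := fun x y => by refine TrivSqZeroExt.ext ?_ ?_ <;> simp
      commutes' := fun r => by
        have hr : algebraMap Λ E r = algebraMap k E (algebraMap Λ k r) :=
          (σ.toAlgHom.commutes r).symm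
        refine TrivSqZeroExt.ext ?_ ?_
        · simp [TrivSqZeroExt.algebraMap_eq_inl']
        · simp [TrivSqZeroExt.algebraMap_eq_inl', hr, hDc] }
  refine ⟨⟨ψ, AlgHom.ext fun x => ?_⟩, ?_, dual_hom_ext fun c => ?_⟩
  · change TrivSqZeroExt.fst (ψ x) = E.res x
    simp [ψ]
  · change TrivSqZeroExt.snd (ψ t) ≠ 0
    simpa [ψ, D] using hφ
  · change TrivSqZeroExt.snd (ψ (algebraMap k E c)) = (0 : k)
    simp [ψ, hDc]

variable {F : Art Λ k ⥤ Type v}

theorem cmp_sqZero_bijective (hF : Heps F) {E : Art Λ k} (σ : base Λ k ⟶ E)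
    (hE : maximalIdeal E ^ 2 = ⊥) ⦃B A : Art Λ k⦄ (p' : B ⟶ A) (p'' : B ⟶ E)
    (h : IsFibreProd p' p'' (toBase A) (toBase E)) : Function.Bijective (cmp F h) := by
  refine surjective_induction (P := fun E X _ => Function.Bijective (toBase X) →
    (base Λ k ⟶ E) → maximalIdeal E ^ 2 = ⊥ → ∀ ⦃B A : Art Λ k⦄ (p' : B ⟶ A) (p'' : B ⟶ E)
      (h : IsFibreProd p' p'' (toBase A) (toBase E)), Function.Bijective (cmp F h))
    ?_ ?_ (toBase E) E.res_surjective Function.bijective_id σ hE p' p'' h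
  · intro E X e he hX _ _ B A p' p'' h
    refine cmp_bijective_of_bijective F h ?_
    rw [← eq_toBase (e ≫ toBase X)]
    exact hX.comp he
  intro E C X p q hp _ ih hX σ hE B A p' p'' h
  obtain ⟨t, ht, ht0, hm⟩ := exists_generator hp
  obtain ⟨ψ, hψ, -⟩ := exists_toDual_ne_zero σ hE
    (ker_le_maximalIdeal p (ht ▸ Ideal.mem_span_singleton_self t)) ht0
  have hC : maximalIdeal C ^ 2 = ⊥ := by
    rw [pow_two, ← le_bot_iff, Ideal.mul_le]
    intro a ha b hb
    obtain ⟨a', rfl⟩ := hp.1 a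
    obtain ⟨b', rfl⟩ := hp.1 b
    rw [apply_mem_maximalIdeal_iff] at ha hb
    have := Ideal.mul_mem_mul ha hb
    rw [← pow_two, hE, Ideal.mem_bot] at this
    rw [Ideal.mem_bot, ← map_mul, this, map_zero]
  have hEC : IsFibreProd p ψ (toBase C) (toBase (dual Λ k)) := by
    refine ⟨by rw [eq_toBase (p ≫ _), eq_toBase (ψ ≫ _)], fun e₁ e₂ h₁ h₂ => ?_, fun c d hcd => ?_⟩
    · have hk : e₁ - e₂ ∈ RingHom.ker p.toAlgHom := by
        change p (e₁ - e₂) = 0
        rw [map_sub, h₁, sub_self]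
      rw [ht, Ideal.mem_span_singleton'] at hk
      obtain ⟨a, ha⟩ := hk
      have hs : (TrivSqZeroExt.snd (ψ (a * t)) : k) = E.res a * TrivSqZeroExt.snd (ψ t) := by
        rw [map_mul]
        rw [dual_snd_mul, fst_apply_dual, fst_apply_dual,
          (mem_maximalIdeal_iff E t).1 (ker_le_maximalIdeal p (ht ▸ Ideal.mem_span_singleton_self t))]
        ring
      have h0 : (TrivSqZeroExt.snd (ψ (a * t)) : k) = 0 := by
        rw [ha, map_sub, h₂, sub_self]; rfl
      rw [hs, mul_eq_zero] at h0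
      rw [← sub_eq_zero, ← ha, hm a ((mem_maximalIdeal_iff E a).2 (h0.resolve_right hψ))]
    · obtain ⟨e₀, rfl⟩ := hp.1 c
      obtain ⟨a, ha⟩ := E.res_surjective
        ((TrivSqZeroExt.snd d - TrivSqZeroExt.snd (ψ e₀)) / TrivSqZeroExt.snd (ψ t))
      refine ⟨e₀ + a * t, ?_, ?_⟩
      · rw [map_add, map_mul, RingHom.mem_ker.1 (show t ∈ RingHom.ker p.toAlgHom by
          rw [ht]; exact Ideal.mem_span_singleton_self t), mul_zero, add_zero]
      · refine TrivSqZeroExt.ext ?_ ?_
        · rw [fst_apply_dual, map_add, map_mul,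
            (mem_maximalIdeal_iff E t).1 (ker_le_maximalIdeal p
              (ht ▸ Ideal.mem_span_singleton_self t)), mul_zero, add_zero, ← res_app p]
          exact hcd
        · rw [map_add, map_mul]
          rw [dual_snd_add, dual_snd_mul, fst_apply_dual, fst_apply_dual, ha,
            (mem_maximalIdeal_iff E t).1 (ker_le_maximalIdeal p
              (ht ▸ Ideal.mem_span_singleton_self t))]
          field_simp
          ring
  have h' : IsFibreProd p' p'' (toBase A) (p ≫ toBase C) := by rwa [eq_toBase (p ≫ toBase C)]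
  obtain ⟨D, d', d'', g, hD, hg, hgd⟩ := exists_paste h' C.res_surjective
  have hBD : IsFibreProd g (p'' ≫ ψ) (toBase D) (toBase (dual Λ k)) := by
    refine ⟨by rw [eq_toBase (g ≫ _), eq_toBase ((p'' ≫ ψ) ≫ _)], fun b₁ b₂ h₁ h₂ => ?_,
      fun x d hxd => ?_⟩
    · refine hg.inj _ _ h₁ (hEC.inj _ _ ?_ h₂)
      rw [← hg.w_apply, ← hg.w_apply, h₁]
    · obtain ⟨e, he, he'⟩ := hEC.surj (d'' x) d ((res_app d'' x).trans hxd)
      obtain ⟨b, hb, hb'⟩ := hg.surj x e he.symm
      exact ⟨b, hb, by rw [Art.comp_apply, hb', he']⟩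
  have ihD := ih hX (σ ≫ p) hC _ _ hD
  refine ⟨(cmp_inj_iff F h).2 fun z₁ z₂ e₁ e₂ => ?_, (cmp_surj_iff F h).2 fun x y e => ?_⟩
  · refine (cmp_inj_iff F hBD).1 (hF _ _ hBD).1 _ _ ((cmp_inj_iff F hD).1 ihD.1 _ _ ?_ ?_) ?_
    · rw [map_map, map_map, hgd, e₁]
    · rw [map_map, map_map, hg.w, ← map_map, ← map_map, e₂]
    · rw [← map_map, ← map_map, e₂]
  · obtain ⟨zD, hzD, hzD'⟩ := (cmp_surj_iff F hD).1 ihD.2 x (F.map p y)
      (by rw [map_map, eq_toBase (p ≫ toBase C), e])
    obtain ⟨z, hz, hz'⟩ := (cmp_surj_iff F hBD).1 (hF _ _ hBD).2 zD (F.map ψ y)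
      (by rw [← eq_toBase (d'' ≫ toBase C), ← map_map F d'', hzD', map_map, map_map,
        eq_toBase (p ≫ toBase C), eq_toBase (ψ ≫ toBase _)])
    refine ⟨z, by rw [← hgd, ← map_map, hz, hzD], (cmp_inj_iff F hEC).1 (hF _ _ hEC).1 _ _ ?_ ?_⟩
    · rw [map_map, ← hg.w, ← map_map, hz, hzD']
    · rw [map_map, hz']

end SquareZero

section Versal

variable [IsNoetherianRing Λ] [Module.Finite Λ k] {F : Art Λ k ⥤ Type v}
  {R : Type u} [CommRing R] [Algebra Λ R] {resR : R →ₐ[Λ] k} {ξ : Family R resR F}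

omit [IsNoetherianRing Λ] [Module.Finite Λ k] in
theorem surjective_app_of_versal (hξ : IsVersal ξ) [Subsingleton (F.obj (base Λ k))]
    (A : Art Λ k) : Function.Surjective (ξ.app A) :=
  surjective_of_lifts (NatFam.ofFamily ξ) hξ (fun _ => ⟨basePoint R resR, Subsingleton.elim _ _⟩) A

omit [IsNoetherianRing Λ] [Module.Finite Λ k] in
theorem s1_of_versal (hξ : IsVersal ξ) (hsurj : ∀ A, Function.Surjective (ξ.app A)) : S1 F := by
  intro B A A' A'' p' p'' f' f'' h hf
  rw [cmp_surj_iff]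
  intro x' x'' e
  obtain ⟨φ', rfl⟩ := hsurj A' x'
  obtain ⟨φ'', hφ'', hx''⟩ := hξ f'' hf (HomSet.map f' φ') x'' (by rw [ξ.natural, e])
  obtain ⟨φ, h₁, h₂⟩ := exists_homSet_lift h φ' φ'' hφ''.symm
  exact ⟨ξ.app B φ, by rw [← ξ.natural, h₁], by rw [← ξ.natural, h₂, hx'']⟩

omit [IsNoetherianRing Λ] [Module.Finite Λ k] in
theorem heps_of_miniversal (hξ : IsMiniversal ξ) (hsurj : ∀ A, Function.Surjective (ξ.app A)) :
    Heps F := by
  intro B A p' p'' h
  refine ⟨(cmp_inj_iff F h).2 fun z₁ z₂ e₁ e₂ => ?_, s1_of_versal hξ.1 hsurj _ _ _ _ h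
    (dual Λ k).res_surjective⟩
  obtain ⟨φ, hφ⟩ := hsurj A (F.map p' z₁)
  obtain ⟨ψ₁, hψ₁, h₁⟩ := hξ.1 p' (surjective_fst h (dual Λ k).res_surjective) φ z₁ hφ.symm
  obtain ⟨ψ₂, hψ₂, h₂⟩ := hξ.1 p' (surjective_fst h (dual Λ k).res_surjective) φ z₂
    (e₁.symm.trans hφ.symm)
  have he : HomSet.map p'' ψ₁ = HomSet.map p'' ψ₂ :=
    hξ.2.1 (by rw [ξ.natural, ξ.natural, h₁, h₂, e₂])
  have : ψ₁ = ψ₂ := Subtype.ext (AlgHom.ext fun c => h.inj _ _
    (congrArg (fun t : HomSet R resR A => t.1 c) (hψ₁.trans hψ₂.symm))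
    (congrArg (fun t : HomSet R resR (dual Λ k) => t.1 c) he))
  rw [← h₁, ← h₂, this]

omit [IsNoetherianRing Λ] [Module.Finite Λ k] in
theorem h0_of_surjective (hsurj : ∀ A, Function.Surjective (ξ.app A)) : H0 F :=
  ⟨⟨ξ.app _ (basePoint R resR)⟩, ⟨fun a b => by
    obtain ⟨φ, rfl⟩ := hsurj _ a
    obtain ⟨ψ, rfl⟩ := hsurj _ b
    rw [eq_basePoint R resR φ, eq_basePoint R resR ψ]⟩⟩

end Versal

end Groth.Agent.ArtFunLib
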