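import Groth.Agent.ArtFunLib.Formal
import Groth.Agent.ArtFunLib.Tangent
import Mathlib.RingTheory.AdicCompletion.Functoriality
import Mathlib.RingTheory.Derivation.Basic

/-!
Surjectivity criteria on cotangent spaces and the tangent space of `h_R`.
-/

universe u v

open CategoryTheory

namespace Groth.Agent.ArtFunLib

open ArtFun ArtFun.Art IsLocalRing

variable {Λ k : Type u} [CommRing Λ] [Field k] [Algebra Λ k]

theorem surjective_cotangent_tfae {R S : Type u} [CommRing R] [CommRing S] [Algebra Λ R] [Algebra Λ S]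
    [IsLocalRing R] [IsLocalRing S] [IsNoetherianRing S] [IsAdicComplete (maximalIdeal R) R]
    (resR : R →ₐ[Λ] k) (resS : S →ₐ[Λ] k) (hR : Function.Surjective resR)
    (hmR : ∀ a, a ∈ maximalIdeal R ↔ resR a = 0) (hmS : ∀ a, a ∈ maximalIdeal S ↔ resS a = 0)
    (f : R →ₐ[Λ] S) (hf : resS.comp f = resR) :
    List.TFAE [Function.Surjective f,
      Ideal.map f (maximalIdeal R) ⊔ maximalIdeal S ^ 2 = maximalIdeal S,
      Ideal.map (algebraMap Λ S) (RingHom.ker (algebraMap Λ k)) ⊔ Ideal.map f (maximalIdeal R) ⊔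
        maximalIdeal S ^ 2 = maximalIdeal S] := by
  have hres : ∀ a, resS (f a) = resR a := fun a => congrArg (fun g : R →ₐ[Λ] k => g a) hf
  have hmap : Ideal.map f (maximalIdeal R) ≤ maximalIdeal S := Ideal.map_le_iff_le_comap.2
    fun a ha => (hmS _).2 ((hres a).trans ((hmR a).1 ha))
  have hΛ : Ideal.map (algebraMap Λ S) (RingHom.ker (algebraMap Λ k)) ≤
      Ideal.map f (maximalIdeal R) := Ideal.map_le_iff_le_comap.2 fun r hr => by
    rw [Ideal.mem_comap, ← f.commutes r]
    exact Ideal.mem_map_of_mem f ((hmR _).2 ((resR.commutes r).trans hr))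
  tfae_have 1 → 2 := fun h => by
    refine le_antisymm (sup_le hmap (Ideal.pow_le_self two_ne_zero)) fun s hs => ?_
    obtain ⟨a, rfl⟩ := h s
    exact Ideal.mem_sup_left (Ideal.mem_map_of_mem f ((hmR a).2 ((hres a).symm.trans ((hmS _).1 hs))))
  tfae_have 2 ↔ 3 := by rw [sup_eq_right.2 hΛ]
  tfae_have 2 → 1 := fun h => by
    have h1 : maximalIdeal S ≤ Ideal.map f (maximalIdeal R) := by
      refine Submodule.le_of_le_smul_of_le_jacobson_bot (IsNoetherian.noetherian _)
        (maximalIdeal_le_jacobson (⊥ : Ideal S)) ?_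
      rw [smul_eq_mul, ← pow_two]
      exact h.ge
    haveI : IsHausdorff ((maximalIdeal R).map (f : R →+* S)) S :=
      IsHausdorff.of_le_jacobson _ _ (le_trans hmap (maximalIdeal_le_jacobson _))
    refine surjective_of_mk_map_comp_surjective (I := maximalIdeal R) (f : R →+* S) fun x => ?_
    obtain ⟨s, rfl⟩ := Ideal.Quotient.mk_surjective x
    obtain ⟨a, ha⟩ := hR (resS s)
    exact ⟨a, Ideal.Quotient.eq.2 (h1 ((hmS _).2 (by
      rw [map_sub]
      exact sub_eq_zero.2 ((hres a).trans ha))))⟩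
  tfae_finish

section Finite

variable [IsNoetherianRing Λ] [Module.Finite Λ k]

omit [IsNoetherianRing Λ] in
/-- Finitely many elements determine a `Λ`-linear function killing `Λ` that satisfies the Leibniz
rule through an augmentation. -/
theorem exists_finset_determining {R : Type u} [CommRing R] [Algebra Λ R] [IsNoetherianRing R]
    [IsLocalRing R] (res : R →ₐ[Λ] k) (hres : Function.Surjective res)
    (hm : ∀ a, a ∈ maximalIdeal R ↔ res a = 0) :
    ∃ s : Finset R, ∀ D : R → k, (∀ x y, D (x + y) = D x + D y) →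
      (∀ x y, D (x * y) = res x * D y + res y * D x) → (∀ r, D (algebraMap Λ R r) = 0) →
      (∀ a ∈ s, D a = 0) → D = 0 := by
  classical
  obtain ⟨sk, hsk⟩ := Module.Finite.fg_top (R := Λ) (M := k)
  choose lift hlift using hres
  obtain ⟨sm, hsm⟩ := IsNoetherian.noetherian (maximalIdeal R)
  refine ⟨sk.image lift ∪ sm, fun D hadd hmul hΛ hs => funext fun x => ?_⟩
  have h0 : D 0 = 0 := by simpa using hΛ 0
  have hmax : ∀ a ∈ maximalIdeal R, D a = 0 := by
    rw [← hsm]
    intro a ha
    induction ha using Submodule.span_induction with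
    | mem a ha => exact hs a (Finset.mem_union_right _ ha)
    | zero => exact h0
    | add a b _ _ ha hb => rw [hadd, ha, hb, add_zero]
    | smul c a hmem ha =>
      have hr : res a = 0 := (hm a).1 (hsm ▸ hmem)
      rw [smul_eq_mul, hmul, ha, hr]; ring
  have hlk : ∀ c : k, ∃ l, D l = 0 ∧ res l = c := fun c => by
    have : c ∈ Submodule.span Λ (sk : Set k) := hsk ▸ Submodule.mem_top
    induction this using Submodule.span_induction with
    | mem c hc =>
      exact ⟨lift c, hs _ (Finset.mem_union_left _ (Finset.mem_image_of_mem _ hc)), hlift c⟩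
    | zero => exact ⟨0, h0, map_zero res⟩
    | add a b _ _ ha hb =>
      obtain ⟨l₁, h₁, e₁⟩ := ha
      obtain ⟨l₂, h₂, e₂⟩ := hb
      exact ⟨l₁ + l₂, by rw [hadd, h₁, h₂, add_zero], by rw [map_add, e₁, e₂]⟩
    | smul c a _ ha =>
      obtain ⟨l, h₁, e₁⟩ := ha
      exact ⟨c • l, by rw [Algebra.smul_def, hmul, hΛ, h₁]; ring, by rw [map_smul, e₁]⟩
  obtain ⟨l, hl, hx⟩ := hlk (res x)
  have h2 := hadd (x - l) l
  rw [sub_add_cancel, hl, add_zero] at h2
  rw [h2]
  exact hmax _ ((hm _).2 ((map_sub res x l).trans (sub_eq_zero.2 hx.symm)))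

end Finite

section TangentHR

variable {R : Type u} [CommRing R] [Algebra Λ R] {resR : R →ₐ[Λ] k}

/-- The tangent vector of `h_R` as a function on `R`. -/
def sndFun (θ : TangentSpace (hR R resR)) : R → k := fun a =>
  TrivSqZeroExt.snd (show DualNumber k from (show HomSet R resR (dual Λ k) from θ).1 a)

lemma sndFun_injective : Function.Injective (sndFun (Λ := Λ) (resR := resR)) := fun θ θ' h => by
  let φ : HomSet R resR (dual Λ k) := θ
  let φ' : HomSet R resR (dual Λ k) := θ'
  refine show φ = φ' from Subtype.ext (AlgHom.ext fun a => TrivSqZeroExt.ext ?_ (congrFun h a))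
  exact (congrArg (fun g : R →ₐ[Λ] k => g a) φ.2).trans
    (congrArg (fun g : R →ₐ[Λ] k => g a) φ'.2).symm

lemma fst_homSet_dual (φ : HomSet R resR (dual Λ k)) (a : R) :
    TrivSqZeroExt.fst (φ.1 a) = resR a := congrArg (fun g : R →ₐ[Λ] k => g a) φ.2

lemma sndFun_mul (θ : TangentSpace (hR R resR)) (x y : R) :
    sndFun θ (x * y) = resR x * sndFun θ y + resR y * sndFun θ x := by
  let φ : HomSet R resR (dual Λ k) := θ
  change TrivSqZeroExt.snd (φ.1 (x * y)) = resR x * TrivSqZeroExt.snd (φ.1 y) +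
    resR y * TrivSqZeroExt.snd (φ.1 x)
  rw [map_mul, dual_snd_mul, fst_homSet_dual, fst_homSet_dual]
  ring

lemma sndFun_add_apply (θ : TangentSpace (hR R resR)) (x y : R) :
    sndFun θ (x + y) = sndFun θ x + sndFun θ y := by
  let φ : HomSet R resR (dual Λ k) := θ
  change TrivSqZeroExt.snd (φ.1 (x + y)) = TrivSqZeroExt.snd (φ.1 x) + TrivSqZeroExt.snd (φ.1 y)
  rw [map_add, dual_snd_add]

lemma sndFun_algebraMap (θ : TangentSpace (hR R resR)) (r : Λ) :
    sndFun θ (algebraMap Λ R r) = 0 := by
  let φ : HomSet R resR (dual Λ k) := θ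
  change TrivSqZeroExt.snd (φ.1 (algebraMap Λ R r)) = (0 : k)
  rw [φ.1.commutes]
  change TrivSqZeroExt.snd (algebraMap Λ (DualNumber k) r) = 0
  rw [TrivSqZeroExt.algebraMap_eq_inl', TrivSqZeroExt.snd_inl]

variable [TangentStr (hR R resR)]

/-- `sndFun` is linear for any admissible structure on the tangent space. -/
noncomputable def sndLin : TangentSpace (hR R resR) →ₗ[k] (R → k) where
  toFun := sndFun
  map_add' x y := by
    obtain ⟨φ, h₁, h₂⟩ := exists_homSet_lift isFibreProd_dual2
      (show HomSet R resR (dual Λ k) from x) (show HomSet R resR (dual Λ k) from y)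
      ((eq_basePoint R resR _).trans (eq_basePoint R resR _).symm)
    obtain rfl : x = TangentSpace.mk (F := hR R resR) ((hR R resR).map pr₁ φ) := h₁.symm
    obtain rfl : y = TangentSpace.mk (F := hR R resR) ((hR R resR).map pr₂ φ) := h₂.symm
    rw [tangentStr_add (hR R resR) φ]
    rfl
  map_smul' c x := by
    rw [show c • x = _ from tangentStr_smul (hR R resR) c x]
    rfl

lemma sndLin_injective : Function.Injective (sndLin (Λ := Λ) (resR := resR)) :=
  sndFun_injective

theorem hfin_hR [Module.Finite Λ k] [IsLocalRing R] [IsNoetherianRing R]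
    (hres : Function.Surjective resR) (hm : ∀ a, a ∈ maximalIdeal R ↔ resR a = 0) :
    Hfin (hR R resR) := by
  obtain ⟨s, hs⟩ := exists_finset_determining resR hres hm
  refine Module.Finite.of_injective
    ((LinearMap.funLeft k k (fun a : s => (a : R))).comp sndLin) ?_
  rw [injective_iff_map_eq_zero]
  intro θ hθ
  refine sndLin_injective ?_
  rw [map_zero]
  exact hs _ (sndFun_add_apply θ) (sndFun_mul θ) (sndFun_algebraMap θ) fun a ha =>
    congrFun hθ ⟨a, ha⟩

end TangentHR

end Groth.Agent.ArtFunLib
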