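import Groth.Agent.FlatNilp.Basic
import Mathlib.RingTheory.Flat.Tensor

/-!
Flat lifts of an ideal along a square-zero thickening: differences and translates.
-/

universe u

open scoped TensorProduct

namespace Groth.Agent.ArtFunLib.EmbDef

variable {A' : Type u} [CommRing A'] (J : Ideal A') {B' : Type u} [CommRing B'] [Algebra A' B']

/-- Multiplication `B' ⊗ J → B'`. -/
noncomputable def μ : B' ⊗[A'] ↥J →ₗ[B'] B' :=
  (TensorProduct.AlgebraTensorModule.rid A' B' B').toLinearMap ∘ₗ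
    TensorProduct.AlgebraTensorModule.map LinearMap.id J.subtype

lemma μ_eq (z : B' ⊗[A'] ↥J) :
    TensorProduct.rid A' B' (LinearMap.lTensor B' (Submodule.subtype J) z) = μ J z := by
  induction z using TensorProduct.induction_on with
  | zero => simp
  | tmul b j => simp [μ]
  | add x y hx hy => rw [map_add, map_add, map_add, hx, hy]

lemma μ_tmul (b : B') (j : J) : μ J (b ⊗ₜ j) = algebraMap A' B' j * b := by
  simp [μ, Algebra.smul_def]

lemma μ_injective [Module.Flat A' B'] : Function.Injective (μ J (B' := B')) := fun x y h => by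
  rw [← μ_eq, ← μ_eq] at h
  exact Module.Flat.lTensor_preserves_injective_linearMap _ Subtype.val_injective
    ((TensorProduct.rid A' B').injective h)

lemma μ_mem (z : B' ⊗[A'] ↥J) : μ J z ∈ J.map (algebraMap A' B') := by
  induction z using TensorProduct.induction_on with
  | zero => simp
  | tmul b j =>
    rw [μ_tmul]
    exact Ideal.mul_mem_right _ _ (Ideal.mem_map_of_mem _ j.2)
  | add x y hx hy => rw [map_add]; exact add_mem hx hy

lemma exists_μ_eq {w : B'} (hw : w ∈ J.map (algebraMap A' B')) : ∃ z, μ J z = w :=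
  (Ideal.span_le.2 (fun x hx => by
    obtain ⟨j, hj, rfl⟩ := hx
    exact ⟨(1 : B') ⊗ₜ (⟨j, hj⟩ : J), by rw [μ_tmul, mul_one]⟩) :
      J.map (algebraMap A' B') ≤ LinearMap.range (μ J (B' := B'))) hw

variable (I : Ideal (B' ⧸ J.map (algebraMap A' B')))

/-- The map `B' → C`. -/
noncomputable def π : B' →ₗ[B'] (B' ⧸ J.map (algebraMap A' B')) ⧸ I :=
  (IsScalarTower.toAlgHom B' B' ((B' ⧸ J.map (algebraMap A' B')) ⧸ I)).toLinearMap

/-- The map `B' ⊗ J → C ⊗ J`. -/
noncomputable def ν : B' ⊗[A'] ↥J →ₗ[B'] ((B' ⧸ J.map (algebraMap A' B')) ⧸ I) ⊗[A'] ↥J :=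
  TensorProduct.AlgebraTensorModule.map (π J I) LinearMap.id

lemma ν_eq (z : B' ⊗[A'] ↥J) :
    LinearMap.rTensor ↥J (IsScalarTower.toAlgHom A' B' ((B' ⧸ J.map (algebraMap A' B')) ⧸ I)).toLinearMap z =
      ν J I z := by
  induction z using TensorProduct.induction_on with
  | zero => simp
  | tmul b j => rfl
  | add x y hx hy => rw [map_add, map_add, hx, hy]

lemma ν_surjective : Function.Surjective (ν J I) := fun w => by
  induction w using TensorProduct.induction_on with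
  | zero => exact ⟨0, map_zero _⟩
  | tmul c j =>
    obtain ⟨c, rfl⟩ := Ideal.Quotient.mk_surjective c
    obtain ⟨b, rfl⟩ := Ideal.Quotient.mk_surjective c
    exact ⟨b ⊗ₜ j, rfl⟩
  | add x y hx hy =>
    obtain ⟨a, rfl⟩ := hx
    obtain ⟨b, rfl⟩ := hy
    exact ⟨a + b, map_add _ _ _⟩

variable {J I}

section Lift

variable {L : Ideal B'} (hL : L.map (Ideal.Quotient.mk (J.map (algebraMap A' B'))) = I)

include hL

lemma exists_lift {x : B' ⧸ J.map (algebraMap A' B')} (hx : x ∈ I) :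
    ∃ x' ∈ L, Ideal.Quotient.mk (J.map (algebraMap A' B')) x' = x :=
  (Ideal.mem_map_iff_of_surjective _ Ideal.Quotient.mk_surjective).1 (hL.ge hx)

lemma mk_mem {y : B'} (hy : y ∈ L) : Ideal.Quotient.mk (J.map (algebraMap A' B')) y ∈ I :=
  hL.le (Ideal.mem_map_of_mem _ hy)

/-- A tensor dying in `C ⊗ J` dies in `(B'/L) ⊗ J`. -/
lemma rTensor_eq_zero (hJ : J * J = ⊥) {z : B' ⊗[A'] ↥J} (hz : ν J I z = 0) :
    LinearMap.rTensor ↥J ((L.mkQ).restrictScalars A') z = 0 := by
  rw [← ν_eq] at hz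
  have hex : Function.Exact ((LinearMap.ker (π J I)).subtype.restrictScalars A')
      (IsScalarTower.toAlgHom A' B' ((B' ⧸ J.map (algebraMap A' B')) ⧸ I)).toLinearMap := fun y =>
    ⟨fun h => ⟨⟨y, h⟩, rfl⟩, fun ⟨w, hw⟩ => hw ▸ w.2⟩
  have hs : Function.Surjective
      (IsScalarTower.toAlgHom A' B' ((B' ⧸ J.map (algebraMap A' B')) ⧸ I)).toLinearMap := fun c => by
    obtain ⟨c, rfl⟩ := Ideal.Quotient.mk_surjective c
    obtain ⟨b, rfl⟩ := Ideal.Quotient.mk_surjective c
    exact ⟨b, rfl⟩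
  obtain ⟨y, rfl⟩ := (rTensor_exact ↥J hex hs z).1 hz
  clear hz
  induction y using TensorProduct.induction_on with
  | zero => rw [map_zero, map_zero]
  | tmul w j =>
    obtain ⟨b, hb⟩ := w
    have hb' : Ideal.Quotient.mk (J.map (algebraMap A' B')) b ∈ I := Ideal.Quotient.eq_zero_iff_mem.1 hb
    obtain ⟨l, hl, hlb⟩ := exists_lift hL hb'
    obtain ⟨s, hs⟩ := exists_μ_eq J (Ideal.Quotient.eq.1 hlb.symm)
    rw [LinearMap.rTensor_tmul, LinearMap.rTensor_tmul]
    change L.mkQ b ⊗ₜ[A'] j = 0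
    rw [show b = l + μ J s by rw [hs]; ring, map_add, Submodule.mkQ_apply, (Submodule.Quotient.mk_eq_zero L).2 hl,
      zero_add]
    clear hs
    induction s using TensorProduct.induction_on with
    | zero => rw [map_zero, map_zero, TensorProduct.zero_tmul]
    | tmul c i =>
      rw [μ_tmul, ← Algebra.smul_def, LinearMap.map_smul_of_tower, TensorProduct.smul_tmul]
      have : (i : A') • j = 0 := Subtype.ext (by
        have := Ideal.mul_mem_mul i.2 j.2
        rwa [hJ, Ideal.mem_bot] at this)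
      rw [this, TensorProduct.tmul_zero]
    | add x y hx' hy' => rw [map_add, map_add, TensorProduct.add_tmul, hx', hy', add_zero]
  | add x y hx hy => rw [map_add, map_add, hx, hy, add_zero]

lemma μ_mem_of_ν (hJ : J * J = ⊥) {z : B' ⊗[A'] ↥J} (hz : ν J I z = 0) : μ J z ∈ L := by
  have h := rTensor_eq_zero hL hJ hz
  have key : ∀ z : B' ⊗[A'] ↥J, L.mkQ (μ J z) = TensorProduct.rid A' (B' ⧸ L)
      (LinearMap.lTensor _ J.subtype (LinearMap.rTensor ↥J ((L.mkQ).restrictScalars A') z)) := fun z => by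
    induction z using TensorProduct.induction_on with
    | zero => simp
    | tmul b j =>
      rw [μ_tmul, ← Algebra.smul_def, LinearMap.map_smul_of_tower]
      rfl
    | add x y hx hy => simp only [map_add, hx, hy]
  have := key z
  rw [h, map_zero, map_zero] at this
  exact (Submodule.Quotient.mk_eq_zero L).1 this

variable [Module.Flat A' B']

omit [Module.Flat A' B'] in
lemma ν_eq_zero_of_μ_mem [Module.Flat A' (B' ⧸ L)] {z : B' ⊗[A'] ↥J} (hz : μ J z ∈ L) : ν J I z = 0 := by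
  let g : (B' ⧸ L) →ₗ[B'] (B' ⧸ J.map (algebraMap A' B')) ⧸ I :=
    L.liftQ (π J I) fun y hy => Ideal.Quotient.eq_zero_iff_mem.2 (mk_mem hL hy)
  have key : ∀ z : B' ⊗[A'] ↥J, L.mkQ (μ J z) = TensorProduct.rid A' (B' ⧸ L)
      (LinearMap.lTensor _ J.subtype (LinearMap.rTensor ↥J ((L.mkQ).restrictScalars A') z)) ∧
      ν J I z = LinearMap.rTensor ↥J (g.restrictScalars A')
        (LinearMap.rTensor ↥J ((L.mkQ).restrictScalars A') z) := fun z => by
    induction z using TensorProduct.induction_on with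
    | zero => simp
    | tmul b j =>
      refine ⟨?_, rfl⟩
      rw [μ_tmul, ← Algebra.smul_def, LinearMap.map_smul_of_tower]
      rfl
    | add x y hx hy => simp only [map_add, hx.1, hy.1, hx.2, hy.2, and_self]
  obtain ⟨h1, h2⟩ := key z
  have h0 : L.mkQ (μ J z) = 0 := (Submodule.Quotient.mk_eq_zero L).2 hz
  rw [h0] at h1
  have h3 : LinearMap.rTensor ↥J ((L.mkQ).restrictScalars A') z = 0 :=
    Module.Flat.lTensor_preserves_injective_linearMap _ Subtype.val_injective
      ((TensorProduct.rid A' (B' ⧸ L)).injective (by rw [map_zero, map_zero]; exact h1.symm))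
  rw [h2, h3, map_zero]

end Lift

section Difference

variable [Module.Flat A' B'] {I' I'' : Ideal B'} [Module.Flat A' (B' ⧸ I')]
  (hI' : I'.map (Ideal.Quotient.mk (J.map (algebraMap A' B'))) = I)
  (hI'' : I''.map (Ideal.Quotient.mk (J.map (algebraMap A' B'))) = I)

include hI' hI''

lemma exists_data {x : B' ⧸ J.map (algebraMap A' B')} (hx : x ∈ I) :
    ∃ x' ∈ I', ∃ x'' ∈ I'', ∃ z, Ideal.Quotient.mk (J.map (algebraMap A' B')) x' = x ∧
      Ideal.Quotient.mk (J.map (algebraMap A' B')) x'' = x ∧ μ J z = x'' - x' := by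
  obtain ⟨x', h', e'⟩ := exists_lift hI' hx
  obtain ⟨x'', h'', e''⟩ := exists_lift hI'' hx
  obtain ⟨z, hz⟩ := exists_μ_eq J (Ideal.Quotient.eq.1 (e''.trans e'.symm))
  exact ⟨x', h', x'', h'', z, e', e'', hz⟩

theorem existsUnique_difference [Module.Flat A' (B' ⧸ I'')] :
    ∃! φ : ↥I →ₗ[B'] (((B' ⧸ J.map (algebraMap A' B')) ⧸ I) ⊗[A'] ↥J),
      (∀ (x : (B' ⧸ J.map (algebraMap A' B'))) (hx : x ∈ I) (x' x'' : B'), x' ∈ I' → x'' ∈ I'' →
          Ideal.Quotient.mk (J.map (algebraMap A' B')) x' = x → Ideal.Quotient.mk (J.map (algebraMap A' B')) x'' = x →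
          ∀ z : B' ⊗[A'] ↥J, TensorProduct.rid A' B' (LinearMap.lTensor B' (Submodule.subtype J) z) = x'' - x' →
            LinearMap.rTensor ↥J (IsScalarTower.toAlgHom A' B' ((B' ⧸ J.map (algebraMap A' B')) ⧸ I)).toLinearMap z = φ ⟨x, hx⟩) := by
  choose a ha b hb z hza hzb hz using fun x : I => exists_data hI' hI'' x.2
  have key : ∀ (x : I) (x' x'' : B') (w : B' ⊗[A'] ↥J), x' ∈ I' → x'' ∈ I'' →
      Ideal.Quotient.mk (J.map (algebraMap A' B')) x' = x → Ideal.Quotient.mk (J.map (algebraMap A' B')) x'' = x →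
      μ J w = x'' - x' → ν J I w = ν J I (z x) := by
    intro x x' x'' w h' h'' e' e'' hw
    obtain ⟨c', hc'⟩ := exists_μ_eq J (Ideal.Quotient.eq.1 (e'.trans (hza x).symm))
    obtain ⟨c'', hc''⟩ := exists_μ_eq J (Ideal.Quotient.eq.1 (e''.trans (hzb x).symm))
    have hsum : w = z x + (c'' - c') := μ_injective J (by rw [map_add, map_sub, hw, hz, hc', hc'']; ring)
    have m' : μ J c' ∈ I' := by rw [hc']; exact sub_mem h' (ha x)
    have m'' : μ J c'' ∈ I'' := by rw [hc'']; exact sub_mem h'' (hb x)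
    rw [hsum, map_add, map_sub, ν_eq_zero_of_μ_mem hI' m', ν_eq_zero_of_μ_mem hI'' m'', sub_zero,
      add_zero]
  let φ : ↥I →ₗ[B'] (((B' ⧸ J.map (algebraMap A' B')) ⧸ I) ⊗[A'] ↥J) :=
    { toFun := fun x => ν J I (z x)
      map_add' := fun x y => by
        rw [← map_add]
        refine (key (x + y) (a x + a y) (b x + b y) (z x + z y) (add_mem (ha x) (ha y))
          (add_mem (hb x) (hb y)) ?_ ?_ ?_).symm
        · rw [map_add, hza, hza]; rfl
        · rw [map_add, hzb, hzb]; rfl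
        · rw [map_add, hz, hz]; ring
      map_smul' := fun r x => by
        rw [RingHom.id_apply, ← map_smul]
        refine (key (r • x) (r * a x) (r * b x) (r • z x) (Ideal.mul_mem_left _ _ (ha x))
          (Ideal.mul_mem_left _ _ (hb x)) ?_ ?_ ?_).symm
        · rw [map_mul, hza]; rfl
        · rw [map_mul, hzb]; rfl
        · rw [map_smul, hz, smul_eq_mul]; ring }
  refine ⟨φ, fun x hx x' x'' h' h'' e' e'' w hw => ?_, fun φ' hφ' => LinearMap.ext fun x => ?_⟩
  · rw [ν_eq]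
    exact key ⟨x, hx⟩ x' x'' w h' h'' e' e'' (by rw [← μ_eq]; exact hw)
  · rw [← hφ' x.1 x.2 (a x) (b x) (ha x) (hb x) (hza x) (hzb x) (z x) (by rw [μ_eq]; exact hz x), ν_eq]
    rfl

end Difference

section Translate

variable [Module.Flat A' B'] [Module.Flat (A' ⧸ J) ((B' ⧸ J.map (algebraMap A' B')) ⧸ I)]

omit [Module.Flat A' B'] in
lemma flat_tensor_quot {L : Ideal B'} (hL : L.map (Ideal.Quotient.mk (J.map (algebraMap A' B'))) = I) :
    Module.Flat (A' ⧸ J) ((A' ⧸ J) ⊗[A'] (B' ⧸ L)) := by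
  let g : (B' ⧸ L) →ₗ[A'] (B' ⧸ J.map (algebraMap A' B')) ⧸ I :=
    (L.liftQ (π J I) fun y hy => Ideal.Quotient.eq_zero_iff_mem.2 (mk_mem hL hy)).restrictScalars A'
  let G := g.liftBaseChange (A' ⧸ J)
  have hrep : ∀ w : (A' ⧸ J) ⊗[A'] (B' ⧸ L), ∃ m, w = 1 ⊗ₜ m := fun w => by
    induction w using TensorProduct.induction_on with
    | zero => exact ⟨0, by rw [TensorProduct.tmul_zero]⟩
    | tmul c m =>
      obtain ⟨c, rfl⟩ := Ideal.Quotient.mk_surjective c
      refine ⟨c • m, ?_⟩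
      rw [← TensorProduct.smul_tmul, Algebra.smul_def, mul_one]
      rfl
    | add x y hx hy =>
      obtain ⟨m, rfl⟩ := hx
      obtain ⟨m', rfl⟩ := hy
      exact ⟨m + m', (TensorProduct.tmul_add _ _ _).symm⟩
  have hG : Function.Bijective G := by
    refine ⟨(injective_iff_map_eq_zero G).2 fun w hw => ?_, fun c => ?_⟩
    · obtain ⟨m, rfl⟩ := hrep w
      obtain ⟨b, rfl⟩ := Submodule.Quotient.mk_surjective L m
      rw [LinearMap.liftBaseChange_tmul, one_smul] at hw
      obtain ⟨l, hl, hlb⟩ := exists_lift hL (Ideal.Quotient.eq_zero_iff_mem.1 hw)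
      obtain ⟨s, hs⟩ := exists_μ_eq J (Ideal.Quotient.eq.1 hlb.symm)
      rw [show b = l + μ J s by rw [hs]; ring, Submodule.Quotient.mk_add,
        (Submodule.Quotient.mk_eq_zero L).2 hl, zero_add]
      clear hw hs
      induction s using TensorProduct.induction_on with
      | zero => rw [map_zero, Submodule.Quotient.mk_zero, TensorProduct.tmul_zero]
      | tmul c j =>
        rw [μ_tmul, ← Algebra.smul_def, Submodule.Quotient.mk_smul, ← TensorProduct.smul_tmul,
          Algebra.smul_def, mul_one, Ideal.Quotient.algebraMap_eq, Ideal.Quotient.eq_zero_iff_mem.2 j.2,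
          TensorProduct.zero_tmul]
      | add x y hx' hy' =>
        rw [map_add, Submodule.Quotient.mk_add, TensorProduct.tmul_add, hx', hy', add_zero]
    · obtain ⟨c, rfl⟩ := Ideal.Quotient.mk_surjective c
      obtain ⟨b, rfl⟩ := Ideal.Quotient.mk_surjective c
      exact ⟨1 ⊗ₜ Submodule.Quotient.mk b, by rw [LinearMap.liftBaseChange_tmul, one_smul]; rfl⟩
  exact Module.Flat.of_linearEquiv (LinearEquiv.ofBijective G hG)

theorem existsUnique_translate (hJ : J * J = ⊥) {I' : Ideal B'} [Module.Flat A' (B' ⧸ I')]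
    (hI' : I'.map (Ideal.Quotient.mk (J.map (algebraMap A' B'))) = I)
    (φ : ↥I →ₗ[B'] (((B' ⧸ J.map (algebraMap A' B')) ⧸ I) ⊗[A'] ↥J)) :
    ∃! I'' : Ideal B', Module.Flat A' (B' ⧸ I'') ∧
      I''.map (Ideal.Quotient.mk (J.map (algebraMap A' B'))) = I ∧
      (∀ (x : (B' ⧸ J.map (algebraMap A' B'))) (hx : x ∈ I) (x' x'' : B'), x' ∈ I' → x'' ∈ I'' →
          Ideal.Quotient.mk (J.map (algebraMap A' B')) x' = x → Ideal.Quotient.mk (J.map (algebraMap A' B')) x'' = x →
          ∀ z : B' ⊗[A'] ↥J, TensorProduct.rid A' B' (LinearMap.lTensor B' (Submodule.subtype J) z) = x'' - x' →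
            LinearMap.rTensor ↥J (IsScalarTower.toAlgHom A' B' ((B' ⧸ J.map (algebraMap A' B')) ⧸ I)).toLinearMap z = φ ⟨x, hx⟩) := by
  let cls : I' → I := fun x' => ⟨_, mk_mem hI' x'.2⟩
  have hmk : ∀ z : B' ⊗[A'] ↥J, Ideal.Quotient.mk (J.map (algebraMap A' B')) (μ J z) = 0 := fun z =>
    Ideal.Quotient.eq_zero_iff_mem.2 (μ_mem J z)
  let I₀ : Ideal B' :=
    { carrier := {y | ∃ x' : I', ∃ z, y = x' + μ J z ∧ ν J I z = φ (cls x')}
      add_mem' := fun {y₁ y₂} h₁ h₂ => by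
        obtain ⟨x₁, z₁, rfl, e₁⟩ := h₁
        obtain ⟨x₂, z₂, rfl, e₂⟩ := h₂
        refine ⟨x₁ + x₂, z₁ + z₂, by rw [map_add, Submodule.coe_add]; ring, ?_⟩
        rw [map_add, e₁, e₂, ← map_add]
        exact congrArg φ (Subtype.ext (map_add _ _ _).symm)
      zero_mem' := ⟨0, 0, by simp, by
        rw [map_zero, show cls 0 = 0 from Subtype.ext (map_zero _), map_zero]⟩
      smul_mem' := fun r y h => by
        obtain ⟨x, z, rfl, e⟩ := h
        refine ⟨r • x, r • z, by rw [smul_eq_mul, map_smul, smul_eq_mul, mul_add]; rfl, ?_⟩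
        rw [map_smul, e, ← map_smul]
        exact congrArg φ (Subtype.ext (map_mul (Ideal.Quotient.mk (J.map (algebraMap A' B'))) r (x : B')).symm) }
  have hI₀ : I₀.map (Ideal.Quotient.mk (J.map (algebraMap A' B'))) = I := by
    refine le_antisymm (Ideal.map_le_iff_le_comap.2 ?_) fun x hx => ?_
    · rintro y ⟨x', z, rfl, -⟩
      rw [Ideal.mem_comap, map_add, hmk, add_zero]
      exact (cls x').2
    · obtain ⟨x', h', rfl⟩ := exists_lift hI' hx
      obtain ⟨z, hz⟩ := ν_surjective J I (φ (cls ⟨x', h'⟩))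
      rw [show Ideal.Quotient.mk (J.map (algebraMap A' B')) x' =
        Ideal.Quotient.mk (J.map (algebraMap A' B')) (x' + μ J z) by rw [map_add, hmk, add_zero]]
      exact Ideal.mem_map_of_mem _ ⟨⟨x', h'⟩, z, rfl, hz⟩
  have hdiff : ∀ (x : (B' ⧸ J.map (algebraMap A' B'))) (hx : x ∈ I) (x' x'' : B'), x' ∈ I' → x'' ∈ I₀ →
      Ideal.Quotient.mk (J.map (algebraMap A' B')) x' = x → Ideal.Quotient.mk (J.map (algebraMap A' B')) x'' = x →
      ∀ z : B' ⊗[A'] ↥J, μ J z = x'' - x' → ν J I z = φ ⟨x, hx⟩ := by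
    rintro x hx x' _ h' ⟨x₀, z₀, rfl, e₀⟩ e' e'' z hz
    rw [map_add, hmk, add_zero] at e''
    obtain ⟨a, ha⟩ := exists_μ_eq J (Ideal.Quotient.eq.1 (e''.trans e'.symm))
    have : z = a + z₀ := μ_injective J (by rw [map_add, hz, ha]; ring)
    rw [this, map_add, ν_eq_zero_of_μ_mem hI' (ha.symm ▸ sub_mem x₀.2 h'), zero_add, e₀]
    exact congrArg φ (Subtype.ext e'')
  have hflat : Module.Flat A' (B' ⧸ I₀) := by
    haveI := flat_tensor_quot hI₀
    refine FlatNilp.flat_of_flat_quotients J J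
      (fun x hx y hy => by rw [← Ideal.mem_bot, ← hJ]; exact Ideal.mul_mem_mul hy hx) _ ?_
    rw [← LinearMap.lTensor_inj_iff_rTensor_inj, injective_iff_map_eq_zero]
    intro w hw
    obtain ⟨z, rfl⟩ := LinearMap.rTensor_surjective ↥J (g := (I₀.mkQ).restrictScalars A')
      (Submodule.mkQ_surjective I₀) w
    have key : ∀ z : B' ⊗[A'] ↥J, TensorProduct.rid A' (B' ⧸ I₀)
        (LinearMap.lTensor _ J.subtype (LinearMap.rTensor ↥J ((I₀.mkQ).restrictScalars A') z)) =
          I₀.mkQ (μ J z) := fun z => by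
      induction z using TensorProduct.induction_on with
      | zero => simp
      | tmul b j =>
        rw [μ_tmul, ← Algebra.smul_def, LinearMap.map_smul_of_tower]
        rfl
      | add x y hx hy => simp only [map_add, hx, hy]
    have hmem : μ J z ∈ I₀ := by
      have h := key z
      rw [hw, map_zero] at h
      exact (Submodule.Quotient.mk_eq_zero I₀).1 h.symm
    obtain ⟨x', z₀, he, e₀⟩ := hmem
    refine rTensor_eq_zero hI₀ hJ ?_
    have hx' : μ J (z - z₀) = x' := by rw [map_sub, he]; ring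
    have hz₀ : ν J I z₀ = 0 := by
      rw [e₀, show cls x' = 0 from Subtype.ext ((congrArg _ hx'.symm).trans (hmk _)), map_zero]
    have h := ν_eq_zero_of_μ_mem hI' (hx'.symm ▸ x'.2)
    rwa [map_sub, hz₀, sub_zero] at h
  refine ⟨I₀, ⟨hflat, hI₀, fun x hx x' x'' h' h'' e' e'' z hz => ?_⟩, fun I₂ ⟨h2f, h2m, h2d⟩ => ?_⟩
  · rw [ν_eq]
    exact hdiff x hx x' x'' h' h'' e' e'' z (by rw [← μ_eq]; exact hz)
  have hsub : I₂ ≤ I₀ := fun y hy => by
    have hx := mk_mem h2m hy
    obtain ⟨x', h', e'⟩ := exists_lift hI' hx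
    obtain ⟨z, hz⟩ := exists_μ_eq J (Ideal.Quotient.eq.1 e'.symm)
    refine ⟨⟨x', h'⟩, z, by rw [hz]; ring, ?_⟩
    rw [← ν_eq, h2d _ hx x' y h' hy e' rfl z (by rw [μ_eq]; exact hz)]
    exact congrArg φ (Subtype.ext e'.symm)
  refine le_antisymm hsub fun y hy => ?_
  have hx := mk_mem hI₀ hy
  obtain ⟨y₂, h₂, e₂⟩ := exists_lift h2m hx
  obtain ⟨a, ha⟩ := exists_μ_eq J (Ideal.Quotient.eq.1 e₂.symm)
  haveI := hflat
  have : μ J a ∈ I₂ := μ_mem_of_ν h2m hJ (ν_eq_zero_of_μ_mem hI₀ (ha.symm ▸ sub_mem hy (hsub h₂)))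
  rw [ha] at this
  simpa using add_mem this h₂

end Translate

end Groth.Agent.ArtFunLib.EmbDef
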