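import Groth.Agent.ArtFunLib.Cmp

/-!
The least ideal along which an element lifts.
-/

universe u v

open CategoryTheory

namespace Groth.Agent.ArtFunLib

open ArtFun ArtFun.Art IsLocalRing

variable {Λ k : Type u} [CommRing Λ] [Field k] [Algebra Λ k]

theorem exists_complement {B : Art Λ k} {I J₁ J₂ : Ideal B} (hI : maximalIdeal B * I = ⊥)
    (h₁ : J₁ ≤ I) (h₂ : J₂ ≤ I) :
    ∃ K, J₁ ≤ K ∧ K ≤ I ∧ K ⊓ J₂ = J₁ ⊓ J₂ ∧ K ⊔ J₂ = I := by
  haveI : IsNoetherianRing B := inferInstance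
  obtain ⟨K, ⟨hK₁, hK₂, hK₃⟩, hKmax⟩ := (set_has_maximal_iff_noetherian (R := B) (M := B)).2
    inferInstance {K | J₁ ≤ K ∧ K ≤ I ∧ K ⊓ J₂ = J₁ ⊓ J₂} ⟨J₁, le_rfl, h₁, rfl⟩
  refine ⟨K, hK₁, hK₂, hK₃, le_antisymm (sup_le hK₂ h₂) fun a ha => ?_⟩
  by_contra hna
  refine hKmax (K ⊔ Ideal.span {a}) ⟨hK₁.trans le_sup_left,
    sup_le hK₂ ((Ideal.span_singleton_le_iff_mem _).2 ha), le_antisymm ?_ ?_⟩ ?_
  · rintro x ⟨hx, hx₂⟩
    obtain ⟨u, hu, w, hw, rfl⟩ := Submodule.mem_sup.1 hx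
    obtain ⟨b, rfl⟩ := Ideal.mem_span_singleton'.1 hw
    by_cases hb : b ∈ maximalIdeal B
    · have h0 : b * a = 0 := Ideal.mem_bot.1 (hI ▸ Ideal.mul_mem_mul hb ha)
      rw [h0, add_zero] at hx₂ ⊢
      rw [← hK₃]; exact ⟨hu, hx₂⟩
    · obtain ⟨c, hc⟩ := (notMem_maximalIdeal.1 hb).exists_left_inv
      refine absurd ?_ hna
      have : a = c * (u + b * a) - c * u := by linear_combination -a * hc
      rw [this]
      exact Submodule.mem_sup.2 ⟨-(c * u), neg_mem (Ideal.mul_mem_left _ c hu), c * (u + b * a),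
        Ideal.mul_mem_left _ c hx₂, by ring⟩
  · exact le_inf (le_trans inf_le_left (hK₁.trans le_sup_left)) inf_le_right
  · refine lt_of_le_of_ne le_sup_left fun h => hna ?_
    exact Ideal.mem_sup_left (h ▸ Ideal.mem_sup_right (Ideal.mem_span_singleton_self a))

/-- The map between quotients by nested ideals. -/
noncomputable def quotMap {B : Art Λ k} {J J' : Ideal B} (hJ : J ≤ maximalIdeal B)
    (hJ' : J' ≤ maximalIdeal B) (h : J ≤ J') : Art.quot B J hJ ⟶ Art.quot B J' hJ' :=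
  quotFactor hJ (quotMk B J' hJ') fun _ ha => Ideal.Quotient.eq_zero_iff_mem.2 (h ha)

lemma quotMap_comp_quotFactor {B A : Art Λ k} {J J' : Ideal B} (hJ : J ≤ maximalIdeal B)
    (hJ' : J' ≤ maximalIdeal B) (h : J ≤ J') (p : B ⟶ A) (hp : J' ≤ RingHom.ker p.toAlgHom) :
    quotMap hJ hJ' h ≫ quotFactor hJ' p hp = quotFactor hJ p (h.trans hp) := by
  refine hom_ext (AlgHom.ext fun x => ?_)
  obtain ⟨a, rfl⟩ := Ideal.Quotient.mk_surjective x
  rfl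

lemma quotFactor_bijective {B A : Art Λ k} {J : Ideal B} (hJ : J ≤ maximalIdeal B) (p : B ⟶ A)
    (hp : J ≤ RingHom.ker p.toAlgHom) (hs : Function.Surjective p)
    (he : RingHom.ker p.toAlgHom ≤ J) : Function.Bijective (quotFactor hJ p hp) := by
  refine ⟨fun x y h => ?_, fun a => ?_⟩
  · obtain ⟨x, rfl⟩ := Ideal.Quotient.mk_surjective x
    obtain ⟨y, rfl⟩ := Ideal.Quotient.mk_surjective y
    refine Ideal.Quotient.eq.2 (he ?_)
    change p (x - y) = 0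
    rw [map_sub, sub_eq_zero]
    exact h
  · obtain ⟨b, rfl⟩ := hs a
    exact ⟨Ideal.Quotient.mk J b, rfl⟩

variable {F : Art Λ k ⥤ Type v}

theorem exists_least_liftable (h1 : S1 F) {B A : Art Λ k} (p : B ⟶ A) (hp : IsSemismallExt p)
    (x : F.obj A) :
    ∃ (J₀ : Ideal B) (hJ₀ : J₀ ≤ RingHom.ker p.toAlgHom) (hJ₀' : J₀ ≤ maximalIdeal B),
      (∃ y : F.obj (Art.quot B J₀ hJ₀'), F.map (quotFactor hJ₀' p hJ₀) y = x) ∧
      ∀ (J : Ideal B) (hJ : J ≤ RingHom.ker p.toAlgHom) (hJ' : J ≤ maximalIdeal B),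
        (∃ y : F.obj (Art.quot B J hJ'), F.map (quotFactor hJ' p hJ) y = x) → J₀ ≤ J := by
  let S : Set (Ideal B) := {J | ∃ (hJ : J ≤ RingHom.ker p.toAlgHom)
    (y : F.obj (Art.quot B J (hJ.trans (ker_le_maximalIdeal p)))),
      F.map (quotFactor (hJ.trans (ker_le_maximalIdeal p)) p hJ) y = x}
  have hne : S.Nonempty := ⟨RingHom.ker p.toAlgHom, le_rfl, (map_bijective F _
    (quotFactor_bijective _ p le_rfl hp.1 le_rfl)).2 x⟩
  have hinf : ∀ J₁ ∈ S, ∀ J₂ ∈ S, J₁ ⊓ J₂ ∈ S := by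
    rintro J₁ ⟨h₁, y₁, hy₁⟩ J₂ ⟨h₂, y₂, hy₂⟩
    obtain ⟨K, hK₁, hK, hKinf, hKsup⟩ := exists_complement hp.2 h₁ h₂
    have m₂ := h₂.trans (ker_le_maximalIdeal p)
    have mK := hK.trans (ker_le_maximalIdeal p)
    have mI := ker_le_maximalIdeal p
    have m₁ := h₁.trans mI
    have m₀ : J₁ ⊓ J₂ ≤ maximalIdeal B := inf_le_left.trans m₁
    have hsq : IsFibreProd (quotMap m₀ mK (inf_le_left.trans hK₁)) (quotMap m₀ m₂ inf_le_right)
        (quotMap mK mI hK) (quotMap m₂ mI h₂) := by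
      refine ⟨hom_ext (AlgHom.ext fun z => ?_), fun z₁ z₂ e₁ e₂ => ?_, fun a₁ a₂ e => ?_⟩
      · obtain ⟨z, rfl⟩ := Ideal.Quotient.mk_surjective z
        rfl
      · obtain ⟨z₁, rfl⟩ := Ideal.Quotient.mk_surjective z₁
        obtain ⟨z₂, rfl⟩ := Ideal.Quotient.mk_surjective z₂
        exact Ideal.Quotient.eq.2 (hKinf ▸ ⟨Ideal.Quotient.eq.1 e₁, Ideal.Quotient.eq.1 e₂⟩)
      · obtain ⟨b₁, rfl⟩ := Ideal.Quotient.mk_surjective a₁
        obtain ⟨b₂, rfl⟩ := Ideal.Quotient.mk_surjective a₂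
        have hd : b₁ - b₂ ∈ RingHom.ker p.toAlgHom := Ideal.Quotient.eq.1 e
        rw [← hKsup] at hd
        obtain ⟨u, hu, w, hw, huw⟩ := Submodule.mem_sup.1 hd
        refine ⟨Ideal.Quotient.mk _ (b₁ - u), Ideal.Quotient.eq.2 ?_, Ideal.Quotient.eq.2 ?_⟩
        · simpa using hu
        · rw [show b₁ - u - b₂ = w by linear_combination -huw]
          exact hw
    have hsurj : Function.Surjective (quotMap m₂ mI h₂) := fun z => by
      obtain ⟨z, rfl⟩ := Ideal.Quotient.mk_surjective z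
      exact ⟨Ideal.Quotient.mk _ z, rfl⟩
    obtain ⟨y, hy, -⟩ := (cmp_surj_iff F hsq).1 (h1 _ _ _ _ hsq hsurj)
      (F.map (quotMap m₁ mK hK₁) y₁) y₂ (by
        refine (map_bijective F _ (quotFactor_bijective mI p le_rfl hp.1 le_rfl)).1 ?_
        rw [map_map, map_map, map_map, quotMap_comp_quotFactor,
          quotMap_comp_quotFactor, quotMap_comp_quotFactor, hy₁, hy₂])
    refine ⟨inf_le_left.trans h₁, y, ?_⟩
    rw [← quotMap_comp_quotFactor m₀ mK (inf_le_left.trans hK₁) p hK, ← map_map, hy, map_map,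
      quotMap_comp_quotFactor, hy₁]
  obtain ⟨J₀, ⟨hJ₀, y₀, hy₀⟩, hmin⟩ := IsArtinian.set_has_minimal S hne
  refine ⟨J₀, hJ₀, hJ₀.trans (ker_le_maximalIdeal p), ⟨y₀, hy₀⟩, fun J hJ hJ' hy => ?_⟩
  have := hinf J₀ ⟨hJ₀, y₀, hy₀⟩ J ⟨hJ, hy⟩
  exact inf_eq_left.1 (eq_of_le_of_not_lt inf_le_left (hmin _ this))

end Groth.Agent.ArtFunLib
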