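import Groth.Agent.ArtFunLib.Smooth
import Groth.Agent.ArtFunLib.LeastIdeal
import Groth.Prelude.Def_ArtFun3
import Mathlib.Dynamics.Newton
import Mathlib.FieldTheory.Separable
import Mathlib.RingTheory.Etale.Field
import Mathlib.RingTheory.Ideal.GoingUp

/-!
Surjective and essential morphisms seen through maps to the dual numbers; separable residue fields.
-/

universe u v

open CategoryTheory

namespace Groth.Agent.ArtFunLib

open ArtFun ArtFun.Art IsLocalRing

variable {Λ k : Type u} [CommRing Λ] [Field k] [Algebra Λ k]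

/-- The ideal `m_Λ A + m_A²`. -/
abbrev relSq (A : Art Λ k) : Ideal A :=
  Ideal.map (algebraMap Λ A) (RingHom.ker (algebraMap Λ k)) ⊔ maximalIdeal A ^ 2

lemma fst_dual {A : Art Λ k} (θ : A ⟶ dual Λ k) (a : A) :
    TrivSqZeroExt.fst (R := k) (M := k) (θ a) = A.res a := res_app θ a

lemma dual_eq_zero_iff {A : Art Λ k} (θ : A ⟶ dual Λ k) (a : A) :
    θ a = 0 ↔ A.res a = 0 ∧ TrivSqZeroExt.snd (R := k) (M := k) (θ a) = 0 :=
  ⟨fun h => ⟨(fst_dual θ a).symm.trans (by rw [h]; rfl), by rw [h]; rfl⟩,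
    fun ⟨h₁, h₂⟩ => TrivSqZeroExt.ext ((fst_dual θ a).trans h₁) h₂⟩

theorem relSq_le_ker (A : Art Λ k) (θ : A ⟶ dual Λ k) : relSq A ≤ RingHom.ker θ.toAlgHom := by
  refine sup_le (Ideal.map_le_iff_le_comap.2 fun r hr => ?_) ?_
  · have hr' : algebraMap Λ k r = 0 := hr
    have : θ (algebraMap Λ A r) = algebraMap Λ (DualNumber k) r := θ.toAlgHom.commutes r
    change θ (algebraMap Λ A r) = 0
    rw [this, IsScalarTower.algebraMap_apply Λ k (DualNumber k), hr', map_zero]
    rfl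
  · rw [pow_two, Ideal.mul_le]
    intro a ha b hb
    change θ (a * b) = 0
    rw [map_mul]
    refine TrivSqZeroExt.ext ?_ ?_
    · exact (TrivSqZeroExt.fst_mul (R := k) (M := k) _ _).trans
        (by rw [fst_dual, (mem_maximalIdeal_iff _ _).1 ha, zero_mul]; rfl)
    · exact (DualNumber.snd_mul (R := k) _ _).trans
        (by rw [fst_dual, fst_dual, (mem_maximalIdeal_iff _ _).1 ha, (mem_maximalIdeal_iff _ _).1 hb,
          zero_mul, mul_zero, add_zero]; rfl)

variable [IsNoetherianRing Λ] [Module.Finite Λ k]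

theorem exists_quot_top (A : Art Λ k) (I : Ideal A) (hI : I ≤ maximalIdeal A) (hne : I ≠ maximalIdeal A) :
    ∃ (J : Ideal A) (hJ : J ≤ maximalIdeal A), I ≤ J ∧ IsSmallExt (toBase (quot A J hJ)) := by
  obtain ⟨J, ⟨hIJ, hJm⟩, hmax⟩ :=
    wellFounded_gt.has_min {J : Ideal A | I ≤ J ∧ J < maximalIdeal A} ⟨I, le_rfl, lt_of_le_of_ne hI hne⟩
  refine ⟨J, hJm.le, hIJ, ?_⟩
  let Q := quot A J hJm.le
  let q := quotMk A J hJm.le
  have hqs : Function.Surjective q := Ideal.Quotient.mk_surjective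
  have hker : RingHom.ker (toBase Q).toAlgHom = maximalIdeal Q :=
    Ideal.ext fun x => (mem_maximalIdeal_iff Q x).symm
  have hmne : maximalIdeal Q ≠ ⊥ := fun h => hJm.not_ge fun a ha => by
    have := apply_mem_maximalIdeal q ha
    rw [h, Ideal.mem_bot] at this
    exact Ideal.Quotient.eq_zero_iff_mem.1 this
  obtain ⟨t, htm, ht0, ht⟩ := exists_socle hmne
  obtain ⟨t₀, rfl⟩ := hqs t
  refine isSmallExt_of_ker_eq_span (t := q t₀) Q.res_surjective ?_ ht0 ht
  rw [hker]
  refine le_antisymm (fun x hx => ?_) ((Ideal.span_singleton_le_iff_mem _).2 htm)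
  obtain ⟨a, rfl⟩ := hqs x
  have htA : t₀ ∈ maximalIdeal A := (apply_mem_maximalIdeal_iff q t₀).1 htm
  have hJt : J ⊔ Ideal.span {t₀} = maximalIdeal A := by
    by_contra hne'
    refine hmax (J ⊔ Ideal.span {t₀}) ⟨hIJ.trans le_sup_left, lt_of_le_of_ne
      (sup_le hJm.le ((Ideal.span_singleton_le_iff_mem _).2 htA)) hne'⟩ ?_
    refine lt_of_le_of_ne le_sup_left fun h => ht0 (Ideal.Quotient.eq_zero_iff_mem.2 ?_)
    rw [h]
    exact Submodule.mem_sup_right (Ideal.mem_span_singleton_self _)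
  have ha := (apply_mem_maximalIdeal_iff q a).1 hx
  rw [← hJt] at ha
  obtain ⟨j, hj, r, hr, rfl⟩ := Submodule.mem_sup.1 ha
  obtain ⟨c, rfl⟩ := Ideal.mem_span_singleton'.1 hr
  rw [map_add, show q j = 0 from Ideal.Quotient.eq_zero_iff_mem.2 hj, zero_add, map_mul]
  exact Ideal.mul_mem_left _ _ (Ideal.mem_span_singleton_self _)

/-- On a small extension of `k` with a section, the projection to the kernel gives a map to `k[ε]`. -/
theorem exists_theta_of_section {A Q : Art Λ k} (hQ : IsSmallExt (toBase Q)) (q : A ⟶ Q)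
    (s : k →ₐ[Λ] Q) (hs : ∀ c, Q.res (s c) = c) :
    ∃ θ : A ⟶ dual Λ k, ∀ a, TrivSqZeroExt.snd (R := k) (M := k) (θ a) = 0 ↔ q a = s (A.res a) := by
  obtain ⟨t, ht, ht0, hm⟩ := exists_generator hQ
  obtain ⟨P, p₁, p₂, hP⟩ := exists_isFibreProd (toBase Q) (toBase Q) hQ.1
  obtain ⟨g, hg⟩ := exists_diffMap ht ht0 hm hP
  let σ : A ⟶ Q := ⟨s.comp A.res, AlgHom.ext fun a => hs _⟩
  obtain ⟨w, hw₁, hw₂⟩ := exists_lift hP σ q (by rw [eq_toBase (σ ≫ _), eq_toBase (q ≫ _)])
  refine ⟨w ≫ g, fun a => ?_⟩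
  obtain ⟨b, hb, hb'⟩ := hg (w a)
  rw [show p₁ (w a) = s (A.res a) from congrArg (fun m : A ⟶ Q => m a) hw₁,
    show p₂ (w a) = q a from congrArg (fun m : A ⟶ Q => m a) hw₂] at hb
  change TrivSqZeroExt.snd (R := k) (M := k) (g (w a)) = 0 ↔ _
  rw [← hb', hb]
  refine ⟨fun h => ?_, fun h => ?_⟩
  · rw [hm b ((mem_maximalIdeal_iff _ _).2 h), add_zero]
  · rw [← coef_eq ht0 hm (a := 0) (b := b) (by linear_combination -h),
      coef_eq ht0 hm (a := 0) (b := 0) (by simp), map_zero]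

/-- A morphism is surjective iff only the trivial tangent vector of its target restricts trivially. -/
theorem surjective_iff_theta {B A : Art Λ k} (f : B ⟶ A) :
    Function.Surjective f ↔ ∀ θ θ' : A ⟶ dual Λ k, f ≫ θ = f ≫ θ' → θ = θ' := by
  refine ⟨fun hf θ θ' h => hom_ext (AlgHom.ext fun a => ?_), fun h => ?_⟩
  · obtain ⟨b, rfl⟩ := hf a
    exact congrArg (fun m : B ⟶ dual Λ k => m b) h
  haveI : IsLocalHom f.toAlgHom := isLocalHom f
  haveI : IsAdicComplete (maximalIdeal B) B := by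
    obtain ⟨n, hn⟩ := maximalIdeal_pow_eq_bot B
    exact { haus' := fun x hx => by
              have := hx (n + 1)
              rwa [hn, Submodule.bot_smul, SModEq.bot] at this
            prec' := fun x hx => ⟨x (n + 1), fun i => by
              rcases le_total i (n + 1) with hi | hi
              · exact hx hi
              · have := hx hi
                rw [hn, Submodule.bot_smul, SModEq.bot] at this
                rw [this]⟩ }
  refine ((surjective_cotangent_tfae B.res A.res B.res_surjective (mem_maximalIdeal_iff B)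
    (mem_maximalIdeal_iff A) f.toAlgHom f.res_comp).out 0 1).2 ?_
  set I := Ideal.map f.toAlgHom (maximalIdeal B) ⊔ maximalIdeal A ^ 2 with hI
  have hIm : I ≤ maximalIdeal A := sup_le
    (Ideal.map_le_iff_le_comap.2 fun b hb => apply_mem_maximalIdeal f hb) (Ideal.pow_le_self two_ne_zero)
  by_contra hne
  obtain ⟨J, hJ, hIJ, hQ⟩ := exists_quot_top A I hIm hne
  let q := quotMk A J hJ
  have hfac : RingHom.ker B.res ≤ RingHom.ker (f ≫ q).toAlgHom := fun b hb =>
    Ideal.Quotient.eq_zero_iff_mem.2 (hIJ (Submodule.mem_sup_left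
      (Ideal.mem_map_of_mem _ ((mem_maximalIdeal_iff B b).2 hb))))
  obtain ⟨s, hs⟩ := exists_algHom_factor B.res_surjective (f ≫ q).toAlgHom hfac
  have hsr : ∀ c, (quot A J hJ).res (s c) = c := fun c => by
    obtain ⟨b, rfl⟩ := B.res_surjective c
    rw [hs]
    exact res_app (f ≫ q) b
  obtain ⟨θ, hθ⟩ := exists_theta_of_section hQ q s hsr
  have e : θ = toBase A ≫ baseToDual := h _ _ (dual_ext fun b => by
    change TrivSqZeroExt.snd (θ (f b)) = _
    refine ((hθ (f b)).2 ?_).trans rfl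
    rw [res_app, hs]
    rfl)
  refine hQ.2.1 ((Submodule.eq_bot_iff _).2 fun x hx => ?_)
  obtain ⟨a, rfl⟩ := Ideal.Quotient.mk_surjective x
  have hra : A.res a = 0 := hx
  have hq := (hθ a).1 (by rw [e]; rfl)
  rw [hra, map_zero] at hq
  exact hq

omit [IsNoetherianRing Λ] in
/-- The equalizer of a tangent vector and the trivial one is an object. -/
theorem exists_subobject [IsNoetherianRing Λ] {B A : Art Λ k} (f : B ⟶ A) (hf : Function.Surjective f) (θ : B ⟶ dual Λ k)
    {t : B} (ht : f t = 0) (hθ : TrivSqZeroExt.snd (R := k) (M := k) (θ t) ≠ 0) :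
    ∃ (C : Art Λ k) (g : C ⟶ B), Function.Surjective (g ≫ f) ∧ ¬ Function.Surjective g := by
  let ε : B ⟶ dual Λ k := toBase B ≫ baseToDual
  let S : Subalgebra Λ B := AlgHom.equalizer θ.toAlgHom ε.toAlgHom
  have hS : ∀ b, b ∈ S ↔ TrivSqZeroExt.snd (R := k) (M := k) (θ b) = 0 := fun b =>
    ⟨fun h => (congrArg (TrivSqZeroExt.snd (R := k) (M := k)) (h : θ b = ε b)).trans rfl,
      fun h => TrivSqZeroExt.ext ((fst_dual θ b).trans (fst_dual ε b).symm) (h.trans rfl)⟩
  haveI := module_finite B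
  haveI : IsNoetherian Λ B := isNoetherian_of_isNoetherianRing_of_finite Λ B
  haveI : IsNoetherian Λ S := isNoetherian_submodule' (Subalgebra.toSubmodule S)
  haveI : IsNoetherianRing S := isNoetherian_of_tower Λ ‹IsNoetherian Λ S›
  have hu : ∀ s : S, IsUnit s ↔ IsUnit (s : B) := fun s => by
    refine ⟨fun h => h.map S.val, fun h => ?_⟩
    obtain ⟨v, hv⟩ := h.exists_right_inv
    refine IsUnit.of_mul_eq_one ⟨v, ?_⟩ (Subtype.ext hv)
    change θ v = ε v
    have h1 : θ (s : B) * θ v = θ (s : B) * ε v := by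
      rw [← map_mul, hv, show θ (s : B) = ε (s : B) from s.2, ← map_mul, hv, map_one, map_one]
    exact (h.map θ.toAlgHom).mul_left_cancel h1
  haveI : IsLocalRing S := IsLocalRing.of_isUnit_or_isUnit_one_sub_self fun a => by
    rw [hu, hu]
    exact IsLocalRing.isUnit_or_isUnit_one_sub_self (a : B)
  haveI : IsArtinianRing S := by
    rw [isArtinianRing_iff_isNilpotent_maximalIdeal]
    obtain ⟨n, hn⟩ := maximalIdeal_pow_eq_bot B
    refine ⟨n + 1, le_bot_iff.1 fun s hs => ?_⟩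
    have := apply_mem_pow S.val (maximalIdeal S) (maximalIdeal B)
      (fun b hb => fun h => hb ((hu b).2 h)) _ hs
    rw [hn, Ideal.mem_bot] at this
    exact Subtype.ext this
  have hmem : ∀ b : B, ∃ c : B, b + c * t ∈ S ∧ f (b + c * t) = f b := fun b => by
    obtain ⟨c, hc⟩ := B.res_surjective (-(TrivSqZeroExt.snd (R := k) (M := k) (θ b)) /
      TrivSqZeroExt.snd (R := k) (M := k) (θ t))
    refine ⟨c, (hS _).2 ?_, by rw [map_add, map_mul, ht, mul_zero, add_zero]⟩
    have htm : B.res t = 0 := (mem_maximalIdeal_iff B t).1 (ker_le_maximalIdeal f ht)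
    have e : TrivSqZeroExt.snd (R := k) (M := k) (θ (b + c * t)) =
        TrivSqZeroExt.snd (R := k) (M := k) (θ b) + B.res c * TrivSqZeroExt.snd (R := k) (M := k) (θ t) := by
      rw [map_add, map_mul]
      refine (TrivSqZeroExt.snd_add (R := k) (M := k) _ _).trans (congrArg₂ _ rfl ?_)
      refine (DualNumber.snd_mul (R := k) _ _).trans ?_
      rw [fst_dual, fst_dual, htm, mul_zero, add_zero]
    rw [e, hc, div_mul_cancel₀ _ hθ, add_neg_cancel]
  let C : Art Λ k := Art.of S (B.res.comp S.val) (fun x => by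
    obtain ⟨b, rfl⟩ := B.res_surjective x
    obtain ⟨c, hc, -⟩ := hmem b
    refine ⟨⟨_, hc⟩, ?_⟩
    change B.res (b + c * t) = B.res b
    rw [map_add, map_mul, (mem_maximalIdeal_iff B t).1 (ker_le_maximalIdeal f ht), mul_zero, add_zero])
  refine ⟨C, homMk S.val rfl, fun a => ?_, fun h => ?_⟩
  · obtain ⟨b, rfl⟩ := hf a
    obtain ⟨c, hc, hc'⟩ := hmem b
    exact ⟨⟨_, hc⟩, hc'⟩
  · obtain ⟨s, hs⟩ := h t
    refine hθ ?_
    rw [← hs]
    exact (hS _).1 s.2

/-- Essential surjections are the morphisms inducing bijections on tangent vectors. -/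
theorem essential_iff_theta {B A : Art Λ k} (f : B ⟶ A) :
    (Function.Surjective f ∧ ∀ (C : Art Λ k) (g : C ⟶ B), Function.Surjective (g ≫ f) → Function.Surjective g) ↔
      Function.Bijective (fun θ : A ⟶ dual Λ k => f ≫ θ) := by
  constructor
  · rintro ⟨hf, hess⟩
    refine ⟨(surjective_iff_theta f).1 hf, fun θ => ?_⟩
    have hk : RingHom.ker f.toAlgHom ≤ RingHom.ker θ.toAlgHom := fun t ht => by
      refine (dual_eq_zero_iff θ t).2 ⟨(mem_maximalIdeal_iff B t).1 (ker_le_maximalIdeal f ht), ?_⟩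
      by_contra hne
      obtain ⟨C, g, hgf, hg⟩ := exists_subobject f hf θ (show f t = 0 from ht) hne
      exact hg (hess C g hgf)
    obtain ⟨l, hl⟩ := exists_algHom_factor (f := f.toAlgHom) hf θ.toAlgHom hk
    refine ⟨⟨l, AlgHom.ext fun a => ?_⟩, hom_ext (AlgHom.ext hl)⟩
    obtain ⟨b, rfl⟩ := hf a
    change (dual Λ k).res (l (f b)) = A.res (f b)
    rw [hl, res_app, res_app]
  · rintro ⟨hi, hs⟩
    have hf : Function.Surjective f := (surjective_iff_theta f).2 hi
    refine ⟨hf, fun C g hgf => (surjective_iff_theta g).2 fun θ θ' h => ?_⟩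
    obtain ⟨η, rfl⟩ := hs θ
    obtain ⟨η', rfl⟩ := hs θ'
    exact congrArg (f ≫ ·) ((surjective_iff_theta (g ≫ f)).1 hgf η η' (by simpa using h))

omit [IsNoetherianRing Λ] [Module.Finite Λ k] in
/-- A quotient map with kernel in `m_Λ A + m_A²` does not change tangent vectors. -/
theorem bijective_theta_of_quot {A A' : Art Λ k} (q : A ⟶ A') (hq : Function.Surjective q)
    (hk : RingHom.ker q.toAlgHom ≤ relSq A) :
    Function.Bijective (fun θ : A' ⟶ dual Λ k => q ≫ θ) := by
  refine ⟨fun θ θ' h => hom_ext (AlgHom.ext fun a => ?_), fun θ => ?_⟩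
  · obtain ⟨b, rfl⟩ := hq a
    exact congrArg (fun m : A ⟶ dual Λ k => m b) h
  obtain ⟨l, hl⟩ := exists_algHom_factor (f := q.toAlgHom) hq θ.toAlgHom (hk.trans (relSq_le_ker A θ))
  refine ⟨⟨l, AlgHom.ext fun a => ?_⟩, hom_ext (AlgHom.ext hl)⟩
  obtain ⟨b, rfl⟩ := hq a
  change (dual Λ k).res (l (q b)) = A'.res (q b)
  rw [hl, res_app, res_app]

section Separable

variable [Algebra.IsSeparable (↥(algebraMap Λ k).range) k]

omit [IsNoetherianRing Λ] [Module.Finite Λ k] in
theorem exists_root_data (c : k) : ∃ g : Polynomial Λ,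
    Polynomial.aeval c g = 0 ∧ Polynomial.aeval c (Polynomial.derivative g) ≠ 0 := by
  obtain ⟨g, hg⟩ := Polynomial.map_surjective (algebraMap Λ k).rangeRestrict
    (RingHom.rangeRestrict_surjective _) (minpoly (↥(algebraMap Λ k).range) c)
  have e : ∀ p : Polynomial Λ, Polynomial.aeval c p =
      Polynomial.aeval c (p.map (algebraMap Λ k).rangeRestrict) := fun p => by
    simp only [Polynomial.aeval_def, Polynomial.eval₂_map]
    rfl
  refine ⟨g, by rw [e, hg, minpoly.aeval], ?_⟩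
  rw [e, ← Polynomial.derivative_map, hg]
  exact (Algebra.IsSeparable.isSeparable _ c).aeval_derivative_ne_zero (minpoly.aeval _ _)

omit [IsNoetherianRing Λ] [Module.Finite Λ k] in
theorem existsUnique_root (A : Art Λ k) {c : k} {g : Polynomial Λ} (h₀ : Polynomial.aeval c g = 0)
    (h₁ : Polynomial.aeval c (Polynomial.derivative g) ≠ 0) :
    ∃! r : A, A.res r = c ∧ Polynomial.aeval r g = 0 := by
  obtain ⟨x, hx⟩ := A.res_surjective c
  obtain ⟨n, hn⟩ := maximalIdeal_pow_eq_bot A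
  have hnil : ∀ a : A, A.res a = 0 → IsNilpotent a := fun a ha => ⟨n + 1, by
    have := Ideal.pow_mem_pow ((mem_maximalIdeal_iff A a).2 ha) (n + 1)
    rwa [hn, Ideal.mem_bot] at this⟩
  have hev : ∀ p : Polynomial Λ, A.res (Polynomial.aeval x p) = Polynomial.aeval c p := fun p => by
    rw [← Polynomial.aeval_algHom_apply, hx]
  obtain ⟨r, ⟨hr, hr0⟩, huniq⟩ := Polynomial.existsUnique_nilpotent_sub_and_aeval_eq_zero
    (P := g) (x := x) (hnil _ ((hev g).trans h₀))
    (notMem_maximalIdeal.1 fun h => h₁ ((hev _).symm.trans ((mem_maximalIdeal_iff A _).1 h)))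
  refine ⟨r, ⟨?_, hr0⟩, fun r' ⟨hr', hr0'⟩ => huniq r' ⟨hnil _ (by rw [map_sub, hx, hr', sub_self]), hr0'⟩⟩
  have := (hr.map A.res).eq_zero
  rw [map_sub, hx, sub_eq_zero] at this
  exact this.symm

theorem exists_isFibreProd_of_isSeparable {A A₁ A₂ : Art Λ k} (f₁ : A₁ ⟶ A) (f₂ : A₂ ⟶ A) :
    ∃ (B : Art Λ k) (p₁ : B ⟶ A₁) (p₂ : B ⟶ A₂), IsFibreProd p₁ p₂ f₁ f₂ :=
  exists_isFibreProd_of_res f₁ f₂ (fun c => by
    obtain ⟨g, h₀, h₁⟩ := exists_root_data (Λ := Λ) c
    obtain ⟨r₁, ⟨hr₁, e₁⟩, -⟩ := existsUnique_root A₁ h₀ h₁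
    obtain ⟨r₂, ⟨hr₂, e₂⟩, -⟩ := existsUnique_root A₂ h₀ h₁
    refine ⟨r₁, r₂, (existsUnique_root A h₀ h₁).unique ⟨(res_app f₁ r₁).trans hr₁, ?_⟩
      ⟨(res_app f₂ r₂).trans hr₂, ?_⟩, hr₁⟩
    · rw [Polynomial.aeval_algHom_apply, e₁, map_zero]
    · rw [Polynomial.aeval_algHom_apply, e₂, map_zero]) module_finite

omit [IsNoetherianRing Λ] [Module.Finite Λ k] in
theorem exists_section_of_isSeparable (Q : Art Λ k)
    (hQ : ∀ r : Λ, algebraMap Λ k r = 0 → algebraMap Λ Q r = 0) :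
    ∃ s : k →ₐ[Λ] Q, ∀ c, Q.res (s c) = c := by
  let K := (algebraMap Λ k).range
  haveI : Algebra.IsIntegral K k := ⟨fun x => (Algebra.IsSeparable.isSeparable K x).isIntegral⟩
  letI : Field K := (isField_of_isIntegral_of_isField (R := K) (S := k) Subtype.val_injective
    (Field.toIsField k)).toField
  let φ := (algebraMap Λ k).rangeRestrict
  have hφ : Function.Surjective φ := RingHom.rangeRestrict_surjective _
  let ψ : K →+* Q := φ.liftOfSurjective hφ ⟨algebraMap Λ Q, fun r hr =>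
    hQ r (congrArg Subtype.val (hr : φ r = 0))⟩
  letI : Algebra K Q := ψ.toAlgebra
  have hψ : ∀ r, algebraMap K Q (φ r) = algebraMap Λ Q r := fun r =>
    RingHom.liftOfRightInverse_comp_apply _ _ _ _ r
  let resK : Q →ₐ[K] k :=
    { Q.res.toRingHom with
      commutes' := fun x => by
        obtain ⟨r, rfl⟩ := hφ x
        exact (congrArg Q.res (hψ r)).trans (Q.res.commutes r) }
  haveI : Algebra.FormallyEtale K k := Algebra.FormallyEtale.of_isSeparable K k
  have hnil : IsNilpotent (RingHom.ker (resK : Q →+* k)) := by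
    obtain ⟨n, hn⟩ := maximalIdeal_pow_eq_bot Q
    refine ⟨n + 1, ?_⟩
    rw [show RingHom.ker (resK : Q →+* k) = maximalIdeal Q from
      Ideal.ext fun a => (mem_maximalIdeal_iff Q a).symm, hn]
    rfl
  let s₀ := Algebra.FormallySmooth.liftOfSurjective (AlgHom.id K k) resK Q.res_surjective hnil
  refine ⟨{ s₀.toRingHom with commutes' := fun r => ?_ },
    fun c => Algebra.FormallySmooth.liftOfSurjective_apply (AlgHom.id K k) resK Q.res_surjective hnil c⟩
  change s₀ (algebraMap Λ k r) = _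
  rw [← hψ r, ← s₀.commutes]
  rfl

theorem exists_theta_of_notMem {A : Art Λ k} {t : A} (htm : t ∈ maximalIdeal A) (ht : t ∉ relSq A) :
    ∃ θ : A ⟶ dual Λ k, θ t ≠ 0 := by
  obtain ⟨J, ⟨hJ, htJ, hJm⟩, hmax⟩ := wellFounded_gt.has_min
    {J : Ideal A | relSq A ≤ J ∧ t ∉ J ∧ J ≤ maximalIdeal A}
    ⟨relSq A, le_rfl, ht, sup_le (Ideal.map_le_iff_le_comap.2 fun r hr => by
      rw [Ideal.mem_comap, mem_maximalIdeal_iff, AlgHom.commutes]; exact hr) (Ideal.pow_le_self two_ne_zero)⟩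
  let Q := quot A J hJm
  let q := quotMk A J hJm
  have hqs : Function.Surjective q := Ideal.Quotient.mk_surjective
  have htk : ∀ x ∈ maximalIdeal Q, x * q t = 0 := fun x hx => by
    obtain ⟨a, rfl⟩ := hqs x
    rw [← map_mul]
    refine Ideal.Quotient.eq_zero_iff_mem.2 (hJ (Submodule.mem_sup_right ?_))
    rw [pow_two]
    exact Ideal.mul_mem_mul ((apply_mem_maximalIdeal_iff q a).1 hx) htm
  have ht0 : q t ≠ 0 := fun h => htJ (Ideal.Quotient.eq_zero_iff_mem.1 h)
  obtain ⟨s, hs⟩ := exists_section_of_isSeparable Q fun r hr => Ideal.Quotient.eq_zero_iff_mem.2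
    (hJ (Submodule.mem_sup_left (Ideal.mem_map_of_mem _ hr)))
  -- pass to a further quotient in which `t` spans the maximal ideal
  by_cases hsmall : IsSmallExt (toBase Q)
  · obtain ⟨θ, hθ⟩ := exists_theta_of_section hsmall q s hs
    refine ⟨θ, fun h => ht0 ?_⟩
    rw [(hθ t).1 (by rw [h]; rfl), (mem_maximalIdeal_iff A t).1 htm, map_zero]
  · exfalso
    refine hsmall (isSmallExt_of_ker_eq_span (t := q t) Q.res_surjective ?_ ht0 htk)
    rw [show RingHom.ker (toBase Q).toAlgHom = maximalIdeal Q from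
      Ideal.ext fun x => (mem_maximalIdeal_iff Q x).symm]
    refine le_antisymm (fun x hx => ?_) ((Ideal.span_singleton_le_iff_mem _).2 (apply_mem_maximalIdeal q htm))
    obtain ⟨a, rfl⟩ := hqs x
    by_cases haJ : a ∈ J
    · rw [show q a = 0 from Ideal.Quotient.eq_zero_iff_mem.2 haJ]
      exact zero_mem _
    have ham := (apply_mem_maximalIdeal_iff q a).1 hx
    have htJa : t ∈ J ⊔ Ideal.span {a} := by
      by_contra h
      exact hmax _ ⟨hJ.trans le_sup_left, h, sup_le hJm ((Ideal.span_singleton_le_iff_mem _).2 ham)⟩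
        (lt_of_le_of_ne le_sup_left fun e => haJ (e ▸ Submodule.mem_sup_right (Ideal.mem_span_singleton_self a)))
    obtain ⟨j, hj, r, hr, e⟩ := Submodule.mem_sup.1 htJa
    obtain ⟨c, rfl⟩ := Ideal.mem_span_singleton'.1 hr
    have hcu : IsUnit c := notMem_maximalIdeal.1 fun hc => htJ (e ▸ J.add_mem hj (hJ (Submodule.mem_sup_right
      (by rw [pow_two]; exact Ideal.mul_mem_mul hc ham))))
    have e2 : q t = q c * q a := by
      rw [← e, map_add, show q j = 0 from Ideal.Quotient.eq_zero_iff_mem.2 hj, zero_add, map_mul]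
    obtain ⟨d, hd⟩ := (hcu.map q.toAlgHom).exists_left_inv
    exact Ideal.mem_span_singleton'.2 ⟨d, by rw [e2, ← mul_assoc, hd, one_mul]⟩

end Separable

end Groth.Agent.ArtFunLib
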