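import Groth.Agent.ArtFunLib.Essential
import Mathlib.RingTheory.Kaehler.Basic
import Mathlib.RingTheory.TensorProduct.Basic
import Mathlib.LinearAlgebra.Dual.Lemmas

/-!
Tangent vectors as functionals on `k ⊗ Ω`.
-/

universe u v

open CategoryTheory TensorProduct

namespace Groth.Agent.ArtFunLib

open ArtFun ArtFun.Art IsLocalRing

variable {Λ k : Type u} [CommRing Λ] [Field k] [Algebra Λ k]
variable (X : Art Λ k) [Algebra X k] [IsScalarTower Λ X k]

theorem exists_thetaEquiv (hX : ∀ a : X, algebraMap X k a = X.res a) :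
    ∃ e : (X ⟶ dual Λ k) ≃ Module.Dual k (k ⊗[X] Ω[X⁄Λ]), ∀ θ a,
      e θ ((1 : k) ⊗ₜ KaehlerDifferential.D Λ X a) = TrivSqZeroExt.snd (R := k) (M := k) (θ a) := by
  have toD : ∀ θ : X ⟶ dual Λ k, ∃ D : Derivation Λ X k,
      ∀ a, D a = TrivSqZeroExt.snd (R := k) (M := k) (θ a) := by
    intro θ
    refine ⟨Derivation.mk'
      { toFun := fun a => TrivSqZeroExt.snd (R := k) (M := k) (θ a)
        map_add' := fun a b => by rw [map_add]; rfl
        map_smul' := fun r a => by rw [map_smul]; rfl } (fun a b => ?_), fun a => rfl⟩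
    change TrivSqZeroExt.snd (R := k) (M := k) (θ (a * b)) = _
    rw [map_mul]
    refine (DualNumber.snd_mul (R := k) _ _).trans ?_
    rw [fst_dual, fst_dual, Algebra.smul_def, Algebra.smul_def, hX, hX, LinearMap.coe_mk, AddHom.coe_mk]
    ring
  choose D hD using toD
  have sm : ∀ (a : X) (c : k), a • c = X.res a * c := fun a c => by rw [Algebra.smul_def, hX]
  have ofD : ∀ E : Derivation Λ X k, ∃ θ : X ⟶ dual Λ k,
      ∀ a, TrivSqZeroExt.snd (R := k) (M := k) (θ a) = E a := by
    intro E
    let φ : X →ₐ[Λ] DualNumber k := AlgHom.ofLinearMap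
      { toFun := fun a => TrivSqZeroExt.inl (X.res a) + TrivSqZeroExt.inr (E a)
        map_add' := fun a b => by ext <;> simp
        map_smul' := fun r a => by ext <;> simp }
      (by ext <;> simp) (fun a b => by ext <;> simp [sm] <;> ring)
    have h1 : ∀ a, TrivSqZeroExt.fst (φ a) = X.res a := fun a => by simp [φ]
    have h2 : ∀ a, TrivSqZeroExt.snd (φ a) = E a := fun a => by simp [φ]
    exact ⟨⟨φ, AlgHom.ext h1⟩, h2⟩
  choose Θ hΘ using ofD
  refine ⟨{ toFun := fun θ => LinearMap.liftBaseChange k (D θ).liftKaehlerDifferential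
            invFun := fun ℓ => Θ (((ℓ.restrictScalars X).comp (TensorProduct.mk X k _ 1)).compDer (KaehlerDifferential.D Λ X))
            left_inv := fun θ => dual_hom_ext fun a => ?_
            right_inv := fun ℓ => ?_ }, fun θ a => ?_⟩
  · rw [hΘ]
    change LinearMap.liftBaseChange k _ ((1 : k) ⊗ₜ _) = _
    rw [LinearMap.liftBaseChange_tmul, one_smul]
    exact (Derivation.liftKaehlerDifferential_comp_D (D θ) a).trans (hD θ a)
  · refine (LinearMap.liftBaseChangeEquiv k).symm.injective ?_
    rw [LinearEquiv.symm_apply_apply]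
    refine Derivation.liftKaehlerDifferential_unique _ _ (Derivation.ext fun a => ?_)
    change (D _).liftKaehlerDifferential (KaehlerDifferential.D Λ X a) = _
    refine (Derivation.liftKaehlerDifferential_comp_D (D _) a).trans ((hD _ a).trans ((hΘ _ a).trans ?_))
    rfl
  · change LinearMap.liftBaseChange k _ ((1 : k) ⊗ₜ _) = _
    rw [LinearMap.liftBaseChange_tmul, one_smul]
    exact (Derivation.liftKaehlerDifferential_comp_D (D θ) a).trans (hD θ a)

theorem finite_kaehler_tensor [IsNoetherianRing Λ] [Module.Finite Λ k] :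
    Module.Finite k (k ⊗[X] Ω[X⁄Λ]) := by
  haveI := module_finite X
  haveI : Algebra.FiniteType Λ X := inferInstance
  exact Module.Finite.base_change X k _

end Groth.Agent.ArtFunLib
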