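import Groth.Agent.ArtFunLib.Cmp
import Groth.Agent.Adic.Basic
import Groth.Prelude.Def_W4sfdMinVersal
import Mathlib.RingTheory.AdicCompletion.RingHom
import Mathlib.RingTheory.AdicCompletion.LocalRing

/-!
Coefficient rings: maps into Artinian objects factor through truncations, maps into a coefficient
ring are compatible systems of maps into its truncations, formal elements are families.
-/

universe u v

open CategoryTheory

namespace Groth.Agent.ArtFunLib

open ArtFun ArtFun.Art IsLocalRing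

variable {Λ k : Type u} [CommRing Λ] [Field k] [Algebra Λ k]

section CRing

variable (R : CRing Λ k)

theorem homSet_mem_maximalIdeal {A : Art Λ k} (φ : HomSet R.carrier R.res A) {a : R.carrier}
    (ha : a ∈ maximalIdeal R.carrier) : φ.1 a ∈ maximalIdeal A := by
  rw [CRing.mem_maximalIdeal_iff] at ha
  rw [mem_maximalIdeal_iff, ← ha]
  exact congrArg (fun f : R.carrier →ₐ[Λ] k => f a) φ.2

theorem exists_mpow_le_ker {A : Art Λ k} (φ : HomSet R.carrier R.res A) :
    ∃ n : ℕ, CRing.mpow R n ≤ RingHom.ker φ.1 := by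
  obtain ⟨n, hn⟩ := maximalIdeal_pow_eq_bot A
  refine ⟨n, fun a ha => RingHom.mem_ker.2 ?_⟩
  have := apply_mem_pow φ.1 _ _ (fun b hb => homSet_mem_maximalIdeal R φ hb) _ ha
  rwa [hn, Ideal.mem_bot] at this

/-- The map out of a truncation induced by a point killing `m^(n+1)`. -/
noncomputable def truncFactor {A : Art Λ k} (φ : HomSet R.carrier R.res A) (n : ℕ)
    (h : CRing.mpow R n ≤ RingHom.ker φ.1) : R.trunc n ⟶ A :=
  ⟨Ideal.Quotient.liftₐ (CRing.mpow R n) φ.1 (fun a ha => h ha), by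
    apply AlgHom.ext
    intro x
    obtain ⟨a, rfl⟩ := Ideal.Quotient.mk_surjective x
    exact congrArg (fun f : R.carrier →ₐ[Λ] k => f a) φ.2⟩

lemma map_truncFactor {A : Art Λ k} (φ : HomSet R.carrier R.res A) (n : ℕ)
    (h : CRing.mpow R n ≤ RingHom.ker φ.1) :
    HomSet.map (truncFactor R φ n h) (R.truncHom n) = φ :=
  Subtype.ext (AlgHom.ext fun _ => rfl)

lemma trunc_hom_ext {A : Art Λ k} {n : ℕ} {f g : R.trunc n ⟶ A}
    (h : HomSet.map f (R.truncHom n) = HomSet.map g (R.truncHom n)) : f = g := by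
  refine hom_ext (AlgHom.ext fun x => ?_)
  obtain ⟨a, rfl⟩ := Ideal.Quotient.mk_surjective x
  exact congrArg (fun φ : HomSet R.carrier R.res A => φ.1 a) h

lemma truncMap_surjective (n : ℕ) : Function.Surjective (R.truncMap n) := fun x => by
  obtain ⟨a, rfl⟩ := Ideal.Quotient.mk_surjective x
  exact ⟨Ideal.Quotient.mk _ a, rfl⟩

lemma truncFactor_succ {A : Art Λ k} (φ : HomSet R.carrier R.res A) (n : ℕ)
    (h : CRing.mpow R n ≤ RingHom.ker φ.1) (h' : CRing.mpow R (n + 1) ≤ RingHom.ker φ.1) :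
    truncFactor R φ (n + 1) h' = R.truncMap n ≫ truncFactor R φ n h :=
  trunc_hom_ext R (Subtype.ext (AlgHom.ext fun _ => rfl))

variable {R}

theorem family_eq_truncFactor {F : Art Λ k ⥤ Type v} (ξ : Family R.carrier R.res F) {A : Art Λ k}
    (φ : HomSet R.carrier R.res A) (n : ℕ) (h : CRing.mpow R n ≤ RingHom.ker φ.1) :
    ξ.app A φ = F.map (truncFactor R φ n h) (ξ.toFormalElt.elt n) := by
  conv_lhs => rw [← map_truncFactor R φ n h]
  exact ξ.natural _ _

theorem toFormalElt_injective {F : Art Λ k ⥤ Type v} {ξ ξ' : Family R.carrier R.res F}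
    (h : ξ.toFormalElt = ξ'.toFormalElt) : ξ = ξ' := by
  have e : ∀ A φ, ξ.app A φ = ξ'.app A φ := fun A φ => by
    obtain ⟨n, hn⟩ := exists_mpow_le_ker R φ
    rw [family_eq_truncFactor ξ φ n hn, family_eq_truncFactor ξ' φ n hn, h]
  obtain ⟨app, nat⟩ := ξ
  obtain ⟨app', nat'⟩ := ξ'
  congr 1
  funext A φ
  exact e A φ

lemma elt_factor {F : Art Λ k ⥤ Type v} (u : FormalElt F R) {A : Art Λ k}
    (φ : HomSet R.carrier R.res A) {n m : ℕ} (hnm : n ≤ m) (h : CRing.mpow R n ≤ RingHom.ker φ.1)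
    (h' : CRing.mpow R m ≤ RingHom.ker φ.1) :
    F.map (truncFactor R φ n h) (u.elt n) = F.map (truncFactor R φ m h') (u.elt m) := by
  induction m, hnm using Nat.le_induction with
  | base => rfl
  | succ m hnm ih =>
    have hm : CRing.mpow R m ≤ RingHom.ker φ.1 :=
      le_trans (Ideal.pow_le_pow_right (by omega)) h
    rw [ih hm, truncFactor_succ R φ m hm h', ← map_map, u.compat]

/-- An index `n` with `m^(n+1)` killed by `φ`. -/
noncomputable def index {A : Art Λ k} (φ : HomSet R.carrier R.res A) : ℕ :=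
  (exists_mpow_le_ker R φ).choose

lemma index_spec {A : Art Λ k} (φ : HomSet R.carrier R.res A) :
    CRing.mpow R (index φ) ≤ RingHom.ker φ.1 :=
  (exists_mpow_le_ker R φ).choose_spec

lemma evalElt_eq {F : Art Λ k ⥤ Type v} (u : FormalElt F R) {A : Art Λ k}
    (φ : HomSet R.carrier R.res A) {n : ℕ} (h : CRing.mpow R n ≤ RingHom.ker φ.1) :
    F.map (truncFactor R φ (index φ) (index_spec φ)) (u.elt (index φ)) =
      F.map (truncFactor R φ n h) (u.elt n) := by
  rw [elt_factor u φ (le_max_left (index φ) n) _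
      (le_trans (Ideal.pow_le_pow_right (by omega)) h),
    ← elt_factor u φ (le_max_right (index φ) n) h]

/-- The family of a formal element. -/
noncomputable def familyOfFormalElt {F : Art Λ k ⥤ Type v} (u : FormalElt F R) :
    Family R.carrier R.res F where
  app A φ := F.map (truncFactor R φ (index φ) (index_spec φ)) (u.elt (index φ))
  natural {A B} f φ := by
    have key : CRing.mpow R (index φ) ≤ RingHom.ker (HomSet.map f φ).1 := fun a ha => by
      change f (φ.1 a) = 0
      rw [show φ.1 a = 0 from index_spec φ ha, map_zero]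
    rw [evalElt_eq u _ key, map_map, show truncFactor R (HomSet.map f φ) (index φ) key =
      truncFactor R φ (index φ) (index_spec φ) ≫ f from
        trunc_hom_ext R (Subtype.ext (AlgHom.ext fun _ => rfl))]

lemma toFormalElt_familyOfFormalElt {F : Art Λ k ⥤ Type v} (u : FormalElt F R) :
    (familyOfFormalElt u).toFormalElt = u := by
  refine FormalElt.ext' fun n => ?_
  have hn : CRing.mpow R n ≤ RingHom.ker (R.truncHom n).1 := fun a ha =>
    Ideal.Quotient.eq_zero_iff_mem.2 ha
  change F.map (truncFactor R _ _ _) (u.elt _) = _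
  rw [evalElt_eq u _ hn,
    show truncFactor R (R.truncHom n) n hn = 𝟙 _ from trunc_hom_ext R rfl, map_id_app]

theorem bijective_toFormalElt (F : Art Λ k ⥤ Type v) :
    Function.Bijective (fun ξ : Family R.carrier R.res F => ξ.toFormalElt) :=
  ⟨fun _ _ h => toFormalElt_injective h,
    fun u => ⟨familyOfFormalElt u, toFormalElt_familyOfFormalElt u⟩⟩

lemma toFormalElt_along {F : Art Λ k ⥤ Type v} {S : CRing Λ k} (ξ : Family R.carrier R.res F)
    (g : R.carrier →ₐ[Λ] S.carrier) (hg : S.res.comp g = R.res) :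
    (ξ.along g hg).toFormalElt = ξ.toFormalElt.push g hg := by
  refine FormalElt.ext' fun n => ?_
  change ξ.app _ _ = F.map _ (ξ.app _ (R.truncHom n))
  rw [← ξ.natural]
  exact congrArg (ξ.app _) (Subtype.ext (AlgHom.ext fun _ => rfl))

lemma eq_of_trunc_eq {S : CRing Λ k} {g₁ g₂ : R.carrier →ₐ[Λ] S.carrier}
    (h : ∀ n, (S.truncHom n).1.comp g₁ = (S.truncHom n).1.comp g₂) : g₁ = g₂ := by
  haveI := S.isAdicComplete
  ext a
  refine sub_eq_zero.1 (IsHausdorff.haus (I := maximalIdeal S.carrier) inferInstance _ fun n => ?_)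
  rw [SModEq.zero, smul_eq_mul, Ideal.mul_top]
  have := Ideal.Quotient.eq.1 (congrArg (fun f : R.carrier →ₐ[Λ] (S.trunc n) => f a) (h n))
  exact Ideal.pow_le_pow_right n.le_succ this

/-- Compatible maps into the truncations come from a map of coefficient rings. -/
theorem exists_hom_of_compat {S : CRing Λ k} (φ : ∀ n, HomSet R.carrier R.res (S.trunc n))
    (hφ : ∀ n, HomSet.map (S.truncMap n) (φ (n + 1)) = φ n) :
    ∃ (g : R.carrier →ₐ[Λ] S.carrier) (_hg : S.res.comp g = R.res),
      ∀ n, (S.truncHom n).1.comp g = (φ n).1 := by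
  haveI := S.isAdicComplete
  let I := maximalIdeal S.carrier
  let ψ : (n : ℕ) → R.carrier →ₐ[Λ] S.carrier ⧸ I ^ n := fun n =>
    (Ideal.Quotient.factorₐ Λ (Ideal.pow_le_pow_right n.le_succ)).comp (φ n).1
  have hψ : ∀ {m n : ℕ} (hle : m ≤ n),
      (Ideal.Quotient.factorₐ Λ (Ideal.pow_le_pow_right hle)).comp (ψ n) = ψ m := by
    intro m n hle
    induction n, hle using Nat.le_induction with
    | base =>
      ext a
      obtain ⟨b, hb⟩ := Ideal.Quotient.mk_surjective (ψ m a)
      simp [← hb]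
    | succ n hmn ih =>
      rw [← ih]
      ext a
      have h1 := congrArg (fun t : HomSet R.carrier R.res (S.trunc n) => t.1 a) (hφ n)
      obtain ⟨b, hb⟩ := Ideal.Quotient.mk_surjective ((φ (n + 1)).1 a)
      have h2 : (φ n).1 a = Ideal.Quotient.mk (I ^ (n + 1)) b := by
        rw [← h1]
        change S.truncMap n ((φ (n + 1)).1 a) = _
        rw [← hb]; rfl
      simp only [ψ, AlgHom.comp_apply]
      erw [h2, ← hb]
      rfl
  let g := IsAdicComplete.liftAlgHom I ψ hψ
  have hg : ∀ n, (S.truncHom n).1.comp g = (φ n).1 := fun n => by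
    ext a
    have h1 := IsAdicComplete.mk_liftAlgHom I ψ hψ (n + 1) a
    change Ideal.Quotient.mk (I ^ (n + 1)) (g a) = _
    rw [h1]
    have h2 := congrArg (fun t : HomSet R.carrier R.res (S.trunc n) => t.1 a) (hφ n)
    obtain ⟨b, hb⟩ := Ideal.Quotient.mk_surjective ((φ (n + 1)).1 a)
    rw [← h2]
    change ψ (n + 1) a = S.truncMap n ((φ (n + 1)).1 a)
    simp only [ψ, AlgHom.comp_apply]
    erw [← hb]; rfl
  refine ⟨g, ?_, hg⟩
  rw [← (φ 0).2, ← hg 0, ← AlgHom.comp_assoc, (S.truncHom 0).2]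

theorem exists_point_trunc_zero (S : CRing Λ k) :
    Function.Bijective (toBase (S.trunc 0)) := by
  refine ⟨(injective_iff_map_eq_zero (S.trunc 0).res).2 fun x hx => ?_, (S.trunc 0).res_surjective⟩
  obtain ⟨a, rfl⟩ := Ideal.Quotient.mk_surjective x
  have : a ∈ maximalIdeal S.carrier := (CRing.mem_maximalIdeal_iff S a).2 hx
  exact Ideal.Quotient.eq_zero_iff_mem.2 (by simpa [CRing.mpow] using this)

/-- A versal family lifts formal elements of any functor mapping into its functor. -/
theorem exists_formal_lift {F : Art Λ k ⥤ Type v} {G : Art Λ k ⥤ Type v} (η : NatFam F G)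
    (hη : ∀ ⦃B A : Art Λ k⦄ (μ : B ⟶ A), Function.Surjective μ → η.Lifts μ)
    (h0 : Function.Surjective (η.app (base Λ k))) (S : CRing Λ k) (u : FormalElt G S) :
    ∃ w : FormalElt F S, ∀ n, η.app _ (w.elt n) = u.elt n := by
  have h : ∀ n (x : F.obj (S.trunc n)), η.app _ x = u.elt n →
      ∃ x', F.map (S.truncMap n) x' = x ∧ η.app _ x' = u.elt (n + 1) := fun n x hx =>
    hη _ (truncMap_surjective S n) x _ (by rw [u.compat, hx])
  choose next hn₁ hn₂ using h
  obtain ⟨x₀, hx₀⟩ := surjective_of_lifts η hη h0 (S.trunc 0) (u.elt 0)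
  let w : ∀ n, {x : F.obj (S.trunc n) // η.app _ x = u.elt n} := fun n =>
    Nat.rec ⟨x₀, hx₀⟩ (fun n x => ⟨next n x.1 x.2, hn₂ n x.1 x.2⟩) n
  exact ⟨⟨fun n => (w n).1, fun n => hn₁ n _ _⟩, fun n => (w n).2⟩

theorem exists_along_eq_of_versal {F : Art Λ k ⥤ Type v} {ξ : Family R.carrier R.res F}
    (hξ : IsVersal ξ) (hsurj : Function.Surjective (ξ.app (base Λ k))) (S : CRing Λ k)
    (u : FormalElt F S) :
    ∃ (g : R.carrier →ₐ[Λ] S.carrier) (hg : S.res.comp g = R.res),
      (ξ.along g hg).toFormalElt = u := by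
  have hlift : ∀ n (x : HomSet R.carrier R.res (S.trunc n)), ξ.app _ x = u.elt n →
      ∃ x', HomSet.map (S.truncMap n) x' = x ∧ ξ.app _ x' = u.elt (n + 1) := fun n x hx =>
    hξ _ (truncMap_surjective S n) x _ (by rw [u.compat, hx])
  choose next hn₁ hn₂ using hlift
  obtain ⟨x₀, hx₀⟩ := surjective_of_lifts (NatFam.ofFamily ξ) hξ hsurj (S.trunc 0) (u.elt 0)
  let w : ∀ n, {x : HomSet R.carrier R.res (S.trunc n) // ξ.app _ x = u.elt n} := fun n =>
    Nat.rec ⟨x₀, hx₀⟩ (fun n x => ⟨next n x.1 x.2, hn₂ n x.1 x.2⟩) n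
  obtain ⟨g, hg, hgn⟩ := exists_hom_of_compat (fun n => (w n).1) (fun n => hn₁ n _ _)
  refine ⟨g, hg, FormalElt.ext' fun n => ?_⟩
  refine Eq.trans ?_ (w n).2
  exact congrArg (ξ.app _) (Subtype.ext (hgn n))

end CRing

section Quot

variable (P : CRing Λ k)

/-- The quotient of a coefficient ring by an ideal in its maximal ideal. -/
theorem exists_quot (J : Ideal P.carrier) (hJ : J ≤ maximalIdeal P.carrier) :
    ∃ (R : CRing Λ k) (π : P.carrier →ₐ[Λ] R.carrier),
      R.res.comp π = P.res ∧ Function.Surjective π ∧ RingHom.ker π = J := by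
  haveI : Nontrivial (P.carrier ⧸ J) := Ideal.Quotient.nontrivial_iff.2 fun h =>
    (maximalIdeal.isMaximal P.carrier).ne_top (top_le_iff.1 (h ▸ hJ))
  haveI : IsLocalRing (P.carrier ⧸ J) :=
    IsLocalRing.of_surjective' (Ideal.Quotient.mk J) Ideal.Quotient.mk_surjective
  haveI := P.isAdicComplete
  have hm : (maximalIdeal P.carrier).map (algebraMap P.carrier (P.carrier ⧸ J)) =
      maximalIdeal (P.carrier ⧸ J) :=
    IsLocalRing.eq_maximalIdeal (Ideal.IsMaximal.map_of_surjective_of_ker_le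
      Ideal.Quotient.mk_surjective (by rw [Ideal.mk_ker]; exact hJ))
  haveI : IsPrecomplete (maximalIdeal P.carrier) (P.carrier ⧸ J) :=
    Adic.isPrecomplete_of_surjective _ (Algebra.linearMap P.carrier (P.carrier ⧸ J))
      Ideal.Quotient.mk_surjective
  haveI : IsPrecomplete (maximalIdeal (P.carrier ⧸ J)) (P.carrier ⧸ J) :=
    hm ▸ IsPrecomplete.map_algebraMap_iff.2 inferInstance
  refine ⟨{ carrier := P.carrier ⧸ J
            res := Ideal.Quotient.liftₐ J P.res fun a ha => (CRing.mem_maximalIdeal_iff P a).1 (hJ ha)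
            res_surjective := fun c => by
              obtain ⟨a, ha⟩ := P.res_surjective c
              exact ⟨Ideal.Quotient.mk J a, ha⟩
            isAdicComplete := {} }, Ideal.Quotient.mkₐ Λ J, Ideal.Quotient.liftₐ_comp _ _ _,
    Ideal.Quotient.mkₐ_surjective Λ J, Ideal.Quotient.mkₐ_ker Λ J⟩

end Quot

end Groth.Agent.ArtFunLib
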