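import Groth.Agent.ArtFunLib.Smooth
import Groth.Prelude.Def_ArtFun3
import Mathlib.LinearAlgebra.Contraction
import Mathlib.RingTheory.Filtration
import Mathlib.RingTheory.Nakayama

/-!
Obstruction theories for quotients of smooth rings, and the bound on relations they give.
-/

universe u v w

open CategoryTheory
open scoped TensorProduct

namespace Groth.Agent.ArtFunLib

open ArtFun ArtFun.Art IsLocalRing

/-- Two maps agreeing modulo an ideal killed by both images agree on products. -/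
lemma sub_mul_eq_zero {S C : Type*} [CommRing S] [CommRing C] (n : Ideal S) (I : Ideal C)
    (f g : S →+* C) (hd : ∀ a ∈ n, f a - g a ∈ I) (hf : ∀ a ∈ n, ∀ x ∈ I, f a * x = 0)
    (hg : ∀ a ∈ n, ∀ x ∈ I, g a * x = 0) {x : S} (hx : x ∈ n ^ 2) : f x = g x := by
  rw [pow_two] at hx
  induction hx using Submodule.mul_induction_on' with
  | mem_mul_mem a ha b hb =>
    rw [← sub_eq_zero, map_mul, map_mul,
      show f a * f b - g a * g b = f a * (f b - g b) + g b * (f a - g a) by ring,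
      hf a ha _ (hd b hb), hg b hb _ (hd a ha), add_zero]
  | add a _ b _ ha hb => rw [map_add, map_add, ha, hb]

section Tensor

variable {k : Type u} [Field k]

lemma dualTensorHom_lTensor {Q M M' : Type u} [AddCommGroup Q] [Module k Q] [AddCommGroup M]
    [Module k M] [AddCommGroup M'] [Module k M'] (f : M →ₗ[k] M') (t : Module.Dual k Q ⊗[k] M) :
    dualTensorHom k Q M' (LinearMap.lTensor (Module.Dual k Q) f t) =
      f.comp (dualTensorHom k Q M t) := by
  induction t using TensorProduct.induction_on with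
  | zero => simp
  | tmul x y => ext z; simp
  | add x y hx hy => rw [map_add, map_add, map_add, hx, hy, LinearMap.comp_add]

/-- The coordinates of a tensor with respect to a basis of the left factor. -/
noncomputable def coordOf {V M : Type u} [AddCommGroup V] [Module k V] [AddCommGroup M] [Module k M]
    {ι : Type*} (b : Module.Basis ι k V) (ω : V ⊗[k] M) (i : ι) : M :=
  TensorProduct.lid k M (LinearMap.rTensor M (b.coord i) ω)

lemma eq_sum_coordOf {V M : Type u} [AddCommGroup V] [Module k V] [AddCommGroup M] [Module k M]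
    {ι : Type*} [Fintype ι] (b : Module.Basis ι k V) (ω : V ⊗[k] M) :
    ω = ∑ i, b i ⊗ₜ[k] coordOf b ω i := by
  induction ω using TensorProduct.induction_on with
  | zero => simp [coordOf]
  | tmul x y =>
    simp only [coordOf, LinearMap.rTensor_tmul, TensorProduct.lid_tmul, ← TensorProduct.smul_tmul,
      Module.Basis.coord_apply, ← TensorProduct.sum_tmul]
    rw [b.sum_repr]
  | add x y hx hy =>
    conv_lhs => rw [hx, hy]
    simp only [coordOf, map_add, TensorProduct.tmul_add, Finset.sum_add_distrib]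

end Tensor

/-- The number of generators of an ideal of relations is bounded by an obstruction space. -/
theorem spanFinrank_le_of_obs {k S : Type u} [Field k] [CommRing S] [IsLocalRing S]
    [IsNoetherianRing S] [Algebra k S] (J : Ideal S) (hJ : J ≤ maximalIdeal S ^ 2) (N : ℕ)
    (hN : J ⊓ maximalIdeal S ^ N ≤ maximalIdeal S * J)
    (C' : Type u) [CommRing C'] [Algebra k C'] (q : S →ₐ[k] C') (hq : Function.Surjective q)
    (hker : RingHom.ker q = maximalIdeal S * J ⊔ maximalIdeal S ^ N)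
    {V : Type u} [AddCommGroup V] [Module k V] [Module.Finite k V] (M : Ideal C')
    (hM : M = J.map q) (ω : V ⊗[k] ↥M)
    (hlift : ∀ K : Ideal C', K ≤ M →
      (∀ i, ((coordOf (Module.finBasis k V) ω i : ↥M) : C') ∈ K) →
      ∃ χ : S →ₐ[k] C' ⧸ K, J ≤ RingHom.ker χ ∧
        ∀ s, χ s - Ideal.Quotient.mk K (q s) ∈ M.map (Ideal.Quotient.mk K)) :
    J.spanFinrank ≤ Module.finrank k V := by
  subst hM
  have hmem : ∀ i, ∃ y ∈ J, q y = ((coordOf (Module.finBasis k V) ω i : ↥(J.map q)) : C') := fun i =>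
    (Ideal.mem_map_iff_of_surjective _ hq).1 (coordOf (Module.finBasis k V) ω i).2
  choose y hy hqy using hmem
  let Y := Ideal.span (Set.range y)
  let K : Ideal C' := Y.map q
  have hYJ : Y ≤ J := Ideal.span_le.2 (by rintro _ ⟨i, rfl⟩; exact hy i)
  obtain ⟨χ, hχJ, hχ⟩ := hlift K (Ideal.map_mono hYJ)
    (fun i => hqy i ▸ Ideal.mem_map_of_mem q (Ideal.subset_span ⟨i, rfl⟩))
  let mk := Ideal.Quotient.mk K
  have hkill : ∀ a ∈ maximalIdeal S, ∀ x ∈ (J.map q).map mk, mk (q a) * x = 0 := fun a ha x hx => by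
    obtain ⟨x, hx', rfl⟩ := (Ideal.mem_map_iff_of_surjective mk Ideal.Quotient.mk_surjective).1 hx
    obtain ⟨j, hj, rfl⟩ := (Ideal.mem_map_iff_of_surjective q hq).1 hx'
    rw [← map_mul, ← map_mul, show q (a * j) = 0 from
      (hker.ge (Submodule.mem_sup_left (Ideal.mul_mem_mul ha hj)) : a * j ∈ RingHom.ker q), map_zero]
  have hkill' : ∀ a ∈ maximalIdeal S, ∀ x ∈ (J.map q).map mk, χ a * x = 0 := fun a ha x hx => by
    obtain ⟨x', hx', he⟩ := (Ideal.mem_map_iff_of_surjective mk Ideal.Quotient.mk_surjective).1 (hχ a)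
    obtain ⟨j, hj, rfl⟩ := (Ideal.mem_map_iff_of_surjective q hq).1 hx'
    rw [show χ a = mk (q (a + j)) by rw [map_add q, map_add mk, he]; ring]
    exact hkill _ (add_mem ha (Ideal.pow_le_self two_ne_zero (hJ hj))) x hx
  have hJK : ∀ j ∈ J, q j ∈ K := fun j hj => by
    have h := sub_mul_eq_zero (maximalIdeal S) ((J.map q).map mk) χ.toRingHom (mk.comp q.toRingHom)
      (fun a _ => hχ a) hkill' hkill (hJ hj)
    rw [← Ideal.Quotient.eq_zero_iff_mem]
    exact h.symm.trans (hχJ hj)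
  have hle : J ≤ Y ⊔ maximalIdeal S * J := fun j hj => by
    obtain ⟨y', hy', he⟩ := (Ideal.mem_map_iff_of_surjective q hq).1 (hJK j hj)
    have h1 : j - y' ∈ RingHom.ker q := by rw [RingHom.mem_ker, map_sub, he, sub_self]
    rw [hker, Submodule.mem_sup] at h1
    obtain ⟨a, ha, b, hb, hab⟩ := h1
    rw [show j = y' + (a + b) by rw [hab]; ring]
    refine Submodule.add_mem_sup hy' (add_mem ha (hN ⟨?_, hb⟩))
    rw [show b = (j - y') - a by rw [← hab]; ring]
    exact sub_mem (sub_mem hj (hYJ hy')) (Ideal.mul_le_right ha)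
  have hJY : J ≤ Y := Submodule.le_of_le_smul_of_le_jacobson_bot (IsNoetherian.noetherian J)
    (maximalIdeal_le_jacobson _) (by rwa [smul_eq_mul])
  rw [le_antisymm hJY hYJ]
  refine (Submodule.spanFinrank_span_le_ncard_of_finite (Set.finite_range y)).trans ?_
  rw [← Set.image_univ]
  exact (Set.ncard_image_le Set.finite_univ).trans (by simp)

/-- An Artin–Rees bound. -/
theorem exists_inf_pow_le {S : Type u} [CommRing S] [IsNoetherianRing S] (n J : Ideal S) :
    ∃ N, 2 ≤ N ∧ J ⊓ n ^ N ≤ n * J := by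
  obtain ⟨c, hc⟩ := Ideal.exists_pow_inf_eq_pow_smul (R := S) (M := S) n J
  refine ⟨c + 2, Nat.le_add_left 2 c, fun x hx => ?_⟩
  have h0 : n ^ (c + 2) • (⊤ : Submodule S S) ⊓ J ≤ n ^ 2 • J := by
    rw [hc (c + 2) (Nat.le_add_right c 2), Nat.add_sub_cancel_left]
    exact Submodule.smul_mono le_rfl inf_le_right
  have h : x ∈ n ^ 2 • J := h0 ⟨by rw [smul_eq_mul, Ideal.mul_top]; exact hx.2, hx.1⟩
  rw [smul_eq_mul, pow_two, mul_assoc] at h
  exact Ideal.mul_le_right h

section Functor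

variable {k : Type u} [Field k]

lemma ker_quotFactor {C D : Art k k} {K : Ideal C} (hK : K ≤ maximalIdeal C) (p : C ⟶ D)
    (hp : K ≤ RingHom.ker p.toAlgHom) :
    RingHom.ker (quotFactor hK p hp).toAlgHom = (RingHom.ker p.toAlgHom).map (Ideal.Quotient.mk K) := by
  ext x
  obtain ⟨a, rfl⟩ := Ideal.Quotient.mk_surjective x
  refine ⟨fun h => Ideal.mem_map_of_mem _ (show p a = 0 from h), fun h => ?_⟩
  obtain ⟨b, hb, e⟩ := (Ideal.mem_map_iff_of_surjective _ Ideal.Quotient.mk_surjective).1 h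
  rw [Ideal.Quotient.eq] at e
  change p a = 0
  have h1 : p (b - a) = 0 := hp e
  rw [map_sub, show p b = 0 from hb, zero_sub, neg_eq_zero] at h1
  exact h1

lemma isSemismallExt_quotFactor {C D : Art k k} {K : Ideal C} (hK : K ≤ maximalIdeal C) (p : C ⟶ D)
    (hp : K ≤ RingHom.ker p.toAlgHom) (hs : IsSemismallExt p) : IsSemismallExt (quotFactor hK p hp) := by
  refine ⟨fun d => ?_, ?_⟩
  · obtain ⟨c, rfl⟩ := hs.1 d
    exact ⟨Ideal.Quotient.mk K c, rfl⟩
  · rw [← le_bot_iff, Ideal.mul_le]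
    intro a ha x hx
    rw [ker_quotFactor] at hx
    obtain ⟨b, hb, rfl⟩ := (Ideal.mem_map_iff_of_surjective _ Ideal.Quotient.mk_surjective).1 hx
    obtain ⟨a, rfl⟩ := Ideal.Quotient.mk_surjective a
    have ha' : a ∈ maximalIdeal C := by
      rw [mem_maximalIdeal_iff] at ha ⊢
      exact ha
    have : a * b = 0 := by
      have := Ideal.mul_mem_mul ha' hb
      rwa [hs.2, Ideal.mem_bot] at this
    rw [Ideal.mem_bot]
    exact (map_mul (Ideal.Quotient.mk K) a b).symm.trans ((congrArg _ this).trans (map_zero _))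

variable {S : Type u} [CommRing S] [Algebra k S] (resS : S →ₐ[k] k)

theorem spanFinrank_le_of_obsTheory [IsLocalRing S] [IsNoetherianRing S]
    (hres : Function.Surjective resS) {R : Type u} [CommRing R] [Algebra k R] (π : S →ₐ[k] R)
    (hπ : Function.Surjective π) (hJ : RingHom.ker π ≤ maximalIdeal S ^ 2)
    (res : R →ₐ[k] k) (hr : res.comp π = resS)
    {V : Type u} [AddCommGroup V] [Module k V] [Module.Finite k V]
    (T : ObsTheory (hR R res) V) : (RingHom.ker π).spanFinrank ≤ Module.finrank k V := by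
  let J : Ideal S := RingHom.ker π
  have hkm : RingHom.ker resS = maximalIdeal S := IsLocalRing.eq_maximalIdeal (isMaximal_ker hres)
  obtain ⟨N, hN2, hN⟩ := exists_inf_pow_le (maximalIdeal S) J
  have hJm : J ≤ maximalIdeal S := hJ.trans (Ideal.pow_le_self two_ne_zero)
  obtain ⟨C', q, hq, hqk, hqr⟩ := exists_artQuot hres (maximalIdeal S * J ⊔ maximalIdeal S ^ N)
    (hkm ▸ sup_le (Ideal.mul_le_left) (Ideal.pow_le_self (by omega))) N (hkm ▸ le_sup_right)
  have hres' : ∀ s, C'.res (q s) = resS s := fun s => congrArg (fun f : S →ₐ[k] k => f s) hqr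
  have hMle : J.map q ≤ maximalIdeal C' := Ideal.map_le_iff_le_comap.2 fun s hs =>
    (mem_maximalIdeal_iff _ _).2 ((hres' s).trans (RingHom.mem_ker.1 (hkm.ge (hJm hs))))
  let p := quotMk C' (J.map q) hMle
  have hpk : RingHom.ker p.toAlgHom = J.map q := Ideal.mk_ker (I := J.map q)
  have hp : IsSemismallExt p := by
    refine ⟨quotMk_surjective _ _ _, ?_⟩
    rw [hpk, ← le_bot_iff, Ideal.mul_le]
    intro a ha x hx
    obtain ⟨j, hj, rfl⟩ := (Ideal.mem_map_iff_of_surjective q hq).1 hx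
    obtain ⟨a, rfl⟩ := hq a
    rw [Ideal.mem_bot, ← map_mul, ← RingHom.mem_ker, hqk]
    refine Submodule.mem_sup_left (Ideal.mul_mem_mul ?_ hj)
    rw [← hkm, RingHom.mem_ker, ← hres']
    exact (mem_maximalIdeal_iff _ _).1 ha
  obtain ⟨φ₀, hφ₀⟩ := exists_algHom_factor hπ ((quotMk C' (J.map q) hMle).toAlgHom.comp q) fun j hj =>
    Ideal.Quotient.eq_zero_iff_mem.2 (Ideal.mem_map_of_mem q hj)
  let φ : HomSet R res (quot C' (J.map q) hMle) := ⟨φ₀, AlgHom.ext fun x => by
    obtain ⟨s, rfl⟩ := hπ x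
    change (quot C' (J.map q) hMle).res (φ₀ (π s)) = res (π s)
    rw [hφ₀]
    exact (hres' s).trans (congrArg (fun f : S →ₐ[k] k => f s) hr).symm⟩
  refine spanFinrank_le_of_obs J hJ N hN C' q hq hqk (RingHom.ker p.toAlgHom) hpk
    (T.obs p hp φ) fun K hKM hcoord => ?_
  have hK : K ≤ maximalIdeal C' := hKM.trans (hpk.le.trans hMle)
  have hs := isSemismallExt_quotFactor hK p hKM hp
  have h0 : T.obs (quotFactor hK p hKM) hs φ = 0 := by
    rw [T.obs_quot p hp K hK hKM hs φ, eq_sum_coordOf (Module.finBasis k V) (T.obs p hp φ), map_sum]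
    refine Finset.sum_eq_zero fun i _ => ?_
    rw [LinearMap.lTensor_tmul]
    rw [show (kerToQuot hK p hKM).restrictScalars k (coordOf (Module.finBasis k V) (T.obs p hp φ) i) = 0
      from Subtype.ext (Ideal.Quotient.eq_zero_iff_mem.2 (hcoord i)), TensorProduct.tmul_zero]
  obtain ⟨u', hu'⟩ := (T.obs_eq_zero_iff _ hs φ).1 h0
  let u : HomSet R res (quot C' K hK) := u'
  refine ⟨u.1.comp π, fun j hj => ?_, fun s => ?_⟩
  · change u.1 (π j) = 0
    rw [show π j = 0 from hj, map_zero]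
  · rw [← ker_quotFactor hK p hKM]
    refine RingHom.mem_ker.2 ((map_sub (quotFactor hK p hKM).toAlgHom _ _).trans (sub_eq_zero.2 ?_))
    exact (congrArg (fun t : HomSet R res (quot C' (J.map q) hMle) => t.1 (π s)) hu').trans (hφ₀ s)

theorem finite_quot_smul_top [IsNoetherianRing S] (hres : Function.Surjective resS) (J : Ideal S) :
    Module.Finite k (↥J ⧸ (RingHom.ker resS • (⊤ : Submodule S ↥J))) := by
  obtain ⟨s, hs⟩ := Module.Finite.fg_top (R := S) (M := ↥J)
  let Q := RingHom.ker resS • (⊤ : Submodule S ↥J)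
  refine Module.Finite.of_surjective
    (Fintype.linearCombination k fun i : s => (Submodule.Quotient.mk (i : ↥J) : ↥J ⧸ Q)) fun x => ?_
  obtain ⟨j, rfl⟩ := Submodule.Quotient.mk_surjective _ x
  obtain ⟨c, rfl⟩ := Submodule.mem_span_finset'.1 (hs ▸ (Submodule.mem_top : j ∈ (⊤ : Submodule S ↥J)))
  refine ⟨fun i => resS (c i), ?_⟩
  rw [Fintype.linearCombination_apply]
  change _ = Q.mkQ (∑ i, c i • (i : ↥J))
  rw [map_sum]
  refine Finset.sum_congr rfl fun i _ => ?_
  rw [← algebraMap_smul S (resS (c i)), ← Submodule.Quotient.mk_smul]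
  refine (Submodule.Quotient.eq Q).2 ?_
  rw [← sub_smul]
  refine Submodule.smul_mem_smul ?_ Submodule.mem_top
  rw [RingHom.mem_ker, map_sub, AlgHom.commutes, Algebra.algebraMap_self, RingHom.id_apply, sub_self]

/-- The obstruction theory of a quotient of a smooth augmented algebra. -/
theorem hasObsTheory_quot [IsNoetherianRing S] (hres : Function.Surjective resS) (J : Ideal S)
    (hJ : J ≤ RingHom.ker resS ^ 2) (res : (S ⧸ J) →ₐ[k] k)
    (hr : res.comp (Ideal.Quotient.mkₐ k J) = resS) (hsm : IsSmoothFunctor (hR S resS)) :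
    HasObsTheory (hR (S ⧸ J) res)
      (Module.Dual k (↥J ⧸ (RingHom.ker resS • (⊤ : Submodule S ↥J)))) := by
  let Q := ↥J ⧸ (RingHom.ker resS • (⊤ : Submodule S ↥J))
  haveI : Module.Finite k Q := finite_quot_smul_top resS hres J
  have hrs : ∀ s, res (Ideal.Quotient.mk J s) = resS s := fun s => congrArg (fun f : S →ₐ[k] k => f s) hr
  -- points of `S` over points of `S ⧸ J`
  have hpt : ∀ {C : Art k k} (φ : HomSet (S ⧸ J) res C),
      C.res.comp (φ.1.comp (Ideal.Quotient.mkₐ k J)) = resS := fun φ => by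
    rw [← AlgHom.comp_assoc, φ.2, hr]
  have hlift : ∀ {C' C : Art k k} (p : C' ⟶ C), Function.Surjective p → ∀ φ : HomSet (S ⧸ J) res C,
      ∃ ψ : HomSet S resS C', p.toAlgHom.comp ψ.1 = φ.1.comp (Ideal.Quotient.mkₐ k J) :=
    fun p hp φ => by
      obtain ⟨ψ, hψ⟩ := hsm p hp (⟨φ.1.comp (Ideal.Quotient.mkₐ k J), hpt φ⟩ : HomSet S resS _)
      exact ⟨ψ, congrArg (fun t : HomSet S resS _ => t.1) hψ⟩
  have hmax : ∀ {C : Art k k} (ψ : HomSet S resS C) (a : S), a ∈ RingHom.ker resS →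
      ψ.1 a ∈ maximalIdeal C := fun {C} ψ a ha => (mem_maximalIdeal_iff C _).2
    ((congrArg (fun f : S →ₐ[k] k => f a) ψ.2).trans ha)
  have huniq : ∀ {C' C : Art k k} (p : C' ⟶ C), IsSemismallExt p → ∀ ψ₁ ψ₂ : HomSet S resS C',
      p.toAlgHom.comp ψ₁.1 = p.toAlgHom.comp ψ₂.1 → ∀ j ∈ J, ψ₁.1 j = ψ₂.1 j := by
    intro C' C p hp ψ₁ ψ₂ he j hj
    have hk : ∀ (ψ : HomSet S resS C'), ∀ a ∈ RingHom.ker resS, ∀ x ∈ RingHom.ker p.toAlgHom,
        ψ.1 a * x = 0 := fun ψ a ha x hx => by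
      have := Ideal.mul_mem_mul (hmax ψ a ha) hx
      rwa [hp.2, Ideal.mem_bot] at this
    exact sub_mul_eq_zero (RingHom.ker resS) (RingHom.ker p.toAlgHom) ψ₁.1.toRingHom ψ₂.1.toRingHom
      (fun a _ => (map_sub p.toAlgHom _ _).trans (sub_eq_zero.2 (congrArg (fun f : S →ₐ[k] C => f a) he)))
      (hk ψ₁) (hk ψ₂) (hJ hj)
  -- the linear map attached to a lift
  have hlin : ∀ {C' C : Art k k} (p : C' ⟶ C), IsSemismallExt p → ∀ φ : HomSet (S ⧸ J) res C,
      ∃ g : Q →ₗ[k] ↥(RingHom.ker p.toAlgHom), ∀ ψ : HomSet S resS C',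
        p.toAlgHom.comp ψ.1 = φ.1.comp (Ideal.Quotient.mkₐ k J) →
          ∀ j : ↥J, (g (Submodule.Quotient.mk j) : C') = ψ.1 j := by
    intro C' C p hp φ
    obtain ⟨ψ, hψ⟩ := hlift p hp.1 φ
    let g₀ : ↥J →ₗ[k] ↥(RingHom.ker p.toAlgHom) :=
      { toFun := fun j => ⟨ψ.1 j, by
          rw [RingHom.mem_ker]
          exact (congrArg (fun f : S →ₐ[k] C => f j) hψ).trans (by
            change φ.1 (Ideal.Quotient.mk J j) = 0
            rw [Ideal.Quotient.eq_zero_iff_mem.2 j.2, map_zero])⟩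
        map_add' := fun x y => Subtype.ext (map_add ψ.1 _ _)
        map_smul' := fun c x => Subtype.ext (map_smul ψ.1 c (x : S)) }
    have hle : (RingHom.ker resS • (⊤ : Submodule S ↥J)).restrictScalars k ≤ LinearMap.ker g₀ := fun x hx => by
      rw [Submodule.restrictScalars_mem] at hx
      refine Submodule.smul_induction_on hx (fun a ha m _ => ?_) (fun x y hx hy => add_mem hx hy)
      refine Subtype.ext ?_
      change ψ.1 (a * (m : S)) = 0
      rw [map_mul]
      have := Ideal.mul_mem_mul (hmax ψ a ha) (g₀ m).2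
      rwa [hp.2, Ideal.mem_bot] at this
    refine ⟨(Submodule.liftQ _ g₀ hle).comp
      (Submodule.Quotient.restrictScalarsEquiv k _).symm.toLinearMap, fun ψ' hψ' j => ?_⟩
    exact huniq p hp ψ ψ' (hψ.trans hψ'.symm) j j.2
  choose g hg using @hlin
  refine ⟨⟨fun {C' C} p hp φ => (dualTensorHomEquiv k Q _).symm (g p hp φ), fun {C' C} p hp φ => ?_,
    fun {C' C} p hp K hK hKJ hq φ => ?_⟩⟩
  · rw [LinearEquiv.map_eq_zero_iff]
    refine ⟨fun h0 => ?_, fun ⟨φ', hφ'⟩ => ?_⟩
    · obtain ⟨ψ, hψ⟩ := hlift p hp.1 φ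
      have hψJ : ∀ j ∈ J, ψ.1 j = 0 := fun j hj => by
        rw [← hg p hp φ ψ hψ ⟨j, hj⟩, h0]
        rfl
      refine ⟨(⟨Ideal.Quotient.liftₐ J ψ.1 hψJ, Ideal.Quotient.algHom_ext _ (AlgHom.ext fun s =>
          (congrArg (fun f : S →ₐ[k] k => f s) ψ.2).trans (hrs s).symm)⟩ : HomSet (S ⧸ J) res C'),
        Subtype.ext (Ideal.Quotient.algHom_ext _ hψ)⟩
    · let φ'' : HomSet (S ⧸ J) res C' := φ'
      let ψ : HomSet S resS C' := ⟨φ''.1.comp (Ideal.Quotient.mkₐ k J), hpt φ''⟩
      have hψ : p.toAlgHom.comp ψ.1 = φ.1.comp (Ideal.Quotient.mkₐ k J) := by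
        rw [← hφ']
        rfl
      refine LinearMap.ext fun x => ?_
      obtain ⟨j, rfl⟩ := Submodule.Quotient.mk_surjective _ x
      refine Subtype.ext ((hg p hp φ ψ hψ j).trans ?_)
      change φ''.1 (Ideal.Quotient.mk J j) = 0
      rw [Ideal.Quotient.eq_zero_iff_mem.2 j.2, map_zero]
  · rw [LinearEquiv.symm_apply_eq]
    change _ = dualTensorHom k Q _ _
    rw [dualTensorHom_lTensor]
    rw [show dualTensorHom k Q _ ((dualTensorHomEquiv k Q _).symm (g p hp φ)) = g p hp φ from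
      (dualTensorHomEquiv k Q _).apply_symm_apply _]
    obtain ⟨ψ, hψ⟩ := hlift p hp.1 φ
    refine LinearMap.ext fun x => ?_
    obtain ⟨j, rfl⟩ := Submodule.Quotient.mk_surjective _ x
    refine Subtype.ext ?_
    rw [hg _ hq φ (HomSet.map (quotMk C' K hK) ψ) (by rw [← hψ]; rfl) j]
    exact congrArg (Ideal.Quotient.mk K) (hg p hp φ ψ hψ j).symm

/-- Transport of an obstruction theory along a smooth map of functors with trivial kernel on lifts. -/
def obsTheory_comap {F : Art k k ⥤ Type v} {G : Art k k ⥤ Type w} {V : Type u} [AddCommGroup V] [Module k V] (η : NatFam F G)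
    (hη : ∀ ⦃B A : Art k k⦄ (μ : B ⟶ A), Function.Surjective μ → η.Lifts μ) (T : ObsTheory G V) :
    ObsTheory F V where
  obs p hp u := T.obs p hp (η.app _ u)
  obs_eq_zero_iff {C' C} p hp u := by
    rw [T.obs_eq_zero_iff p hp (η.app _ u)]
    refine ⟨fun ⟨y, hy⟩ => ?_, fun ⟨u', hu'⟩ => ⟨η.app _ u', by rw [← η.natural, hu']⟩⟩
    obtain ⟨z, hz, -⟩ := hη p hp.1 u y hy
    exact ⟨z, hz⟩
  obs_quot p hp K hK hKJ hq u := T.obs_quot p hp K hK hKJ hq (η.app _ u)

end Functor

end Groth.Agent.ArtFunLib
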