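import Groth.Agent.ArtFunLib.ObsBounds
import Groth.Prelude.Def_W4bk4hartshdef114Obs

/-!
The bound on relations from an obstruction theory of a single algebra.
-/

universe u

open scoped TensorProduct

namespace Groth.Agent.ArtFunLib

open IsLocalRing

lemma isArtinianRing_of_pow {S C : Type u} [CommRing S] [IsLocalRing S] [IsNoetherianRing S]
    [CommRing C] [IsLocalRing C] (q : S →+* C) (hq : Function.Surjective q) (N : ℕ)
    (h : maximalIdeal S ^ N ≤ RingHom.ker q) : IsArtinianRing C := by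
  haveI : IsNoetherianRing C := isNoetherianRing_of_surjective S C q hq
  refine (isArtinianRing_iff_isNilpotent_maximalIdeal C).2 ⟨N, ?_⟩
  rw [← map_maximalIdeal_eq q hq, ← Ideal.map_pow, Ideal.zero_eq_bot, eq_bot_iff, Ideal.map_le_iff_le_comap]
  exact h

theorem spanFinrank_le_of_algObsTheory (k : Type u) [Field k] (P : Type u) [CommRing P]
    [IsLocalRing P] [IsNoetherianRing P] [Algebra k P]
    (hres : Function.Surjective (algebraMap k (ResidueField P))) (I : Ideal P)
    (hI : I ≤ maximalIdeal P ^ 2) (V : Type u) [AddCommGroup V] [Module k V] [Module.Finite k V]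
    (T : W4bk4hartshdef114.ObsTheory k (P ⧸ I) V) : I.spanFinrank ≤ Module.finrank k V := by
  obtain ⟨N, hN2, hN⟩ := exists_inf_pow_le (maximalIdeal P) I
  have hIm : I ≤ maximalIdeal P := hI.trans (Ideal.pow_le_self two_ne_zero)
  let L := maximalIdeal P * I ⊔ maximalIdeal P ^ N
  have hL : L ≤ maximalIdeal P := sup_le Ideal.mul_le_left (Ideal.pow_le_self (by omega))
  let q : P →ₐ[k] P ⧸ L := Ideal.Quotient.mkₐ k L
  have hq : Function.Surjective q := Ideal.Quotient.mk_surjective
  let M : Ideal (P ⧸ L) := I.map q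
  -- every proper quotient of `P ⧸ L` gives a small extension
  have hsmall : ∀ (C : Type u) [CommRing C] [Algebra k C] (χ : P →ₐ[k] C) (_ : Function.Surjective χ)
      (_ : L ≤ RingHom.ker χ) (_ : RingHom.ker χ ≤ maximalIdeal P),
      W4bk4hartshdef114.IsSmallExt k C (I.map χ) := by
    intro C _ _ χ hχ hLχ hχm
    haveI : Nontrivial C := by
      by_contra h
      rw [not_nontrivial_iff_subsingleton] at h
      exact (maximalIdeal.isMaximal P).ne_top ((Ideal.eq_top_iff_one _).2
        (hχm (RingHom.mem_ker.2 (Subsingleton.elim _ _))))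
    haveI : IsLocalRing C := IsLocalRing.of_surjective' χ.toRingHom hχ
    have hmap := map_maximalIdeal_eq χ.toRingHom hχ
    refine ⟨inferInstance, isArtinianRing_of_pow χ.toRingHom hχ N (le_sup_right.trans hLχ),
      fun x => ?_, fun x j hx hj => ?_, ?_⟩
    · obtain ⟨x, rfl⟩ := hχ x
      obtain ⟨c, hc⟩ := hres (residue P x)
      refine ⟨c, ?_⟩
      rw [← χ.commutes, ← map_sub]
      have h : x - algebraMap k P c ∈ maximalIdeal P :=
        Ideal.Quotient.eq.1 (hc.symm : residue P x = residue P (algebraMap k P c))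
      have h' : χ (x - algebraMap k P c) ∈ maximalIdeal C := hmap ▸ Ideal.mem_map_of_mem χ.toRingHom h
      exact h'
    · have hx' : x ∈ (maximalIdeal P).map χ.toRingHom := hmap.symm ▸ (show x ∈ maximalIdeal C from hx)
      have h := Ideal.mul_mem_mul hx' hj
      change x * j ∈ (maximalIdeal P).map χ.toRingHom * I.map χ.toRingHom at h
      rw [← Ideal.map_mul] at h
      exact ((Ideal.map_eq_bot_iff_le_ker _).2 (le_sup_left.trans hLχ)).le h
    · refine fun h => (maximalIdeal.isMaximal C).ne_top (top_le_iff.1 (h.ge.trans ?_))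
      rw [← hmap]
      exact Ideal.map_mono hIm
  let u : (P ⧸ I) →ₐ[k] (P ⧸ L) ⧸ M := Ideal.Quotient.liftₐ I ((Ideal.Quotient.mkₐ k M).comp q)
    fun i hi => Ideal.Quotient.eq_zero_iff_mem.2 (Ideal.mem_map_of_mem q hi)
  refine spanFinrank_le_of_obs I hI N hN (P ⧸ L) q hq (Ideal.Quotient.mkₐ_ker k L) M rfl
    (T.obs (P ⧸ L) M u) fun K hKM hcoord => ?_
  have h0 := T.obs_quot (P ⧸ L) M K (hsmall _ q hq (Ideal.Quotient.mkₐ_ker k L).ge
    ((Ideal.Quotient.mkₐ_ker k L).le.trans hL)) hKM u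
  have hz : LinearMap.lTensor V (W4bk4hartshdef114.idealToQuot k M K) (T.obs (P ⧸ L) M u) = 0 := by
    rw [eq_sum_coordOf (Module.finBasis k V) (T.obs (P ⧸ L) M u), map_sum]
    refine Finset.sum_eq_zero fun i _ => ?_
    rw [LinearMap.lTensor_tmul,
      show W4bk4hartshdef114.idealToQuot k M K (coordOf (Module.finBasis k V) (T.obs (P ⧸ L) M u) i) = 0
      from Subtype.ext (Ideal.Quotient.eq_zero_iff_mem.2 (hcoord i)), TensorProduct.tmul_zero]
  have hmapeq : M.map (Ideal.Quotient.mkₐ k K) = I.map ((Ideal.Quotient.mkₐ k K).comp q) :=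
    Ideal.map_map (f := q.toRingHom) (g := (Ideal.Quotient.mkₐ k K).toRingHom) (I := I)
  have hs : W4bk4hartshdef114.IsSmallExt k ((P ⧸ L) ⧸ K) (M.map (Ideal.Quotient.mkₐ k K)) := by
    rw [hmapeq]
    refine hsmall _ _ (Ideal.Quotient.mk_surjective.comp hq) (fun x hx => ?_) fun x hx => ?_
    · change Ideal.Quotient.mk K (Ideal.Quotient.mk L x) = 0
      rw [Ideal.Quotient.eq_zero_iff_mem.2 hx, map_zero]
    · obtain ⟨i, hi, hie⟩ := (Ideal.mem_map_iff_of_surjective q hq).1
        (hKM (Ideal.Quotient.eq_zero_iff_mem.1 hx))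
      rw [show x = i + (x - i) by ring]
      exact add_mem (hIm hi) (hL (Ideal.Quotient.eq.1 hie.symm))
  obtain ⟨u', hu'⟩ := (T.obs_eq_zero_iff _ _ hs _).1 (h0.trans hz)
  refine ⟨u'.comp (Ideal.Quotient.mkₐ k I), fun i hi => ?_, fun s => ?_⟩
  · change u' (Ideal.Quotient.mk I i) = 0
    rw [Ideal.Quotient.eq_zero_iff_mem.2 hi, map_zero]
  · exact Ideal.Quotient.eq.1 (congrArg (fun f : (P ⧸ I) →ₐ[k] _ => f (Ideal.Quotient.mk I s)) hu')

end Groth.Agent.ArtFunLib
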