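import Groth.Agent.ArtFunLib.Hull
import Groth.Agent.CAlg48.PowerSeriesAFS
import Mathlib.RingTheory.MvPowerSeries.Inverse
import Mathlib.RingTheory.MvPowerSeries.Equiv
import Mathlib.Tactic.LinearCombination

/-!
Power series rings over coefficient rings, their universal property, and smooth morphisms of
coefficient rings.
-/

universe u v

open CategoryTheory

namespace Groth.Agent.ArtFunLib

section Ring

open IsLocalRing MvPowerSeries

variable {σ : Type} [Finite σ] {C : Type u} [CommRing C] [IsLocalRing C]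

/-- The ideal generated by `m_C` and the variables. -/
noncomputable abbrev psMax (σ : Type) (C : Type u) [CommRing C] [IsLocalRing C] :
    Ideal (MvPowerSeries σ C) :=
  Ideal.map (algebraMap C (MvPowerSeries σ C)) (maximalIdeal C) ⊔ Ideal.span (Set.range MvPowerSeries.X)

omit [Finite σ] in
theorem mem_maximalIdeal_ps (f : MvPowerSeries σ C) :
    f ∈ maximalIdeal (MvPowerSeries σ C) ↔ constantCoeff f ∈ maximalIdeal C := by
  rw [mem_maximalIdeal, mem_maximalIdeal, mem_nonunits_iff, mem_nonunits_iff,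
    MvPowerSeries.isUnit_iff_constantCoeff]

omit [Finite σ] in
theorem psMax_le : psMax σ C ≤ maximalIdeal (MvPowerSeries σ C) := by
  refine sup_le (Ideal.map_le_iff_le_comap.2 fun c hc => ?_) (Ideal.span_le.2 ?_)
  · rw [Ideal.mem_comap, mem_maximalIdeal_ps, MvPowerSeries.algebraMap_apply, constantCoeff_C]
    simpa using hc
  · rintro _ ⟨i, rfl⟩
    rw [SetLike.mem_coe, mem_maximalIdeal_ps, constantCoeff_X]
    exact zero_mem _

omit [Finite σ] in
theorem coeff_mem_of_mem_psMax_pow : ∀ (N : ℕ) {f : MvPowerSeries σ C}, f ∈ psMax σ C ^ N →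
    ∀ α, coeff α f ∈ maximalIdeal C ^ (N - α.degree) := by
  classical
  intro N
  induction N with
  | zero => intro f _ α; simp
  | succ N ih =>
    intro f hf
    rw [pow_succ] at hf
    refine Submodule.mul_induction_on hf (fun a ha b hb α => ?_) fun a b ha hb α => ?_
    · rw [MvPowerSeries.coeff_mul]
      refine Ideal.sum_mem _ fun p hp => ?_
      rw [Finset.mem_antidiagonal] at hp
      have hdeg : α.degree = p.1.degree + p.2.degree := by rw [← hp, map_add]
      rcases Nat.eq_zero_or_pos p.2.degree with h0 | h0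
      · have h2 : p.2 = 0 := (Finsupp.degree_eq_zero_iff p.2).1 h0
        have hb0 : coeff p.2 b ∈ maximalIdeal C := by
          rw [h2, coeff_zero_eq_constantCoeff_apply]
          exact (mem_maximalIdeal_ps b).1 (psMax_le hb)
        have := Ideal.mul_mem_mul (ih ha p.1) hb0
        rw [← pow_succ] at this
        exact Ideal.pow_le_pow_right (by omega) this
      · exact Ideal.mul_mem_right _ _ (Ideal.pow_le_pow_right (by omega) (ih ha p.1))
    · rw [map_add]
      exact Ideal.add_mem _ (ha α) (hb α)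

theorem mem_psMax_pow {N : ℕ} {f : MvPowerSeries σ C}
    (h : ∀ α, α.degree < N → coeff α f ∈ maximalIdeal C ^ (N - α.degree)) : f ∈ psMax σ C ^ N := by
  classical
  rw [show f = (f - ((truncTotal N f : MvPolynomial σ C) : MvPowerSeries σ C)) +
    ((truncTotal N f : MvPolynomial σ C) : MvPowerSeries σ C) from (sub_add_cancel _ _).symm]
  refine Ideal.add_mem _ (Ideal.pow_right_mono le_sup_right N
    (CAlg48.PowerSeriesAFS.sub_truncTotal_mem f N)) ?_
  set p := truncTotal N f with hp
  rw [show ((p : MvPolynomial σ C) : MvPowerSeries σ C) = MvPolynomial.coeToMvPowerSeries.ringHom p from rfl,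
    p.as_sum, map_sum]
  refine Ideal.sum_mem _ fun α hα => ?_
  have hdeg : α.degree < N := by
    by_contra hlt
    exact MvPolynomial.mem_support_iff.1 hα (coeff_truncTotal_eq_zero _ (not_lt.1 hlt))
  have hc : MvPolynomial.coeff α p ∈ maximalIdeal C ^ (N - α.degree) := by
    rw [hp, coeff_truncTotal _ hdeg]
    exact h α hdeg
  rw [MvPolynomial.monomial_eq, map_mul, Finsupp.prod, map_prod]
  have e1 : MvPolynomial.coeToMvPowerSeries.ringHom (MvPolynomial.C (MvPolynomial.coeff α p)) ∈
      psMax σ C ^ (N - α.degree) := by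
    have := Ideal.mem_map_of_mem (algebraMap C (MvPowerSeries σ C)) hc
    rw [Ideal.map_pow] at this
    have h2 := Ideal.pow_right_mono (le_sup_left : _ ≤ psMax σ C) _ this
    simpa [MvPowerSeries.algebraMap_apply] using h2
  have e2 : ∏ i ∈ α.support, MvPolynomial.coeToMvPowerSeries.ringHom (MvPolynomial.X i ^ α i) ∈
      psMax σ C ^ α.degree := by
    rw [Finsupp.degree_apply, ← Finset.prod_pow_eq_pow_sum]
    refine Ideal.prod_mem_prod fun i _ => ?_
    rw [map_pow]
    refine Ideal.pow_mem_pow ?_ _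
    have hXmem : (MvPowerSeries.X i : MvPowerSeries σ C) ∈ psMax σ C :=
      Ideal.mem_sup_right (Ideal.subset_span ⟨i, rfl⟩)
    simpa using hXmem
  have := Ideal.mul_mem_mul e1 e2
  rwa [← pow_add, Nat.sub_add_cancel hdeg.le] at this

theorem maximalIdeal_ps_eq : maximalIdeal (MvPowerSeries σ C) = psMax σ C := by
  refine le_antisymm (fun f hf => ?_) psMax_le
  rw [← pow_one (psMax σ C)]
  refine mem_psMax_pow fun α hα => ?_
  have : α = 0 := (Finsupp.degree_eq_zero_iff α).1 (by omega)
  subst this
  rw [coeff_zero_eq_constantCoeff_apply]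
  simpa using (mem_maximalIdeal_ps f).1 hf

theorem isAdicComplete_ps [IsAdicComplete (maximalIdeal C) C] :
    IsAdicComplete (maximalIdeal (MvPowerSeries σ C)) (MvPowerSeries σ C) := by
  rw [maximalIdeal_ps_eq]
  refine { haus' := fun f hf => ?_, prec' := fun f hf => ?_ }
  · ext α
    rw [map_zero]
    refine IsHausdorff.haus (I := maximalIdeal C) inferInstance _ fun n => ?_
    rw [SModEq.zero, smul_eq_mul, Ideal.mul_top]
    have h1 := hf (n + α.degree)
    rw [SModEq.zero, smul_eq_mul, Ideal.mul_top] at h1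
    have h2 := coeff_mem_of_mem_psMax_pow _ h1 α
    rwa [Nat.add_sub_cancel] at h2
  · have hd : ∀ {m n}, m ≤ n → ∀ α, coeff α (f m) - coeff α (f n) ∈ maximalIdeal C ^ (m - α.degree) := by
      intro m n hmn α
      have h1 := hf hmn
      rw [SModEq.sub_mem, smul_eq_mul, Ideal.mul_top] at h1
      simpa using coeff_mem_of_mem_psMax_pow _ h1 α
    have hlim : ∀ α, ∃ L, ∀ n, coeff α (f (n + α.degree)) ≡ L [SMOD (maximalIdeal C ^ n • ⊤ : Submodule C C)] := by
      intro α
      refine IsPrecomplete.prec inferInstance fun {m n} hmn => ?_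
      rw [SModEq.sub_mem, smul_eq_mul, Ideal.mul_top]
      have := hd (Nat.add_le_add_right hmn α.degree) α
      rwa [Nat.add_sub_cancel] at this
    choose L hL using hlim
    refine ⟨fun α => L α, fun n => ?_⟩
    rw [SModEq.sub_mem, smul_eq_mul, Ideal.mul_top]
    refine mem_psMax_pow fun α hα => ?_
    have h1 := hL α (n - α.degree)
    rw [SModEq.sub_mem, smul_eq_mul, Ideal.mul_top, Nat.sub_add_cancel hα.le] at h1
    have e : ∀ β, coeff β (show MvPowerSeries σ C from fun α => L α) = L β := fun _ => rfl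
    rw [map_sub]
    exact (e α).symm ▸ h1

end Ring

open ArtFun ArtFun.Art IsLocalRing

variable {Λ k : Type u} [CommRing Λ] [Field k] [Algebra Λ k]

/-- The power series ring over a coefficient ring. -/
noncomputable def psRing (R : CRing Λ k) (n : ℕ) : CRing Λ k :=
  { carrier := MvPowerSeries (Fin n) R.carrier
    res :=
      { (R.res : R.carrier →+* k).comp MvPowerSeries.constantCoeff with
        commutes' := fun r => by
          change R.res (MvPowerSeries.constantCoeff (algebraMap Λ (MvPowerSeries (Fin n) R.carrier) r)) = _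
          rw [MvPowerSeries.algebraMap_apply, MvPowerSeries.constantCoeff_C, AlgHom.commutes] }
    res_surjective := fun c => by
      obtain ⟨a, ha⟩ := R.res_surjective c
      refine ⟨MvPowerSeries.C a, ?_⟩
      change R.res (MvPowerSeries.constantCoeff (MvPowerSeries.C a)) = c
      rw [MvPowerSeries.constantCoeff_C, ha]
    isAdicComplete := @isAdicComplete_ps _ _ _ _ _ R.isAdicComplete }

variable (R : CRing Λ k) (n : ℕ)

/-- The constants. -/
noncomputable def psC : R.carrier →ₐ[Λ] (psRing R n).carrier :=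
  IsScalarTower.toAlgHom Λ R.carrier (MvPowerSeries (Fin n) R.carrier)

/-- The variables. -/
noncomputable def psX (i : Fin n) : (psRing R n).carrier := MvPowerSeries.X i

lemma psC_res : (psRing R n).res.comp (psC R n) = R.res :=
  AlgHom.ext fun a => by
    change R.res (MvPowerSeries.constantCoeff (algebraMap R.carrier (MvPowerSeries (Fin n) R.carrier) a)) = R.res a
    rw [MvPowerSeries.algebraMap_apply, MvPowerSeries.constantCoeff_C]
    rfl

lemma psRing_res_apply (f : (psRing R n).carrier) :
    (psRing R n).res f = R.res (MvPowerSeries.constantCoeff (σ := Fin n) f) := rfl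

lemma psX_res (i : Fin n) : (psRing R n).res (psX R n i) = 0 := by
  rw [psRing_res_apply, psX, MvPowerSeries.constantCoeff_X, map_zero]

/-- Polynomials as power series. -/
noncomputable def psι : MvPolynomial (Fin n) R.carrier →ₐ[Λ] (psRing R n).carrier :=
  ((MvPolynomial.coeToMvPowerSeries.algHom R.carrier).restrictScalars Λ :
    MvPolynomial (Fin n) R.carrier →ₐ[Λ] MvPowerSeries (Fin n) R.carrier)

/-- The augmentation of the polynomial ring. -/
noncomputable def polyRes : MvPolynomial (Fin n) R.carrier →ₐ[Λ] k :=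
  (psRing R n).res.comp ((MvPolynomial.coeToMvPowerSeries.algHom R.carrier).restrictScalars Λ)

theorem isDense_psRing : IsDense (polyRes R n) (psRing R n) (psι R n) where
  res := rfl
  surj N x := by
    obtain ⟨f, rfl⟩ := Ideal.Quotient.mk_surjective x
    refine ⟨MvPowerSeries.truncTotal (R := R.carrier) (N + 1) f, Ideal.Quotient.eq.2 ?_⟩
    change _ ∈ maximalIdeal (MvPowerSeries (Fin n) R.carrier) ^ (N + 1)
    rw [maximalIdeal_ps_eq]
    have := Ideal.pow_right_mono (le_sup_right : _ ≤ psMax (Fin n) R.carrier) (N + 1)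
      (CAlg48.PowerSeriesAFS.sub_truncTotal_mem (σ := Fin n) (C := R.carrier) f (N + 1))
    have h2 := Ideal.neg_mem_iff _ |>.2 this
    rw [neg_sub] at h2
    exact h2
  ker N q hq := by
    have h1 : MvPolynomial.coeToMvPowerSeries.ringHom q ∈ maximalIdeal (MvPowerSeries (Fin n) R.carrier) ^ (N + 1) := by
      have := Ideal.Quotient.eq_zero_iff_mem.1 hq
      exact this
    rw [maximalIdeal_ps_eq] at h1
    have h2 := coeff_mem_of_mem_psMax_pow _ h1
    rw [q.as_sum]
    refine Ideal.sum_mem _ fun α _ => ?_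
    have hc := h2 α
    rw [MvPolynomial.coeToMvPowerSeries.ringHom_apply, MvPolynomial.coeff_coe] at hc
    have hCm : ∀ c ∈ maximalIdeal R.carrier, MvPolynomial.C c ∈ RingHom.ker (polyRes R n) := fun c hc => by
      change R.res (MvPowerSeries.constantCoeff (σ := Fin n)
        ((MvPolynomial.C c : MvPolynomial (Fin n) R.carrier) : MvPowerSeries (Fin n) R.carrier)) = 0
      rw [MvPolynomial.coe_C, MvPowerSeries.constantCoeff_C]
      exact (CRing.mem_maximalIdeal_iff R c).1 hc
    have hX : ∀ i, (MvPolynomial.X i : MvPolynomial (Fin n) R.carrier) ∈ RingHom.ker (polyRes R n) := fun i => by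
      change R.res (MvPowerSeries.constantCoeff (σ := Fin n)
        ((MvPolynomial.X i : MvPolynomial (Fin n) R.carrier) : MvPowerSeries (Fin n) R.carrier)) = 0
      rw [MvPolynomial.coe_X, MvPowerSeries.constantCoeff_X, map_zero]
    rw [MvPolynomial.monomial_eq]
    have e1 := apply_mem_pow (MvPolynomial.C (R := R.carrier) (σ := Fin n)) (maximalIdeal R.carrier)
      (RingHom.ker (polyRes R n)) hCm _ hc
    have e2 : (α.prod fun i e => (MvPolynomial.X i : MvPolynomial (Fin n) R.carrier) ^ e) ∈
        RingHom.ker (polyRes R n) ^ α.degree := by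
      rw [Finsupp.prod, Finsupp.degree_apply, ← Finset.prod_pow_eq_pow_sum]
      exact Ideal.prod_mem_prod fun i _ => Ideal.pow_mem_pow (hX i) _
    have := Ideal.mul_mem_mul e1 e2
    rw [← pow_add] at this
    exact Ideal.pow_le_pow_right (by omega) this

lemma psι_C (a : R.carrier) : psι R n (MvPolynomial.C a) = psC R n a :=
  (MvPolynomial.coeToMvPowerSeries.algHom (σ := Fin n) (R := R.carrier) R.carrier).commutes a

lemma psι_X (i : Fin n) : psι R n (MvPolynomial.X i) = psX R n i := by
  change (MvPolynomial.coeToMvPowerSeries.algHom (σ := Fin n) (R := R.carrier) R.carrier) (MvPolynomial.X i) = MvPowerSeries.X i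
  rw [MvPolynomial.coeToMvPowerSeries.algHom_apply, MvPolynomial.coe_X]
  exact MvPowerSeries.map_X _ i

variable {R n}

theorem psHomSet_ext {A : Art Λ k} {ψ₁ ψ₂ : HomSet (psRing R n).carrier (psRing R n).res A}
    (hC : ψ₁.1.comp (psC R n) = ψ₂.1.comp (psC R n)) (hX : ∀ i, ψ₁.1 (psX R n i) = ψ₂.1 (psX R n i)) :
    ψ₁ = ψ₂ := by
  refine (isDense_psRing R n).homSet_ext (AlgHom.ext fun p => ?_)
  induction p using MvPolynomial.induction_on with
  | C a =>
    have := congrArg (fun f : R.carrier →ₐ[Λ] A => f a) hC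
    simp only [AlgHom.comp_apply] at this ⊢
    rw [psι_C]
    exact this
  | add p q hp hq => rw [map_add, map_add, hp, hq]
  | mul_X p i hp =>
    rw [map_mul, map_mul, hp]
    congr 1
    rw [AlgHom.comp_apply, AlgHom.comp_apply, psι_X]
    exact hX i

theorem exists_psHomSet {A : Art Λ k} (φ : HomSet R.carrier R.res A) (b : Fin n → A)
    (hb : ∀ i, b i ∈ maximalIdeal A) :
    ∃ ψ : HomSet (psRing R n).carrier (psRing R n).res A,
      ψ.1.comp (psC R n) = φ.1 ∧ ∀ i, ψ.1 (psX R n i) = b i := by
  letI : Algebra R.carrier A := φ.1.toRingHom.toAlgebra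
  haveI : IsScalarTower Λ R.carrier A := IsScalarTower.of_algebraMap_eq fun r => (φ.1.commutes r).symm
  let χ : MvPolynomial (Fin n) R.carrier →ₐ[Λ] A := (MvPolynomial.aeval b).restrictScalars Λ
  have hχ : A.res.comp χ = polyRes R n := by
    refine AlgHom.ext fun p => ?_
    induction p using MvPolynomial.induction_on with
    | C a =>
      change A.res (MvPolynomial.aeval b (MvPolynomial.C a)) = R.res (MvPowerSeries.constantCoeff (σ := Fin n)
        ((MvPolynomial.C a : MvPolynomial (Fin n) R.carrier) : MvPowerSeries (Fin n) R.carrier))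
      rw [MvPolynomial.aeval_C, MvPolynomial.coe_C, MvPowerSeries.constantCoeff_C]
      exact congrArg (fun f : R.carrier →ₐ[Λ] k => f a) φ.2
    | add p q hp hq => rw [map_add, map_add, hp, hq]
    | mul_X p i hp =>
      rw [map_mul, map_mul, hp]
      congr 1
      change A.res (MvPolynomial.aeval b (MvPolynomial.X i)) = R.res (MvPowerSeries.constantCoeff (σ := Fin n)
        ((MvPolynomial.X i : MvPolynomial (Fin n) R.carrier) : MvPowerSeries (Fin n) R.carrier))
      rw [MvPolynomial.aeval_X, MvPolynomial.coe_X, MvPowerSeries.constantCoeff_X, map_zero]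
      exact (mem_maximalIdeal_iff A _).1 (hb i)
  obtain ⟨ψ, hψ⟩ := (isDense_psRing R n).exists_extend ⟨χ, hχ⟩
  refine ⟨ψ, AlgHom.ext fun a => ?_, fun i => ?_⟩
  · have := congrArg (fun f : MvPolynomial (Fin n) R.carrier →ₐ[Λ] A => f (MvPolynomial.C a)) hψ
    simp only [AlgHom.comp_apply, psι_C] at this
    exact this.trans (MvPolynomial.aeval_C _ _)
  · have := congrArg (fun f : MvPolynomial (Fin n) R.carrier →ₐ[Λ] A => f (MvPolynomial.X i)) hψ
    simp only [AlgHom.comp_apply, psι_X] at this
    exact this.trans (MvPolynomial.aeval_X _ _)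

theorem exists_psHom {T : CRing Λ k} (φ : R.carrier →ₐ[Λ] T.carrier) (hφ : T.res.comp φ = R.res)
    (b : Fin n → T.carrier) (hb : ∀ i, T.res (b i) = 0) :
    ∃ ψ : (psRing R n).carrier →ₐ[Λ] T.carrier,
      T.res.comp ψ = (psRing R n).res ∧ ψ.comp (psC R n) = φ ∧ ∀ i, ψ (psX R n i) = b i := by
  have h : ∀ N, ∃ ψ : HomSet (psRing R n).carrier (psRing R n).res (T.trunc N),
      ψ.1.comp (psC R n) = (T.truncHom N).1.comp φ ∧ ∀ i, ψ.1 (psX R n i) = (T.truncHom N).1 (b i) :=
    fun N => exists_psHomSet ⟨(T.truncHom N).1.comp φ, by rw [← AlgHom.comp_assoc, (T.truncHom N).2, hφ]⟩ _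
      fun i => homSet_mem_maximalIdeal T _ ((CRing.mem_maximalIdeal_iff T _).2 (hb i))
  choose ψ hψC hψX using h
  have hc : ∀ N, HomSet.map (T.truncMap N) (ψ (N + 1)) = ψ N := fun N => by
    refine psHomSet_ext (AlgHom.ext fun a => ?_) fun i => ?_
    · have e := congrArg (fun f : R.carrier →ₐ[Λ] (T.trunc (N + 1)) => f a) (hψC (N + 1))
      have e' := congrArg (fun f : R.carrier →ₐ[Λ] (T.trunc N) => f a) (hψC N)
      exact (congrArg (T.truncMap N).toAlgHom e).trans e'.symm
    · exact (congrArg (T.truncMap N).toAlgHom (hψX (N + 1) i)).trans (hψX N i).symm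
  obtain ⟨g, hg, hgn⟩ := exists_hom_of_compat ψ hc
  refine ⟨g, hg, eq_of_trunc_eq fun N => ?_, fun i => ?_⟩
  · rw [← AlgHom.comp_assoc, hgn, hψC]
  · haveI := T.isAdicComplete
    refine sub_eq_zero.1 (IsHausdorff.haus (I := maximalIdeal T.carrier) inferInstance _ fun N => ?_)
    rw [SModEq.zero, smul_eq_mul, Ideal.mul_top]
    refine Ideal.pow_le_pow_right N.le_succ (Ideal.Quotient.eq.1 ?_)
    exact (congrArg (fun f : (psRing R n).carrier →ₐ[Λ] (T.trunc N) => f (psX R n i)) (hgn N)).trans (hψX N i)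

theorem maximalIdeal_psRing :
    maximalIdeal (psRing R n).carrier =
      Ideal.map (psC R n) (maximalIdeal R.carrier) ⊔ Ideal.span (Set.range (psX R n)) :=
  maximalIdeal_ps_eq (σ := Fin n) (C := R.carrier)

/-- `h_{R[[X]]} → h_R` is smooth. -/
theorem isVersal_psRing :
    IsVersal ((Family.self R.carrier R.res).along (psC R n) (psC_res R n)) := by
  intro B A μ hμ φ y hy
  let y' : HomSet R.carrier R.res B := y
  choose b hb using fun i => hμ (φ.1 (psX R n i))
  have hbm : ∀ i, b i ∈ maximalIdeal B := fun i => by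
    rw [← apply_mem_maximalIdeal_iff μ, hb, mem_maximalIdeal_iff]
    exact (congrArg (fun f : (psRing R n).carrier →ₐ[Λ] k => f (psX R n i)) φ.2).trans (psX_res R n i)
  obtain ⟨ψ, hψC, hψX⟩ := exists_psHomSet (n := n) y' b hbm
  have hy' : μ.toAlgHom.comp y'.1 = φ.1.comp (psC R n) :=
    congrArg (fun t : HomSet R.carrier R.res A => t.1) hy
  refine ⟨ψ, psHomSet_ext ?_ fun i => ?_, Subtype.ext hψC⟩
  · change (μ.toAlgHom.comp ψ.1).comp (psC R n) = _
    rw [AlgHom.comp_assoc, hψC, hy']
  · change μ (ψ.1 (psX R n i)) = _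
    rw [hψX, hb]

/-- A surjection out of a power series ring is compatible with the augmentations. -/
theorem res_comp_of_surjective {S : CRing Λ k} (θ : (psRing R n).carrier →ₐ[Λ] S.carrier)
    (hθC : S.res.comp (θ.comp (psC R n)) = R.res) (hs : Function.Surjective θ) :
    S.res.comp θ = (psRing R n).res := by
  have hker : RingHom.ker θ ≤ maximalIdeal (psRing R n).carrier :=
    IsLocalRing.le_maximalIdeal (RingHom.ker_ne_top _)
  have hmax : Ideal.map θ (maximalIdeal (psRing R n).carrier) = maximalIdeal S.carrier :=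
    IsLocalRing.eq_maximalIdeal (Ideal.IsMaximal.map_of_surjective_of_ker_le hs hker)
  refine AlgHom.ext fun z => ?_
  obtain ⟨a, ha⟩ : ∃ a : R.carrier, R.res a = (psRing R n).res z := R.res_surjective _
  have hzm : z - psC R n a ∈ maximalIdeal (psRing R n).carrier := by
    rw [CRing.mem_maximalIdeal_iff, map_sub, CRing.res_comp_apply (psC R n) (psC_res R n), ha, sub_self]
  have h2 := Ideal.mem_map_of_mem θ hzm
  rw [hmax, CRing.mem_maximalIdeal_iff, map_sub, map_sub, sub_eq_zero] at h2
  rw [AlgHom.comp_apply, h2, ← ha, ← hθC]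
  rfl

variable {S : CRing Λ k}

/-- A family of relative generators of the cotangent space, irredundant. -/
theorem exists_rel_gens (f : R.carrier →ₐ[Λ] S.carrier) (hf : S.res.comp f = R.res) (K : Ideal S.carrier)
    (hK : K ≤ maximalIdeal S.carrier)
    (hgen : maximalIdeal S.carrier ≤ K ⊔ Ideal.map f (maximalIdeal R.carrier) ⊔ maximalIdeal S.carrier ^ 2) :
    ∃ (n : ℕ) (x : Fin n → S.carrier), (∀ i, x i ∈ K) ∧
      maximalIdeal S.carrier ≤ Ideal.span (Set.range x) ⊔ Ideal.map f (maximalIdeal R.carrier) ⊔ maximalIdeal S.carrier ^ 2 ∧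
      ∀ c : Fin n → S.carrier,
        ∑ i, c i * x i ∈ Ideal.map f (maximalIdeal R.carrier) ⊔ maximalIdeal S.carrier ^ 2 →
          ∀ i, c i ∈ maximalIdeal S.carrier := by
  classical
  let J := Ideal.map f (maximalIdeal R.carrier) ⊔ maximalIdeal S.carrier ^ 2
  let P : ℕ → Prop := fun n => ∃ x : Fin n → S.carrier, (∀ i, x i ∈ K) ∧
    maximalIdeal S.carrier ≤ Ideal.span (Set.range x) ⊔ J
  have hex : ∃ n, P n := by
    obtain ⟨s, hs⟩ := IsNoetherian.noetherian K
    refine ⟨s.card, fun i => (s.equivFin.symm i : S.carrier), fun i => ?_, ?_⟩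
    · rw [← hs]; exact Submodule.subset_span (s.equivFin.symm i).2
    · have : Set.range (fun i => (s.equivFin.symm i : S.carrier)) = (s : Set S.carrier) := by
        ext z
        exact ⟨fun ⟨i, hi⟩ => hi ▸ (s.equivFin.symm i).2, fun hz => ⟨s.equivFin ⟨z, hz⟩, by simp⟩⟩
      rw [this, ← sup_assoc, show Ideal.span (s : Set S.carrier) = K from hs]
      exact hgen
  obtain ⟨x, hxK, hx⟩ := Nat.find_spec hex
  refine ⟨_, x, hxK, by rwa [sup_assoc], fun c hc => ?_⟩
  by_contra hcm
  push Not at hcm
  obtain ⟨j, hj⟩ := hcm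
  obtain ⟨m, hm⟩ : ∃ m, Nat.find hex = m + 1 := ⟨Nat.find hex - 1, by have := j.isLt; omega⟩
  apply Nat.find_min hex (show m < Nat.find hex by omega)
  let ι : Fin m → Fin (Nat.find hex) := fun i => Fin.cast hm.symm ((Fin.cast hm j).succAbove i)
  refine ⟨fun i => x (ι i), fun i => hxK _, hx.trans (sup_le ?_ le_sup_right)⟩
  rw [Ideal.span_le]
  rintro _ ⟨l, rfl⟩
  have others : ∀ l, l ≠ j → x l ∈ Ideal.span (Set.range fun i => x (ι i)) := fun l hl => by
    obtain ⟨i, hi⟩ := Fin.exists_succAbove_eq (x := Fin.cast hm l) (y := Fin.cast hm j)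
      (fun h => hl (Fin.cast_injective _ h))
    exact Ideal.subset_span ⟨i, congrArg x (Fin.cast_injective hm (by simp [ι]; exact hi))⟩
  by_cases hl : l = j
  · subst hl
    obtain ⟨v, hv⟩ := (notMem_maximalIdeal.1 hj).exists_left_inv
    have h1 : c l * x l ∈ Ideal.span (Set.range fun i => x (ι i)) ⊔ J := by
      rw [show c l * x l = ∑ i, c i * x i - ∑ i ∈ Finset.univ.erase l, c i * x i by
        rw [← Finset.sum_erase_add _ _ (Finset.mem_univ l)]; ring]
      exact Ideal.sub_mem _ (Submodule.mem_sup_right hc)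
        (Submodule.mem_sup_left (Ideal.sum_mem _ fun i hi => Ideal.mul_mem_left _ _ (others i (Finset.ne_of_mem_erase hi))))
    have h2 := Ideal.mul_mem_left _ v h1
    rwa [← mul_assoc, hv, one_mul] at h2
  · exact Submodule.mem_sup_left (others l hl)

/-- A map from a power series ring hitting relative generators is surjective. -/
theorem surjective_psHom (f : R.carrier →ₐ[Λ] S.carrier) (hf : S.res.comp f = R.res)
    (θ : (psRing R n).carrier →ₐ[Λ] S.carrier) (hθ : S.res.comp θ = (psRing R n).res)
    (hθC : θ.comp (psC R n) = f) (x : Fin n → S.carrier) (hθX : ∀ i, θ (psX R n i) = x i)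
    (hgen : maximalIdeal S.carrier ≤ Ideal.span (Set.range x) ⊔ Ideal.map f (maximalIdeal R.carrier) ⊔ maximalIdeal S.carrier ^ 2) :
    Function.Surjective θ := by
  haveI := (psRing R n).isAdicComplete
  refine ((surjective_cotangent_tfae (psRing R n).res S.res (psRing R n).res_surjective
    (CRing.mem_maximalIdeal_iff _) (CRing.mem_maximalIdeal_iff S) θ hθ).out 0 1).2
    (le_antisymm (sup_le (Ideal.map_le_iff_le_comap.2 (CRing.maximalIdeal_le_comap θ hθ))
      (Ideal.pow_le_self two_ne_zero)) (hgen.trans (sup_le (sup_le ?_ ?_) le_sup_right)))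
  · refine Ideal.span_le.2 ?_
    rintro _ ⟨i, rfl⟩
    exact Submodule.mem_sup_left (hθX i ▸ Ideal.mem_map_of_mem θ
      ((CRing.mem_maximalIdeal_iff _ _).2 (psX_res R n i)))
  · refine Ideal.map_le_iff_le_comap.2 fun a ha => Submodule.mem_sup_left ?_
    rw [← hθC]
    exact Ideal.mem_map_of_mem θ (CRing.maximalIdeal_le_comap (psC R n) (psC_res R n) ha)

/-- An endomorphism of a coefficient ring congruent to the identity modulo `m_Λ` and `m²` in degree
one (relative to a base) is bijective. -/
theorem bijective_psEnd (χ : (psRing R n).carrier →ₐ[Λ] (psRing R n).carrier)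
    (hχ : (psRing R n).res.comp χ = (psRing R n).res)
    (hC : maximalIdeal R.carrier ≤ (Ideal.map χ (maximalIdeal (psRing R n).carrier) ⊔ maximalIdeal (psRing R n).carrier ^ 2).comap (psC R n))
    (hX : ∀ i, χ (psX R n i) - psX R n i ∈ Ideal.map (psC R n) (maximalIdeal R.carrier) ⊔ maximalIdeal (psRing R n).carrier ^ 2) :
    Function.Bijective χ := by
  haveI := (psRing R n).isAdicComplete
  let W := Ideal.map χ (maximalIdeal (psRing R n).carrier) ⊔ maximalIdeal (psRing R n).carrier ^ 2
  have hCle : Ideal.map (psC R n) (maximalIdeal R.carrier) ≤ W := Ideal.map_le_iff_le_comap.2 hC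
  have hs : Function.Surjective χ := by
    refine ((surjective_cotangent_tfae (psRing R n).res (psRing R n).res (psRing R n).res_surjective
      (CRing.mem_maximalIdeal_iff _) (CRing.mem_maximalIdeal_iff _) χ hχ).out 0 1).2
      (le_antisymm (sup_le (Ideal.map_le_iff_le_comap.2 (CRing.maximalIdeal_le_comap χ hχ))
        (Ideal.pow_le_self two_ne_zero)) ?_)
    refine (le_of_eq maximalIdeal_psRing).trans (sup_le hCle (Ideal.span_le.2 ?_))
    rintro _ ⟨i, rfl⟩
    rw [show psX R n i = χ (psX R n i) - (χ (psX R n i) - psX R n i) by ring]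
    exact Ideal.sub_mem W (Submodule.mem_sup_left (Ideal.mem_map_of_mem χ
      ((CRing.mem_maximalIdeal_iff _ _).2 (psX_res R n i)))) (sup_le hCle le_sup_right (hX i))
  exact ⟨injective_of_surjective_ringEnd χ.toRingHom hs, hs⟩

end Groth.Agent.ArtFunLib
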