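import Groth.Agent.ArtFunLib.Cmp
import Mathlib.CategoryTheory.Limits.Shapes.Pullback.IsPullback.Basic
import Mathlib.CategoryTheory.Limits.FunctorCategory.Basic
import Mathlib.CategoryTheory.Limits.Types.Pullbacks
import Mathlib.CategoryTheory.Limits.Types.Products

/-!
Elements of fibre products and products of functors of Artin rings.
-/

universe u v

open CategoryTheory CategoryTheory.Limits

namespace Groth.Agent.ArtFunLib

open ArtFun

variable {Λ k : Type u} [CommRing Λ] [Field k] [Algebra Λ k]

theorem pullback_elt {F G H : Art Λ k ⥤ Type v} (f : H ⟶ F) (g : G ⟶ F) (A : Art Λ k)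
    (a : H.obj A) (b : G.obj A) (h : f.app A a = g.app A b) :
    ∃ z : (pullback f g).obj A, (pullback.fst f g).app A z = a ∧ (pullback.snd f g).app A z = b := by
  have sq := (IsPullback.of_hasPullback f g).map ((evaluation _ _).obj A)
  exact CategoryTheory.Limits.Types.exists_of_isPullback sq a b h

theorem pullback_elt_ext {F G H : Art Λ k ⥤ Type v} (f : H ⟶ F) (g : G ⟶ F) (A : Art Λ k)
    {z₁ z₂ : (pullback f g).obj A} (h₁ : (pullback.fst f g).app A z₁ = (pullback.fst f g).app A z₂)
    (h₂ : (pullback.snd f g).app A z₁ = (pullback.snd f g).app A z₂) : z₁ = z₂ := by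
  have sq := (IsPullback.of_hasPullback f g).map ((evaluation _ _).obj A)
  exact CategoryTheory.Limits.Types.ext_of_isPullback sq h₁ h₂

theorem pullback_elt_cond {F G H : Art Λ k ⥤ Type v} (f : H ⟶ F) (g : G ⟶ F) (A : Art Λ k)
    (z : (pullback f g).obj A) :
    f.app A ((pullback.fst f g).app A z) = g.app A ((pullback.snd f g).app A z) := by
  change ((pullback.fst f g).app A ≫ f.app A) z = ((pullback.snd f g).app A ≫ g.app A) z
  rw [← NatTrans.comp_app, ← NatTrans.comp_app, pullback.condition]

end Groth.Agent.ArtFunLib
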