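import Groth.Agent.ArtFunLib.Hull

/-!
Pushouts of coefficient rings over an arbitrary algebra.
-/

universe u

open CategoryTheory

namespace Groth.Agent.ArtFunLib

open ArtFun ArtFun.Art IsLocalRing

variable {Λ k : Type u} [CommRing Λ] [Field k] [Algebra Λ k]

section

variable {R : Type u} [CommRing R] [Algebra Λ R] (S₁ S₂ : CRing Λ k)
  (f₁ : R →ₐ[Λ] S₁.carrier) (f₂ : R →ₐ[Λ] S₂.carrier)

/-- Pairs of points agreeing on `R`. -/
def pairFun : Art Λ k ⥤ Type u where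
  obj A := {p : HomSet S₁.carrier S₁.res A × HomSet S₂.carrier S₂.res A //
    p.1.1.comp f₁ = p.2.1.comp f₂}
  map {A B} g := ↾fun p => ⟨(HomSet.map g p.1.1, HomSet.map g p.1.2), by
    change (g.toAlgHom.comp p.1.1.1).comp f₁ = (g.toAlgHom.comp p.1.2.1).comp f₂
    rw [AlgHom.comp_assoc, AlgHom.comp_assoc, p.2]⟩
  map_id A := ConcreteCategory.hom_ext _ _ fun p => Subtype.ext (Prod.ext
    (Subtype.ext (AlgHom.ext fun _ => rfl)) (Subtype.ext (AlgHom.ext fun _ => rfl)))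
  map_comp g h := ConcreteCategory.hom_ext _ _ fun p => Subtype.ext (Prod.ext
    (Subtype.ext (AlgHom.ext fun _ => rfl)) (Subtype.ext (AlgHom.ext fun _ => rfl)))

lemma h0_pairFun (hf : S₁.res.comp f₁ = S₂.res.comp f₂) : H0 (pairFun S₁ S₂ f₁ f₂) :=
  ⟨⟨⟨(basePoint S₁.carrier S₁.res, basePoint S₂.carrier S₂.res), hf⟩⟩,
   ⟨fun x y => Subtype.ext (Prod.ext ((h0_hR S₁.carrier S₁.res).2.elim x.1.1 y.1.1)
    ((h0_hR S₂.carrier S₂.res).2.elim x.1.2 y.1.2))⟩⟩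

lemma isLeftExact_pairFun : IsLeftExact (pairFun S₁ S₂ f₁ f₂) := by
  intro B A A' A'' p' p'' g' g'' h
  refine ⟨(cmp_inj_iff _ h).2 fun z₁ z₂ e₁ e₂ => ?_, (cmp_surj_iff _ h).2 fun x y e => ?_⟩
  · refine Subtype.ext (Prod.ext ?_ ?_)
    · exact (cmp_inj_iff (hR S₁.carrier S₁.res) h).1 (isLeftExact_hR _ _ _ _ _ _ h).1 z₁.1.1 z₂.1.1
        (congrArg (fun t => t.1.1) e₁) (congrArg (fun t => t.1.1) e₂)
    · exact (cmp_inj_iff (hR S₂.carrier S₂.res) h).1 (isLeftExact_hR _ _ _ _ _ _ h).1 z₁.1.2 z₂.1.2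
        (congrArg (fun t => t.1.2) e₁) (congrArg (fun t => t.1.2) e₂)
  · obtain ⟨φ, hφ₁, hφ₂⟩ := exists_homSet_lift h x.1.1 y.1.1 (congrArg (fun t => t.1.1) e)
    obtain ⟨ψ, hψ₁, hψ₂⟩ := exists_homSet_lift h x.1.2 y.1.2 (congrArg (fun t => t.1.2) e)
    refine ⟨⟨(φ, ψ), AlgHom.ext fun r => h.inj _ _ ?_ ?_⟩,
      Subtype.ext (Prod.ext hφ₁ hψ₁), Subtype.ext (Prod.ext hφ₂ hψ₂)⟩
    · exact (congrArg (fun t : HomSet S₁.carrier S₁.res A' => t.1 (f₁ r)) hφ₁).trans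
        ((congrArg (fun t : R →ₐ[Λ] A' => t r) x.2).trans
        (congrArg (fun t : HomSet S₂.carrier S₂.res A' => t.1 (f₂ r)) hψ₁).symm)
    · exact (congrArg (fun t : HomSet S₁.carrier S₁.res A'' => t.1 (f₁ r)) hφ₂).trans
        ((congrArg (fun t : R →ₐ[Λ] A'' => t r) y.2).trans
        (congrArg (fun t : HomSet S₂.carrier S₂.res A'' => t.1 (f₂ r)) hψ₂).symm)

lemma seesDerivations_pairFun : SeesDerivations (pairFun S₁ S₂ f₁ f₂) := by
  intro x₀ σ e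
  refine hom_ext (AlgHom.ext fun c => ?_)
  obtain ⟨a, ha⟩ := S₁.res_surjective c
  have hφ : x₀.1.1.1 a = c := (congrArg (fun t : HomSet S₁.carrier S₁.res (base Λ k) => t.1 a)
    (eq_basePoint _ _ x₀.1.1)).trans ha
  have := congrArg (fun t => t.1.1.1 a) e
  exact (congrArg σ.toAlgHom hφ.symm).trans (this.trans
    (congrArg (baseToDual : base Λ k ⟶ dual Λ k).toAlgHom hφ))

lemma hfin_pairFun [IsNoetherianRing Λ] [Module.Finite Λ k] (hf : S₁.res.comp f₁ = S₂.res.comp f₂)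
    [TangentStr (pairFun S₁ S₂ f₁ f₂)] : Hfin (pairFun S₁ S₂ f₁ f₂) := by
  have h2 : Heps (pairFun S₁ S₂ f₁ f₂) := fun _ _ _ _ h => isLeftExact_pairFun S₁ S₂ f₁ f₂ _ _ _ _ h
  have hh : ∀ S : CRing Λ k, Heps (hR S.carrier S.res) := fun S _ _ _ _ h => isLeftExact_hR _ _ _ _ _ _ h
  obtain ⟨T₁⟩ := nonempty_tangentStr (hR S₁.carrier S₁.res) (h0_hR _ _) (hh S₁)
  obtain ⟨T₂⟩ := nonempty_tangentStr (hR S₂.carrier S₂.res) (h0_hR _ _) (hh S₂)
  let η₁ : NatFam (pairFun S₁ S₂ f₁ f₂) (hR S₁.carrier S₁.res) :=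
    { app := fun A p => p.1.1, natural := fun g p => rfl }
  let η₂ : NatFam (pairFun S₁ S₂ f₁ f₂) (hR S₂.carrier S₂.res) :=
    { app := fun A p => p.1.2, natural := fun g p => rfl }
  obtain ⟨l₁, hl₁⟩ := exists_tangentLinear (h0_pairFun S₁ S₂ f₁ f₂ hf) h2 η₁
  obtain ⟨l₂, hl₂⟩ := exists_tangentLinear (h0_pairFun S₁ S₂ f₁ f₂ hf) h2 η₂
  haveI : Module.Finite k (TangentSpace (hR S₁.carrier S₁.res)) :=
    hfin_hR S₁.res_surjective (CRing.mem_maximalIdeal_iff S₁)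
  haveI : Module.Finite k (TangentSpace (hR S₂.carrier S₂.res)) :=
    hfin_hR S₂.res_surjective (CRing.mem_maximalIdeal_iff S₂)
  refine Module.Finite.of_injective (l₁.prod l₂) fun x y e => ?_
  exact Subtype.ext (Prod.ext ((hl₁ x).symm.trans ((congrArg Prod.fst e).trans (hl₁ y)))
    ((hl₂ x).symm.trans ((congrArg Prod.snd e).trans (hl₂ y))))

variable [IsNoetherianRing Λ] [Module.Finite Λ k]

theorem exists_pushout_over (hf : S₁.res.comp f₁ = S₂.res.comp f₂) :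
    ∃ (P : CRing Λ k) (i₁ : S₁.carrier →ₐ[Λ] P.carrier) (i₂ : S₂.carrier →ₐ[Λ] P.carrier),
      P.res.comp i₁ = S₁.res ∧ P.res.comp i₂ = S₂.res ∧ i₁.comp f₁ = i₂.comp f₂ ∧
      ∀ (T : CRing Λ k) (g₁ : S₁.carrier →ₐ[Λ] T.carrier) (g₂ : S₂.carrier →ₐ[Λ] T.carrier),
        T.res.comp g₁ = S₁.res → T.res.comp g₂ = S₂.res → g₁.comp f₁ = g₂.comp f₂ →
          ∃! h : P.carrier →ₐ[Λ] T.carrier, T.res.comp h = P.res ∧ h.comp i₁ = g₁ ∧ h.comp i₂ = g₂ := by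
  have h0 := h0_pairFun S₁ S₂ f₁ f₂ hf
  have hle := isLeftExact_pairFun S₁ S₂ f₁ f₂
  have h2 : Heps (pairFun S₁ S₂ f₁ f₂) := fun _ _ _ _ h => hle _ _ _ _ h
  obtain ⟨Tt⟩ := nonempty_tangentStr (pairFun S₁ S₂ f₁ f₂) h0 h2
  obtain ⟨Q⟩ := isProrepresentable_of_conditions h0 (fun _ _ _ _ _ _ _ _ h _ => (hle _ _ _ _ h).2) h2
    (hfin_pairFun S₁ S₂ f₁ f₂ hf) (fun _ _ _ _ _ _ h _ => hle _ _ _ _ h)
    (seesDerivations_pairFun S₁ S₂ f₁ f₂)
  let P := Q.ring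
  let pt : ∀ n, (pairFun S₁ S₂ f₁ f₂).obj (P.trunc n) := fun n => Q.family.app _ (P.truncHom n)
  have hpt : ∀ n, (pairFun S₁ S₂ f₁ f₂).map (P.truncMap n) (pt (n + 1)) = pt n :=
    fun n => Q.family.toFormalElt.compat n
  obtain ⟨i₁, hi₁, hi₁n⟩ := exists_hom_of_compat (R := S₁) (S := P) (fun n => (pt n).1.1)
    (fun n => congrArg (fun t => t.1.1) (hpt n))
  obtain ⟨i₂, hi₂, hi₂n⟩ := exists_hom_of_compat (R := S₂) (S := P) (fun n => (pt n).1.2)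
    (fun n => congrArg (fun t => t.1.2) (hpt n))
  refine ⟨P, i₁, i₂, hi₁, hi₂, ?_, ?_⟩
  · haveI := P.isAdicComplete
    refine AlgHom.ext fun r => sub_eq_zero.1
      (IsHausdorff.haus (I := maximalIdeal P.carrier) inferInstance _ fun n => ?_)
    rw [SModEq.zero, smul_eq_mul, Ideal.mul_top]
    refine Ideal.pow_le_pow_right n.le_succ (Ideal.Quotient.eq.1 ?_)
    exact (congrArg (fun t : S₁.carrier →ₐ[Λ] (P.trunc n) => t (f₁ r)) (hi₁n n)).trans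
      ((congrArg (fun t : R →ₐ[Λ] (P.trunc n) => t r) (pt n).2).trans
      (congrArg (fun t : S₂.carrier →ₐ[Λ] (P.trunc n) => t (f₂ r)) (hi₂n n)).symm)
  intro T g₁ g₂ hg₁ hg₂ hg
  have hkey : ∀ (A : Art Λ k) (φ : HomSet P.carrier P.res A),
      (Q.family.app A φ).1.1.1 = φ.1.comp i₁ ∧ (Q.family.app A φ).1.2.1 = φ.1.comp i₂ := fun A φ => by
    obtain ⟨n, hn⟩ := exists_mpow_le_ker P φ
    rw [family_eq_truncFactor Q.family φ n hn]
    constructor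
    · change (truncFactor P φ n hn).toAlgHom.comp (pt n).1.1.1 = _
      rw [← hi₁n n]
      exact AlgHom.ext fun _ => rfl
    · change (truncFactor P φ n hn).toAlgHom.comp (pt n).1.2.1 = _
      rw [← hi₂n n]
      exact AlgHom.ext fun _ => rfl
  let tpt : ∀ n, (pairFun S₁ S₂ f₁ f₂).obj (T.trunc n) := fun n =>
    ⟨(⟨(T.truncHom n).1.comp g₁, by rw [← AlgHom.comp_assoc, (T.truncHom n).2, hg₁]⟩,
      ⟨(T.truncHom n).1.comp g₂, by rw [← AlgHom.comp_assoc, (T.truncHom n).2, hg₂]⟩), by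
      change ((T.truncHom n).1.comp g₁).comp f₁ = ((T.truncHom n).1.comp g₂).comp f₂
      rw [AlgHom.comp_assoc, AlgHom.comp_assoc, hg]⟩
  choose φ hφ using fun n => (Q.universal (T.trunc n)).2 (tpt n)
  obtain ⟨h, hh, hhn⟩ := exists_hom_of_compat (R := P) (S := T) φ fun n => (Q.universal _).1 (by
    rw [Q.family.natural, hφ, hφ]
    exact Subtype.ext (Prod.ext (Subtype.ext (AlgHom.ext fun _ => rfl))
      (Subtype.ext (AlgHom.ext fun _ => rfl))))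
  refine ⟨h, ⟨hh, eq_of_trunc_eq fun n => ?_, eq_of_trunc_eq fun n => ?_⟩, fun h' hh' => ?_⟩
  · rw [← AlgHom.comp_assoc, hhn, ← (hkey _ (φ n)).1, hφ n]
  · rw [← AlgHom.comp_assoc, hhn, ← (hkey _ (φ n)).2, hφ n]
  · obtain ⟨hh₀, hh₁, hh₂⟩ := hh'
    refine eq_of_trunc_eq fun n => ?_
    rw [hhn]
    let φ' : HomSet P.carrier P.res (T.trunc n) :=
      ⟨(T.truncHom n).1.comp h', by rw [← AlgHom.comp_assoc, (T.truncHom n).2, hh₀]⟩
    refine congrArg Subtype.val ((Q.universal _).1 (a₁ := φ') (a₂ := φ n) ?_)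
    rw [hφ n]
    refine Subtype.ext (Prod.ext (Subtype.ext ?_) (Subtype.ext ?_))
    · rw [(hkey _ φ').1]
      change ((T.truncHom n).1.comp h').comp i₁ = _
      rw [AlgHom.comp_assoc, hh₁]
    · rw [(hkey _ φ').2]
      change ((T.truncHom n).1.comp h').comp i₂ = _
      rw [AlgHom.comp_assoc, hh₂]

end

end Groth.Agent.ArtFunLib
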