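import Groth.Agent.ArtFunLib.Cotangent
import Groth.Agent.RegLoc.AdicNoeth
import Groth.Prelude.Def_CAlgX
import Mathlib.RingTheory.MvPolynomial.Basic
import Mathlib.Algebra.MvPolynomial.Eval

/-!
Formally smooth coefficient rings: completions of augmented algebras, and the equivalence between
smoothness of `h_R` and adic formal smoothness.
-/

universe u v

open CategoryTheory

namespace Groth.Agent.ArtFunLib

open ArtFun ArtFun.Art IsLocalRing

variable {Λ k : Type u} [CommRing Λ] [Field k] [Algebra Λ k]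

/-- Factor a map through a surjection. -/
theorem exists_algHom_factor {Q B A : Type*} [CommRing Q] [CommRing B] [CommRing A] [Algebra Λ Q]
    [Algebra Λ B] [Algebra Λ A] {f : Q →ₐ[Λ] B} (hf : Function.Surjective f) (g : Q →ₐ[Λ] A)
    (h : RingHom.ker f ≤ RingHom.ker g) : ∃ l : B →ₐ[Λ] A, ∀ q, l (f q) = g q := by
  let e := Ideal.quotientKerAlgEquivOfSurjective hf
  refine ⟨(Ideal.Quotient.liftₐ (RingHom.ker f) g fun a ha => h ha).comp e.symm.toAlgHom,
    fun q => ?_⟩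
  rw [show f q = e (Ideal.Quotient.mk _ q) from rfl]
  change Ideal.Quotient.liftₐ (RingHom.ker f) g (fun a ha => h ha) (e.symm (e _)) = _
  rw [AlgEquiv.symm_apply_apply]
  rfl

section Dense

variable {Q : Type u} [CommRing Q] [Algebra Λ Q] {resQ : Q →ₐ[Λ] k}

theorem isMaximal_ker (hres : Function.Surjective resQ) : (RingHom.ker resQ).IsMaximal :=
  RingHom.ker_isMaximal_of_surjective (resQ : Q →+* k) hres

/-- An Artinian quotient of an augmented Noetherian algebra. -/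
theorem exists_artQuot [IsNoetherianRing Q] (hres : Function.Surjective resQ) (K : Ideal Q)
    (hK : K ≤ RingHom.ker resQ) (N : ℕ) (hN : RingHom.ker resQ ^ N ≤ K) :
    ∃ (A : Art Λ k) (π : Q →ₐ[Λ] A),
      Function.Surjective π ∧ RingHom.ker π = K ∧ A.res.comp π = resQ := by
  haveI := isMaximal_ker hres
  haveI : Nontrivial (Q ⧸ K) := Ideal.Quotient.nontrivial_iff.2 fun h =>
    (isMaximal_ker hres).ne_top (top_le_iff.1 (h ▸ hK))
  have hmax : ((RingHom.ker resQ).map (Ideal.Quotient.mk K)).IsMaximal :=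
    Ideal.IsMaximal.map_of_surjective_of_ker_le Ideal.Quotient.mk_surjective
      (by rw [Ideal.mk_ker]; exact hK)
  have hpow : (RingHom.ker resQ).map (Ideal.Quotient.mk K) ^ N = ⊥ := by
    rw [← Ideal.map_pow, Ideal.map_eq_bot_iff_le_ker, Ideal.mk_ker]
    exact hN
  haveI : IsLocalRing (Q ⧸ K) := IsLocalRing.of_unique_max_ideal ⟨_, hmax, fun M hM => by
    refine (hmax.eq_of_le hM.ne_top ?_).symm
    exact fun x hx => hM.isPrime.mem_of_pow_mem N (by
      have := Ideal.pow_mem_pow hx N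
      rw [hpow, Ideal.mem_bot] at this
      rw [this]; exact M.zero_mem)⟩
  haveI : IsArtinianRing (Q ⧸ K) := by
    rw [isArtinianRing_iff_isNilpotent_maximalIdeal, ← IsLocalRing.eq_maximalIdeal hmax]
    exact ⟨N, hpow⟩
  refine ⟨Art.of (Q ⧸ K) (Ideal.Quotient.liftₐ K resQ fun a ha => hK ha) (fun c => ?_),
    Ideal.Quotient.mkₐ Λ K, Ideal.Quotient.mkₐ_surjective Λ K, Ideal.Quotient.mkₐ_ker Λ K,
    Ideal.Quotient.liftₐ_comp _ _ _⟩
  obtain ⟨a, rfl⟩ := hres c
  exact ⟨Ideal.Quotient.mk K a, rfl⟩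

variable (resQ) in
/-- `ι : Q → P` identifies every truncation of `P` with `Q` modulo a power of its augmentation
ideal. -/
structure IsDense (P : CRing Λ k) (ι : Q →ₐ[Λ] P.carrier) : Prop where
  res : P.res.comp ι = resQ
  surj : ∀ n, Function.Surjective ((P.truncHom n).1.comp ι)
  ker : ∀ n, RingHom.ker ((P.truncHom n).1.comp ι) ≤ RingHom.ker resQ ^ (n + 1)

variable {P : CRing Λ k} {ι : Q →ₐ[Λ] P.carrier}

theorem exists_pow_le_ker_homSet {A : Art Λ k} (φ : HomSet Q resQ A) :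
    ∃ n, RingHom.ker resQ ^ (n + 1) ≤ RingHom.ker φ.1 := by
  obtain ⟨n, hn⟩ := maximalIdeal_pow_eq_bot A
  refine ⟨n, fun a ha => RingHom.mem_ker.2 ?_⟩
  have := apply_mem_pow φ.1 (RingHom.ker resQ) (maximalIdeal A) (fun b hb => by
    rw [mem_maximalIdeal_iff]
    exact (congrArg (fun f : Q →ₐ[Λ] k => f b) φ.2).trans hb) _ ha
  rwa [hn, Ideal.mem_bot] at this

theorem IsDense.exists_extend (h : IsDense resQ P ι) {A : Art Λ k} (φ : HomSet Q resQ A) :
    ∃ ψ : HomSet P.carrier P.res A, ψ.1.comp ι = φ.1 := by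
  obtain ⟨n, hn⟩ := exists_pow_le_ker_homSet φ
  let c := (P.truncHom n).1.comp ι
  obtain ⟨g, hg⟩ := exists_algHom_factor (f := c) (h.surj n) φ.1 (fun a ha => hn (h.ker n ha))
  refine ⟨⟨g.comp (P.truncHom n).1, AlgHom.ext fun a => ?_⟩, AlgHom.ext hg⟩
  obtain ⟨q, hq⟩ := h.surj n ((P.truncHom n).1 a)
  change A.res (g ((P.truncHom n).1 a)) = P.res a
  rw [← hq, hg]
  have e₁ : A.res (φ.1 q) = resQ q := congrArg (fun f : Q →ₐ[Λ] k => f q) φ.2
  have e₂ : P.res (ι q) = resQ q := congrArg (fun f : Q →ₐ[Λ] k => f q) h.res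
  rw [e₁, ← e₂]
  exact congrArg (P.trunc n).res hq

theorem IsDense.homSet_ext (h : IsDense resQ P ι) {A : Art Λ k}
    {ψ₁ ψ₂ : HomSet P.carrier P.res A} (he : ψ₁.1.comp ι = ψ₂.1.comp ι) : ψ₁ = ψ₂ := by
  obtain ⟨n₁, h₁⟩ := exists_mpow_le_ker P ψ₁
  obtain ⟨n₂, h₂⟩ := exists_mpow_le_ker P ψ₂
  refine Subtype.ext (AlgHom.ext fun a => ?_)
  obtain ⟨q, hq⟩ := h.surj (max n₁ n₂) ((P.truncHom (max n₁ n₂)).1 a)
  have hd : ι q - a ∈ CRing.mpow P (max n₁ n₂) := Ideal.Quotient.eq.1 hq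
  have d₁ : ψ₁.1 (ι q - a) = 0 := h₁ (Ideal.pow_le_pow_right (by omega) hd)
  have d₂ : ψ₂.1 (ι q - a) = 0 := h₂ (Ideal.pow_le_pow_right (by omega) hd)
  rw [map_sub, sub_eq_zero] at d₁ d₂
  rw [← d₁, ← d₂]
  exact congrArg (fun f : Q →ₐ[Λ] A => f q) he

theorem IsDense.isSmoothFunctor (h : IsDense resQ P ι) (hQ : IsSmoothFunctor (hR Q resQ)) :
    IsSmoothFunctor (hR P.carrier P.res) := fun B A μ hμ ψ => by
  let ψ' : HomSet P.carrier P.res A := ψ
  obtain ⟨φ, hφ⟩ := hQ μ hμ ⟨ψ'.1.comp ι, by rw [← AlgHom.comp_assoc, ψ'.2, h.res]⟩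
  obtain ⟨ψ₁, hψ₁⟩ := h.exists_extend φ
  refine ⟨ψ₁, h.homSet_ext ?_⟩
  change (μ.toAlgHom.comp ψ₁.1).comp ι = ψ'.1.comp ι
  rw [AlgHom.comp_assoc, hψ₁]
  exact congrArg Subtype.val hφ

/-- The completion of an augmented Noetherian algebra at its augmentation ideal. -/
theorem exists_dense [IsNoetherianRing Q] (hres : Function.Surjective resQ) :
    ∃ (P : CRing Λ k) (ι : Q →ₐ[Λ] P.carrier), IsDense resQ P ι := by
  let 𝔫 : Ideal Q := RingHom.ker resQ
  haveI : 𝔫.IsMaximal := isMaximal_ker hres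
  have fg : 𝔫.FG := IsNoetherian.noetherian _
  let C := AdicCompletion 𝔫 Q
  haveI : ((𝔫.map (algebraMap Q C))).IsMaximal :=
    AdicCompletion.isMaximal_map_of_le _ _ le_rfl fg
  haveI : IsAdicComplete (𝔫.map (algebraMap Q C)) C := AdicCompletion.isAdicComplete_self _ fg
  haveI : IsLocalRing C := isLocalRing_of_isAdicComplete_maximal (𝔫.map (algebraMap Q C))
  haveI : IsNoetherianRing C :=
    Groth.Agent.RegLoc.AdicNoeth.isNoetherianRing_adicCompletion 𝔫 fg
  have hmax : maximalIdeal C = 𝔫.map (algebraMap Q C) := (IsLocalRing.eq_maximalIdeal ‹_›).symm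
  have hmem : ∀ (n : ℕ) (x : C), x ∈ maximalIdeal C ^ n ↔ AdicCompletion.eval 𝔫 Q n x = 0 := by
    intro n x
    rw [hmax, ← Ideal.map_pow, ← Submodule.restrictScalars_mem Q, ← Ideal.smul_top_eq_map,
      AdicCompletion.pow_smul_top_eq_ker_eval fg, LinearMap.mem_ker]
  let res : C →ₐ[Λ] k := (Ideal.Quotient.liftₐ 𝔫 resQ fun a ha => ha).comp
    ((AdicCompletion.evalOneₐ 𝔫).restrictScalars Λ)
  have hι : ∀ q, res (algebraMap Q C q) = resQ q := fun q => by
    change (Ideal.Quotient.liftₐ 𝔫 resQ fun a ha => ha)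
      (AdicCompletion.evalOneₐ 𝔫 (algebraMap Q C q)) = _
    rw [AlgHom.commutes]
    rfl
  refine ⟨{ carrier := C
            res := res
            res_surjective := fun c => by
              obtain ⟨a, rfl⟩ := hres c
              exact ⟨algebraMap Q C a, hι a⟩
            isAdicComplete := by rw [hmax]; infer_instance },
    (Algebra.ofId Q C).restrictScalars Λ, ⟨AlgHom.ext hι, fun n x => ?_, fun n q hq => ?_⟩⟩
  · obtain ⟨x, rfl⟩ := Ideal.Quotient.mk_surjective x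
    obtain ⟨q, hq⟩ := Submodule.Quotient.mk_surjective _ (AdicCompletion.eval 𝔫 Q (n + 1) x)
    refine ⟨q, Ideal.Quotient.eq.2 ((hmem _ _).2 ?_)⟩
    rw [map_sub, ← hq, sub_eq_zero]
    rfl
  · have h1 : algebraMap Q C q ∈ maximalIdeal C ^ (n + 1) := Ideal.Quotient.eq_zero_iff_mem.1 hq
    rw [hmem] at h1
    have h2 : q ∈ (𝔫 ^ (n + 1) • ⊤ : Submodule Q Q) := (Submodule.Quotient.mk_eq_zero _).1 h1
    rwa [Ideal.smul_eq_mul, Ideal.mul_top] at h2

end Dense

theorem isSmoothFunctor_hR_mvPolynomial {σ : Type u} (res : MvPolynomial σ Λ →ₐ[Λ] k) :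
    IsSmoothFunctor (hR (MvPolynomial σ Λ) res) := fun B A μ hμ φ => by
  let φ' : HomSet (MvPolynomial σ Λ) res A := φ
  choose b hb using fun i => hμ (φ'.1 (MvPolynomial.X i))
  refine ⟨(⟨MvPolynomial.aeval b, MvPolynomial.algHom_ext fun i => ?_⟩ :
      HomSet (MvPolynomial σ Λ) res B),
    Subtype.ext (MvPolynomial.algHom_ext fun i => ?_)⟩
  · change B.res (MvPolynomial.aeval b (MvPolynomial.X i)) = _
    rw [MvPolynomial.aeval_X, ← res_app μ, hb]
    exact congrArg (fun f : MvPolynomial σ Λ →ₐ[Λ] k => f (MvPolynomial.X i)) φ'.2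
  · change μ (MvPolynomial.aeval b (MvPolynomial.X i)) = _
    rw [MvPolynomial.aeval_X, hb]

section Adic

variable [IsNoetherianRing Λ] [Module.Finite Λ k] (R : CRing Λ k)

omit [IsNoetherianRing Λ] [Module.Finite Λ k] in
theorem isSmoothFunctor_of_isAdicFormallySmooth
    (h : CAlgX.IsAdicFormallySmooth Λ R.carrier (maximalIdeal R.carrier)) :
    IsSmoothFunctor (hR R.carrier R.res) := by
  refine isSmoothFunctor_of_smallExt fun B A μ hμ φ => ?_
  let φ' : HomSet R.carrier R.res A := φ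
  let e := Ideal.quotientKerAlgEquivOfSurjective hμ.1
  have hJ : (RingHom.ker μ.toAlgHom) ^ 2 = ⊥ := le_bot_iff.1 (by
    rw [pow_two, ← hμ.2.2.2]
    exact Ideal.mul_mono_left (ker_le_maximalIdeal μ))
  obtain ⟨n, hn⟩ := exists_mpow_le_ker R φ'
  obtain ⟨χ, hχ⟩ := h B (RingHom.ker μ.toAlgHom) hJ (e.symm.toAlgHom.comp φ'.1)
    ⟨n + 1, fun x hx => by
      rw [AlgHom.comp_apply, show φ'.1 x = 0 from hn hx, map_zero]⟩
  have hχ' : μ.toAlgHom.comp χ = φ'.1 := by
    ext r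
    have := congrArg (fun f : R.carrier →ₐ[Λ] _ => e (f r)) hχ
    simp only [AlgHom.comp_apply, AlgEquiv.coe_algHom, AlgEquiv.apply_symm_apply] at this
    exact this
  refine ⟨(⟨χ, ?_⟩ : HomSet R.carrier R.res B), Subtype.ext hχ'⟩
  rw [← μ.res_comp, AlgHom.comp_assoc, hχ', φ'.2]

theorem isAdicFormallySmooth_of_isSmoothFunctor (h : IsSmoothFunctor (hR R.carrier R.res)) :
    CAlgX.IsAdicFormallySmooth Λ R.carrier (maximalIdeal R.carrier) := by
  classical
  intro A _ _ J hJ ψ ⟨m, hm⟩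
  haveI := module_finite (R.trunc m)
  obtain ⟨s, hs⟩ := Module.Finite.fg_top (R := Λ) (M := R.trunc m)
  let π : MvPolynomial s Λ →ₐ[Λ] R.trunc m := MvPolynomial.aeval fun i => (i : R.trunc m)
  have hπ : Function.Surjective π := fun x => by
    have : x ∈ Submodule.span Λ (s : Set (R.trunc m)) := hs ▸ Submodule.mem_top
    induction this using Submodule.span_induction with
    | mem c hc => exact ⟨MvPolynomial.X ⟨c, hc⟩, MvPolynomial.aeval_X _ _⟩
    | zero => exact ⟨0, map_zero π⟩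
    | add a b _ _ ha hb =>
      obtain ⟨l₁, e₁⟩ := ha
      obtain ⟨l₂, e₂⟩ := hb
      exact ⟨l₁ + l₂, by rw [map_add, e₁, e₂]⟩
    | smul c a _ ha =>
      obtain ⟨l, e₁⟩ := ha
      exact ⟨c • l, by rw [map_smul, e₁]⟩
  let resQ := (R.trunc m).res.comp π
  have hresQ : Function.Surjective resQ := (R.trunc m).res_surjective.comp hπ
  obtain ⟨N, hN⟩ := maximalIdeal_pow_eq_bot (R.trunc m)
  have hK : RingHom.ker resQ ^ (N + 1) ≤ RingHom.ker π := fun q hq => by
    have := apply_mem_pow π (RingHom.ker resQ) (maximalIdeal (R.trunc m))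
      (fun b hb => (mem_maximalIdeal_iff _ _).2 hb) _ hq
    rwa [hN, Ideal.mem_bot] at this
  obtain ⟨E, q, hq, hqk, hqr⟩ := exists_artQuot hresQ (RingHom.ker π ^ 2)
    (le_trans (Ideal.pow_le_self two_ne_zero)
      fun a ha => (congrArg (R.trunc m).res ha).trans (map_zero _))
    ((N + 1) * 2) (by rw [pow_mul]; exact Ideal.pow_right_mono hK 2)
  obtain ⟨p, hp⟩ := exists_algHom_factor hq π (fun a ha => by
    rw [hqk] at ha
    exact Ideal.pow_le_self two_ne_zero ha)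
  let pE : E ⟶ R.trunc m := ⟨p, AlgHom.ext fun x => by
    obtain ⟨a, rfl⟩ := hq x
    exact (congrArg (R.trunc m).res (hp a)).trans
      (congrArg (fun f : MvPolynomial s Λ →ₐ[Λ] k => f a) hqr).symm⟩
  obtain ⟨φ, hφ⟩ := h pE (fun x => by obtain ⟨a, rfl⟩ := hπ x; exact ⟨q a, hp a⟩) (R.truncHom m)
  let φ' : HomSet R.carrier R.res E := φ
  let ψb : R.trunc m →ₐ[Λ] A ⧸ J :=
    Ideal.Quotient.liftₐ (CRing.mpow R m) ψ fun a ha => hm a (Ideal.pow_le_pow_right m.le_succ ha)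
  choose a ha using fun i : s => Ideal.Quotient.mk_surjective (ψb (i : R.trunc m))
  let g : MvPolynomial s Λ →ₐ[Λ] A := MvPolynomial.aeval a
  have hg : (Ideal.Quotient.mkₐ Λ J).comp g = ψb.comp π := MvPolynomial.algHom_ext fun i => by
    simp only [AlgHom.comp_apply, g, π, MvPolynomial.aeval_X]
    exact ha i
  have hgK : (RingHom.ker π).map g ≤ J := Ideal.map_le_iff_le_comap.2 fun x hx => by
    have := congrArg (fun f : MvPolynomial s Λ →ₐ[Λ] A ⧸ J => f x) hg
    rw [AlgHom.comp_apply, AlgHom.comp_apply, show π x = 0 from hx, map_zero] at this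
    rw [Ideal.mem_comap]
    exact Ideal.Quotient.eq_zero_iff_mem.1 this
  obtain ⟨gE, hgE⟩ := exists_algHom_factor hq g (fun x hx => by
    rw [hqk] at hx
    have h1 := Ideal.mem_map_of_mem g hx
    rw [Ideal.map_pow] at h1
    exact Ideal.mem_bot.1 (hJ ▸ Ideal.pow_right_mono hgK 2 h1))
  refine ⟨gE.comp φ'.1, AlgHom.ext fun r => ?_⟩
  obtain ⟨x, hx⟩ := hq (φ'.1 r)
  change Ideal.Quotient.mkₐ Λ J (gE (φ'.1 r)) = ψ r
  rw [← hx, hgE]
  refine (congrArg (fun f : MvPolynomial s Λ →ₐ[Λ] A ⧸ J => f x) hg).trans ?_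
  have h3 : π x = (R.truncHom m).1 r := by
    rw [← hp x, hx]
    exact congrArg (fun t : HomSet R.carrier R.res (R.trunc m) => t.1 r) hφ
  exact (congrArg ψb h3).trans rfl

end Adic

end Groth.Agent.ArtFunLib

namespace Groth.Agent.ArtFunLib

open ArtFun ArtFun.Art IsLocalRing

variable {Λ k : Type u} [CommRing Λ] [Field k] [Algebra Λ k]

/-- A finitely generated polynomial algebra with a surjective augmentation to `k`. -/
theorem exists_mvPolynomial_augmentation [Module.Finite Λ k] :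
    ∃ (σ : Type u) (_ : Finite σ) (res : MvPolynomial σ Λ →ₐ[Λ] k), Function.Surjective res := by
  classical
  obtain ⟨s, hs⟩ := Module.Finite.fg_top (R := Λ) (M := k)
  refine ⟨s, inferInstance, MvPolynomial.aeval fun i : s => (i : k), fun x => ?_⟩
  have : x ∈ Submodule.span Λ (s : Set k) := hs ▸ Submodule.mem_top
  induction this using Submodule.span_induction with
  | mem c hc => exact ⟨MvPolynomial.X ⟨c, hc⟩, MvPolynomial.aeval_X _ _⟩
  | zero => exact ⟨0, map_zero _⟩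
  | add a b _ _ ha hb =>
    obtain ⟨l₁, e₁⟩ := ha
    obtain ⟨l₂, e₂⟩ := hb
    exact ⟨l₁ + l₂, by rw [map_add, e₁, e₂]⟩
  | smul c a _ ha =>
    obtain ⟨l, e₁⟩ := ha
    exact ⟨c • l, by rw [map_smul, e₁]⟩

theorem isSmoothFunctor_iff_hR {R : CRing Λ k} {F : Art Λ k ⥤ Type v}
    {ξ : Family R.carrier R.res F} (hξ : IsVersal ξ) [Subsingleton (F.obj (base Λ k))] :
    IsSmoothFunctor F ↔ IsSmoothFunctor (hR R.carrier R.res) := by
  have hs := surjective_app_of_versal hξ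
  refine ⟨fun h B A μ hμ φ => ?_, fun h B A μ hμ y => ?_⟩
  · let φ' : HomSet R.carrier R.res A := φ
    obtain ⟨y, hy⟩ := h μ hμ (ξ.app A φ')
    obtain ⟨ψ, hψ, -⟩ := hξ μ hμ φ' y hy
    exact ⟨ψ, hψ⟩
  · obtain ⟨φ, rfl⟩ := hs A y
    obtain ⟨ψ, hψ⟩ := h μ hμ φ
    let ψ' : HomSet R.carrier R.res B := ψ
    exact ⟨ξ.app B ψ', (ξ.natural μ ψ').symm.trans (congrArg (ξ.app A) hψ)⟩

end Groth.Agent.ArtFunLib
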