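import Groth.Agent.ArtFunLib.Hull
import Groth.Agent.S12644
import Mathlib.RingTheory.MvPolynomial.EulerIdentity
import Mathlib.RingTheory.MvPolynomial.Homogeneous
import Mathlib.Algebra.MvPolynomial.PDeriv
import Mathlib.Tactic.LinearCombination

/-!
In characteristic zero a coefficient ring with enough derivations is a power series ring, hence its
functor is smooth (the `T¹`-lifting criterion).
-/

universe u v

open CategoryTheory

namespace Groth.Agent.ArtFunLib

open ArtFun ArtFun.Art IsLocalRing MvPolynomial

variable {k : Type u} [Field k]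

theorem aeval_mem_pow {σ : Type*} {S : Type*} [CommRing S] [Algebra k S] (y : σ → S) (I : Ideal S)
    (hy : ∀ j, y j ∈ I) {p : MvPolynomial σ k} {d : ℕ} (h : ∀ α ∈ p.support, d ≤ α.degree) :
    aeval y p ∈ I ^ d := by
  classical
  rw [p.as_sum, map_sum]
  refine Ideal.sum_mem _ fun α hα => ?_
  rw [aeval_monomial]
  refine Ideal.mul_mem_left _ _ (Ideal.pow_le_pow_right (h α hα) ?_)
  rw [Finsupp.degree_apply, Finsupp.prod, ← Finset.prod_pow_eq_pow_sum]
  exact Ideal.prod_mem_prod fun j _ => Ideal.pow_mem_pow (hy j) _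

theorem snd_aeval_dualNumber {σ : Type*} [Fintype σ] {A : Type*} [CommRing A] [Algebra k A]
    (y : σ → DualNumber A) (p : MvPolynomial σ k) :
    TrivSqZeroExt.snd (aeval y p) =
      ∑ j, aeval (fun i => TrivSqZeroExt.fst (y i)) (pderiv j p) * TrivSqZeroExt.snd (y j) := by
  classical
  have hfst : ∀ q : MvPolynomial σ k, TrivSqZeroExt.fst (aeval y q) =
      aeval (fun i => TrivSqZeroExt.fst (y i)) q := fun q =>
    congrArg (fun f : MvPolynomial σ k →ₐ[k] A => f q)
      (comp_aeval (f := y) (TrivSqZeroExt.fstHom k A A))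
  induction p using MvPolynomial.induction_on with
  | C a => simp [TrivSqZeroExt.algebraMap_eq_inl']
  | add p q hp hq => simp [hp, hq, add_mul, Finset.sum_add_distrib]
  | mul_X p i hp =>
    rw [map_mul, aeval_X, DualNumber.snd_mul, hp, hfst]
    simp only [Derivation.leibniz, map_add, smul_eq_mul, map_mul, aeval_X, pderiv_X, add_mul,
      Finset.sum_add_distrib, Finset.sum_mul]
    congr 1
    · rw [Finset.sum_eq_single i]
      · simp
      · intro j _ hj
        simp [Pi.single_eq_of_ne (Ne.symm hj)]
      · simp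
    · exact Finset.sum_congr rfl fun j _ => by ring

section Power

variable (R : CRing k k)

theorem exists_cotangent_gens : ∃ (n : ℕ) (x : Fin n → R.carrier),
    (∀ j, x j ∈ maximalIdeal R.carrier) ∧
      maximalIdeal R.carrier ≤ Ideal.span (Set.range x) ⊔ maximalIdeal R.carrier ^ 2 ∧
      ∀ i, ∃ φ : HomSet R.carrier R.res (dual k k), ∀ j,
        TrivSqZeroExt.snd (R := k) (M := k) (φ.1 (x j)) = if j = i then 1 else 0 := by
  classical
  let m := maximalIdeal R.carrier
  have hmem : ∀ a, a - algebraMap k R.carrier (R.res a) ∈ m := fun a => by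
    rw [CRing.mem_maximalIdeal_iff, map_sub, AlgHom.commutes]; simp
  have hres : Function.Surjective (algebraMap k (ResidueField R.carrier)) := fun z => by
    obtain ⟨a, rfl⟩ := residue_surjective (R := R.carrier) z
    refine ⟨R.res a, ?_⟩
    rw [IsScalarTower.algebraMap_apply k R.carrier (ResidueField R.carrier),
      ResidueField.algebraMap_eq, eq_comm, ← sub_eq_zero, ← map_sub, residue_eq_zero_iff]
    exact hmem a
  haveI : Module.Finite k (ResidueField R.carrier) :=
    Module.Finite.of_surjective (Algebra.linearMap k _) hres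
  haveI : IsScalarTower k (ResidueField R.carrier) (CotangentSpace R.carrier) :=
    IsScalarTower.of_algebraMap_smul fun c z => by
      rw [IsScalarTower.algebraMap_apply k R.carrier (ResidueField R.carrier), algebraMap_smul,
        algebraMap_smul]
  haveI : Module.Finite k (CotangentSpace R.carrier) :=
    Module.Finite.trans (ResidueField R.carrier) _
  let b := Module.finBasis k (CotangentSpace R.carrier)
  choose x hx using fun j => m.toCotangent_surjective (b j)
  refine ⟨_, fun j => (x j : R.carrier), fun j => (x j).2, fun a ha => ?_, fun i => ?_⟩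
  · let c := b.repr (m.toCotangent ⟨a, ha⟩)
    have e : m.toCotangent ⟨a, ha⟩ = m.toCotangent (∑ j, algebraMap k R.carrier (c j) • x j) := by
      rw [map_sum]
      refine (b.sum_repr _).symm.trans (Finset.sum_congr rfl fun j _ => ?_)
      rw [map_smul, hx, algebraMap_smul]
    have h2 := (Ideal.toCotangent_eq m).1 e
    refine Submodule.mem_sup.2 ⟨_, ?_, _, h2, add_sub_cancel _ _⟩
    simp only [AddSubmonoidClass.coe_finsetSum, SetLike.val_smul, smul_eq_mul]
    exact Ideal.sum_mem _ fun j _ => Ideal.mul_mem_left _ _ (Ideal.subset_span ⟨j, rfl⟩)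
  · obtain ⟨φ, ⟨hf, hs⟩, -⟩ := Groth.Agent.S12644.result k R.carrier hres (b.coord i)
    refine ⟨⟨φ, AlgHom.ext fun a => ?_⟩, fun j => ?_⟩
    · apply (algebraMap k (ResidueField R.carrier)).injective
      refine (hf a).trans ?_
      rw [IsScalarTower.algebraMap_apply k R.carrier (ResidueField R.carrier),
        ResidueField.algebraMap_eq, ← sub_eq_zero, ← map_sub, residue_eq_zero_iff]
      exact hmem a
    · refine (hs (x j)).trans ?_
      rw [hx j]
      simp [Finsupp.single_apply]

variable {R}

theorem exists_aeval_sub_mem {n : ℕ} {x : Fin n → R.carrier}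
    (hspan : maximalIdeal R.carrier ≤ Ideal.span (Set.range x) ⊔ maximalIdeal R.carrier ^ 2)
    (hx : ∀ j, x j ∈ maximalIdeal R.carrier) (N : ℕ) (a : R.carrier) :
    ∃ p : MvPolynomial (Fin n) k, a - aeval x p ∈ maximalIdeal R.carrier ^ N := by
  let m := maximalIdeal R.carrier
  have hmem : ∀ b, b - aeval x (C (R.res b) : MvPolynomial (Fin n) k) ∈ m := fun b => by
    rw [CRing.mem_maximalIdeal_iff, map_sub, aeval_C, AlgHom.commutes]; simp
  have h1 : ∀ b ∈ m, ∃ p : MvPolynomial (Fin n) k, aeval x p ∈ m ∧ b - aeval x p ∈ m ^ 2 := by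
    intro b hb
    obtain ⟨s, hs, t, ht, rfl⟩ := Submodule.mem_sup.1 (hspan hb)
    obtain ⟨c, rfl⟩ := (Submodule.mem_span_range_iff_exists_fun _).1 hs
    refine ⟨∑ j, C (R.res (c j)) * X j, ?_, ?_⟩
    · simp only [map_sum, map_mul, aeval_X]
      exact m.sum_mem fun j _ => m.mul_mem_left _ (hx j)
    · simp only [map_sum, map_mul, aeval_X, smul_eq_mul]
      rw [show ∑ j, c j * x j + t - ∑ j, aeval x (C (R.res (c j)) : MvPolynomial (Fin n) k) * x j =
        ∑ j, (c j - aeval x (C (R.res (c j)) : MvPolynomial (Fin n) k)) * x j + t by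
          simp only [sub_mul, Finset.sum_sub_distrib]; ring]
      refine Ideal.add_mem _ (Ideal.sum_mem _ fun j _ => ?_) ht
      rw [pow_two]
      exact Ideal.mul_mem_mul (hmem _) (hx j)
  have h2 : ∀ N, ∀ b ∈ m ^ N, ∃ p : MvPolynomial (Fin n) k, b - aeval x p ∈ m ^ (N + 1) := by
    intro N
    induction N with
    | zero =>
      intro b _
      exact ⟨C (R.res b), by rw [zero_add, pow_one]; exact hmem b⟩
    | succ N ih =>
      intro b hb
      rw [pow_succ] at hb
      refine Submodule.mul_induction_on hb (fun u hu v hv => ?_) fun u v ⟨p, hp⟩ ⟨q, hq⟩ => ?_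
      · obtain ⟨p, hp⟩ := ih u hu
        obtain ⟨q, hqm, hq⟩ := h1 v hv
        refine ⟨p * q, ?_⟩
        rw [map_mul, show u * v - aeval x p * aeval x q =
          (u - aeval x p) * aeval x q + u * (v - aeval x q) by ring]
        refine Ideal.add_mem _ ?_ ?_
        · rw [pow_succ]
          exact Ideal.mul_mem_mul hp hqm
        · rw [show N + 1 + 1 = N + 2 by ring, pow_add]
          exact Ideal.mul_mem_mul hu hq
      · exact ⟨p + q, by
          rw [map_add, show u + v - (aeval x p + aeval x q) = (u - aeval x p) + (v - aeval x q) by ring]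
          exact Ideal.add_mem _ hp hq⟩
  induction N with
  | zero => exact ⟨0, by simp⟩
  | succ N ih =>
    obtain ⟨p, hp⟩ := ih
    obtain ⟨q, hq⟩ := h2 N _ hp
    exact ⟨p + q, by rwa [map_add, ← sub_sub]⟩

theorem eq_zero_of_aeval_mem [CharZero k] {n : ℕ} {x : Fin n → R.carrier}
    (hx : ∀ j, x j ∈ maximalIdeal R.carrier)
    (hψ : ∀ (N : ℕ) (i : Fin n), ∃ ψ : R.carrier →ₐ[k] DualNumber (R.trunc N),
      (∀ a, TrivSqZeroExt.fst (ψ a) = (R.truncHom N).1 a) ∧
        ∀ j, (R.trunc N).res (TrivSqZeroExt.snd (ψ (x j))) = if j = i then 1 else 0) :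
    ∀ (d : ℕ) (p : MvPolynomial (Fin n) k), p.IsHomogeneous d →
      aeval x p ∈ maximalIdeal R.carrier ^ (d + 1) → p = 0 := by
  classical
  intro d
  induction d with
  | zero =>
    intro p hp he
    have hd := homogeneousComponent_eq_self hp
    rw [homogeneousComponent_zero] at hd
    rw [← hd] at he ⊢
    rw [zero_add, pow_one, CRing.mem_maximalIdeal_iff, aeval_C, AlgHom.commutes] at he
    rw [show coeff 0 p = 0 from he, map_zero]
  | succ d ih =>
    intro p hp he
    let A := R.trunc d
    let π := (R.truncHom d).1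
    let I := maximalIdeal A
    have hπI : ∀ a ∈ maximalIdeal R.carrier, π a ∈ I := fun a ha =>
      homSet_mem_maximalIdeal R (R.truncHom d) ha
    have hbot : I ^ (d + 1) ≤ ⊥ := by
      have : I ≤ (maximalIdeal R.carrier).map π := fun z hz => by
        obtain ⟨a, rfl⟩ := Ideal.Quotient.mk_surjective z
        refine Ideal.mem_map_of_mem π ((CRing.mem_maximalIdeal_iff R a).2 ?_)
        exact (mem_maximalIdeal_iff A _).1 hz
      refine (Ideal.pow_right_mono this _).trans ?_
      rw [← Ideal.map_pow]
      exact Ideal.map_le_iff_le_comap.2 fun a ha => Ideal.Quotient.eq_zero_iff_mem.2 ha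
    let q : Fin n → A := fun j => π (aeval x (pderiv j p))
    have hq : ∀ j, q j ∈ I ^ d := fun j => by
      have hh : ∀ α ∈ (pderiv j p).support, d ≤ α.degree := fun α hα => by
        have := (hp.pderiv (i := j)) (mem_support_iff.1 hα)
        simp only [Finsupp.weight_apply, Pi.one_apply, smul_eq_mul, mul_one] at this
        rw [Finsupp.degree]
        exact (Nat.add_sub_cancel d 1 ▸ this).ge
      have := Ideal.mem_map_of_mem π (aeval_mem_pow x _ hx hh)
      rw [Ideal.map_pow] at this
      exact Ideal.pow_right_mono (Ideal.map_le_iff_le_comap.2 hπI) _ this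
    have hzero : ∀ i, q i = 0 := fun i => by
      obtain ⟨ψ, hf, hs⟩ := hψ d i
      have h0 : TrivSqZeroExt.snd (ψ (aeval x p)) = 0 := by
        have main : ∀ N, ∀ a ∈ maximalIdeal R.carrier ^ (N + 1), TrivSqZeroExt.snd (ψ a) ∈ I ^ N := by
          intro N
          induction N with
          | zero => intro a _; simp
          | succ N ihN =>
            intro a ha
            rw [pow_succ] at ha
            refine Submodule.mul_induction_on ha (fun u hu v hv => ?_) fun u v hu hv => ?_
            · rw [map_mul, DualNumber.snd_mul]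
              refine Ideal.add_mem _ ?_ ?_
              · rw [hf]
                refine Ideal.mul_mem_right _ _ ?_
                have := Ideal.mem_map_of_mem π hu
                rw [Ideal.map_pow] at this
                exact Ideal.pow_right_mono (Ideal.map_le_iff_le_comap.2 hπI) _ this
              · rw [hf v, pow_succ]
                exact Ideal.mul_mem_mul (ihN u hu) (hπI v hv)
            · rw [map_add, TrivSqZeroExt.snd_add]
              exact Ideal.add_mem _ hu hv
        exact hbot (main (d + 1) _ he)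
      rw [comp_aeval_apply, snd_aeval_dualNumber] at h0
      have h3 : ∀ j, aeval (fun i => TrivSqZeroExt.fst (ψ (x i))) (pderiv j p) = q j := fun j => by
        simp only [hf]
        exact (comp_aeval_apply _ π _).symm
      simp only [h3] at h0
      have : q i = ∑ j, q j * ((if j = i then 1 else 0) - TrivSqZeroExt.snd (ψ (x j))) := by
        simp [mul_sub, Finset.sum_sub_distrib, h0]
      rw [this]
      refine hbot (Ideal.sum_mem _ fun j _ => ?_)
      rw [pow_succ]
      refine Ideal.mul_mem_mul (hq j) ?_
      rw [mem_maximalIdeal_iff, map_sub, hs]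
      split_ifs <;> simp
    have hd0 : ∀ i, pderiv i p = 0 := fun i => by
      refine ih _ (by simpa using hp.pderiv (i := i)) ?_
      exact Ideal.Quotient.eq_zero_iff_mem.1 (hzero i)
    have h := hp.sum_X_mul_pderiv
    simp only [hd0, mul_zero, Finset.sum_const_zero] at h
    rcases smul_eq_zero.1 h.symm with h | h
    · omega
    · exact h

theorem isSmoothFunctor_hR_of_derivations [CharZero k]
    (H : ∀ (N : ℕ) (φ : HomSet R.carrier R.res (dual k k)), ∃ ψ : R.carrier →ₐ[k] DualNumber (R.trunc N),
      (∀ a, TrivSqZeroExt.fst (ψ a) = (R.truncHom N).1 a) ∧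
        ∀ a, (R.trunc N).res (TrivSqZeroExt.snd (ψ a)) = TrivSqZeroExt.snd (R := k) (M := k) (φ.1 a)) :
    IsSmoothFunctor (hR R.carrier R.res) := by
  classical
  obtain ⟨n, x, hx, hspan, hφ⟩ := exists_cotangent_gens R
  choose φ hφ using hφ
  have key := eq_zero_of_aeval_mem hx fun N i => by
    obtain ⟨ψ, h₁, h₂⟩ := H N (φ i)
    exact ⟨ψ, h₁, fun j => (h₂ (x j)).trans (hφ i j)⟩
  intro B A μ hμ f
  let f' : HomSet R.carrier R.res A := f
  choose b hb using fun j => hμ (f'.1 (x j))
  let χ : MvPolynomial (Fin n) k →ₐ[k] B := aeval b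
  have hbm : ∀ j, b j ∈ maximalIdeal B := fun j => by
    rw [mem_maximalIdeal_iff, ← res_app μ, hb]
    exact (congrArg (fun g : R.carrier →ₐ[k] k => g (x j)) f'.2).trans
      ((CRing.mem_maximalIdeal_iff R _).1 (hx j))
  obtain ⟨N, hN⟩ := maximalIdeal_pow_eq_bot B
  obtain ⟨N', hN'⟩ := exists_mpow_le_ker R f'
  let M := max N N'
  let ev : MvPolynomial (Fin n) k →ₐ[k] R.trunc M := (R.truncHom M).1.comp (aeval x)
  have hev : Function.Surjective ev := fun z => by
    obtain ⟨a, rfl⟩ := Ideal.Quotient.mk_surjective z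
    obtain ⟨p, hp⟩ := exists_aeval_sub_mem hspan hx (M + 1) a
    exact ⟨p, (Ideal.Quotient.eq.2 hp).symm⟩
  have hker : RingHom.ker ev ≤ RingHom.ker χ := fun p hp => by
    have hp' : aeval x p ∈ maximalIdeal R.carrier ^ (M + 1) := Ideal.Quotient.eq_zero_iff_mem.1 hp
    have hcomp : ∀ d, d ≤ M → homogeneousComponent d p = 0 := by
      intro d
      induction d using Nat.strong_induction_on with
      | _ d ih =>
        intro hd
        refine key d _ (homogeneousComponent_isHomogeneous d p) ?_
        have hrest : aeval x (p - homogeneousComponent d p) ∈ maximalIdeal R.carrier ^ (d + 1) := by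
          refine aeval_mem_pow x _ hx fun α hα => ?_
          rw [mem_support_iff, coeff_sub, coeff_homogeneousComponent] at hα
          by_contra hlt
          rcases (Nat.lt_succ_iff.1 (not_le.1 hlt)).lt_or_eq with h | h
          · rw [if_neg h.ne, sub_zero] at hα
            have h0 := congrArg (coeff α) (ih _ h (h.le.trans hd))
            rw [coeff_homogeneousComponent, if_pos rfl, coeff_zero] at h0
            exact hα h0
          · rw [if_pos h, sub_self] at hα
            exact hα rfl
        rw [map_sub] at hrest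
        have := Submodule.sub_mem _ (Ideal.pow_le_pow_right (show d + 1 ≤ M + 1 by omega) hp') hrest
        simpa using this
    have : aeval b p ∈ maximalIdeal B ^ (N + 1) := by
      refine aeval_mem_pow b _ hbm fun α hα => ?_
      by_contra hlt
      have h0 := congrArg (coeff α) (hcomp α.degree (by omega))
      rw [coeff_homogeneousComponent, if_pos rfl, coeff_zero] at h0
      exact mem_support_iff.1 hα h0
    rwa [hN, Ideal.mem_bot] at this
  obtain ⟨l, hl⟩ := exists_algHom_factor hev χ hker
  have hμl : μ.toAlgHom.comp (l.comp (R.truncHom M).1) = f'.1 := AlgHom.ext fun a => by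
    obtain ⟨p, hp⟩ := exists_aeval_sub_mem hspan hx (M + 1) a
    have e1 : (R.truncHom M).1 a = ev p := Ideal.Quotient.eq.2 hp
    have e2 : f'.1 (a - aeval x p) = 0 :=
      hN' (Ideal.pow_le_pow_right (show N' + 1 ≤ M + 1 by omega) hp)
    rw [map_sub, sub_eq_zero] at e2
    change μ (l ((R.truncHom M).1 a)) = f'.1 a
    rw [e1, hl, e2]
    refine (comp_aeval_apply b μ.toAlgHom p).trans (Eq.trans ?_ (comp_aeval_apply x f'.1 p).symm)
    exact congrArg (fun y => aeval y p) (funext fun j => hb j)
  refine ⟨(⟨l.comp (R.truncHom M).1, ?_⟩ : HomSet R.carrier R.res B), Subtype.ext hμl⟩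
  rw [← μ.res_comp, AlgHom.comp_assoc, hμl, f'.2]

end Power

end Groth.Agent.ArtFunLib
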