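import Groth.Agent.ArtFunLib.LeastIdeal
import Groth.Agent.ArtFunLib.Smooth

/-!
Schlessinger's construction of a versal family.
-/

universe u v

open CategoryTheory

namespace Groth.Agent.ArtFunLib

open ArtFun ArtFun.Art IsLocalRing

variable {Λ k : Type u} [CommRing Λ] [Field k] [Algebra Λ k]

section Chevalley

/-- In a complete local Noetherian ring a decreasing sequence of ideals converges to its
intersection. -/
theorem exists_le_iInf_sup_pow (P : CRing Λ k) (J : ℕ → Ideal P.carrier) (hJ : Antitone J)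
    (N : ℕ) : ∃ n, J n ≤ (⨅ i, J i) ⊔ maximalIdeal P.carrier ^ N := by
  haveI := P.isAdicComplete
  let m := maximalIdeal P.carrier
  have stab : ∀ j, ∃ n, ∀ i, J n ⊔ m ^ (j + 1) ≤ J i ⊔ m ^ (j + 1) := by
    intro j
    let π : P.carrier →+* P.trunc j := Ideal.Quotient.mk (CRing.mpow P j)
    have hker : ∀ I : Ideal P.carrier, (I.map π).comap π = I ⊔ m ^ (j + 1) := fun I =>
      (Ideal.comap_map_of_surjective' (Ideal.Quotient.mk (CRing.mpow P j))
        Ideal.Quotient.mk_surjective I).trans (by rw [Ideal.mk_ker])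
    obtain ⟨n, hn⟩ := IsArtinian.monotone_stabilizes
      (⟨fun i => OrderDual.toDual ((J i).map π), fun a b hab => Ideal.map_mono (hJ hab)⟩ :
        ℕ →o (Ideal (P.trunc j))ᵒᵈ)
    refine ⟨n, fun i => ?_⟩
    rw [← hker, ← hker]
    refine Ideal.comap_mono ?_
    rcases le_total n i with h | h
    · exact le_of_eq (congrArg OrderDual.ofDual (hn i h) : (J n).map π = (J i).map π)
    · exact Ideal.map_mono (hJ h)
  choose n hn using stab
  let g : ℕ → ℕ := fun j => (Finset.range (j + 1)).sup n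
  have hg : ∀ j i, J (g j) ≤ J i ⊔ m ^ (j + 1) := fun j i => le_trans
    (le_trans (hJ (Finset.le_sup (Finset.self_mem_range_succ j))) le_sup_left) (hn j i)
  refine ⟨g N, fun a₀ ha₀ => ?_⟩
  have step : ∀ j (a : P.carrier), a ∈ J (g j) →
      ∃ b ∈ J (g (j + 1)), a - b ∈ m ^ (j + 1) := fun j a ha => by
    obtain ⟨b, hb, c, hc, rfl⟩ := Submodule.mem_sup.1 (hg j (g (j + 1)) ha)
    exact ⟨b, hb, by rwa [add_sub_cancel_left]⟩
  choose next hnext hdiff using step
  let w : ∀ i, {a : P.carrier // a ∈ J (g (N + i))} := fun i =>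
    Nat.rec ⟨a₀, ha₀⟩ (fun i a => ⟨next (N + i) a.1 a.2, hnext (N + i) a.1 a.2⟩) i
  have hd : ∀ a b, a ≤ b → (w a).1 - (w b).1 ∈ m ^ (N + a) := by
    intro a b hab
    induction b, hab using Nat.le_induction with
    | base => rw [sub_self]; exact zero_mem _
    | succ b hab ih =>
      have h1 : (w b).1 - (w (b + 1)).1 ∈ m ^ (N + b + 1) := hdiff (N + b) _ (w b).2
      have h2 := Ideal.pow_le_pow_right (show N + a ≤ N + b + 1 by omega) h1
      have := add_mem ih h2
      rwa [sub_add_sub_cancel] at this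
  obtain ⟨L, hL⟩ := IsPrecomplete.prec (I := m) (M := P.carrier) inferInstance
    (f := fun i => (w i).1) (fun {a b} hab => by
      rw [SModEq.sub_mem, smul_eq_mul, Ideal.mul_top]
      exact Ideal.pow_le_pow_right (Nat.le_add_left a N) (hd a b hab))
  have hLmem : L ∈ ⨅ i, J i := by
    rw [Ideal.mem_iInf]
    intro i
    have key : ∀ M, L ∈ J i ⊔ m ^ M := fun M => by
      have h1 := hL M
      rw [SModEq.sub_mem, smul_eq_mul, Ideal.mul_top] at h1
      have hle : J i ⊔ m ^ (N + M + 1) ≤ J i ⊔ m ^ M :=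
        sup_le_sup_left (Ideal.pow_le_pow_right (show M ≤ N + M + 1 by omega)) _
      have h2 : (w M).1 ∈ J i ⊔ m ^ M := hle (hg (N + M) i (w M).2)
      have := Submodule.sub_mem _ h2 (Submodule.mem_sup_right h1)
      rwa [sub_sub_cancel] at this
    rw [← Ideal.Quotient.eq_zero_iff_mem]
    refine IsHausdorff.haus (IsHausdorff.of_le_jacobson m (P.carrier ⧸ J i)
      (maximalIdeal_le_jacobson ⊥)) _ fun M => ?_
    rw [SModEq.zero]
    obtain ⟨b, hb, c, hc, e⟩ := Submodule.mem_sup.1 (key M)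
    rw [← e, map_add, Ideal.Quotient.eq_zero_iff_mem.2 hb, zero_add,
      ← Ideal.Quotient.algebraMap_eq, Algebra.algebraMap_eq_smul_one]
    exact Submodule.smul_mem_smul hc Submodule.mem_top
  have h0 : a₀ - L ∈ m ^ N := by
    have h1 := hL N
    rw [SModEq.sub_mem, smul_eq_mul, Ideal.mul_top] at h1
    have h2 := Ideal.pow_le_pow_right (Nat.le_add_right N 0) (hd 0 N (Nat.zero_le N))
    have := add_mem h2 h1
    rwa [sub_add_sub_cancel] at this
  exact Submodule.mem_sup.2 ⟨L, hLmem, a₀ - L, h0, by ring⟩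

end Chevalley

section Construction

variable {F : Art Λ k ⥤ Type v}

variable (F) in
/-- A stage of the construction: an Artinian quotient of `P` with an element of `F`. -/
structure Stage (P : CRing Λ k) where
  obj : Art Λ k
  proj : HomSet P.carrier P.res obj
  surj : Function.Surjective proj.1
  elt : F.obj obj

variable {P : CRing Λ k}

/-- The property defining the next stage. -/
def IsNext (s s' : Stage F P) : Prop :=
  (∃ ρ : s'.obj ⟶ s.obj, HomSet.map ρ s'.proj = s.proj ∧ F.map ρ s'.elt = s.elt) ∧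
  ∀ (D : Art Λ k) (w : HomSet P.carrier P.res D) (d : D ⟶ s.obj) (z : F.obj D),
    Function.Surjective w.1 → HomSet.map d w = s.proj →
    maximalIdeal P.carrier * RingHom.ker s.proj.1 ≤ RingHom.ker w.1 → F.map d z = s.elt →
    RingHom.ker s'.proj.1 ≤ RingHom.ker w.1

theorem ker_proj_le (s : Stage F P) : RingHom.ker s.proj.1 ≤ maximalIdeal P.carrier := fun a ha => by
  rw [CRing.mem_maximalIdeal_iff]
  exact (congrArg (fun f : P.carrier →ₐ[Λ] k => f a) s.proj.2).symm.trans
    ((congrArg s.obj.res ha).trans (map_zero _))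

theorem exists_hom_factor {E A : Art Λ k} {w : HomSet P.carrier P.res E}
    (hw : Function.Surjective w.1) (φ : HomSet P.carrier P.res A)
    (h : RingHom.ker w.1 ≤ RingHom.ker φ.1) : ∃ l : E ⟶ A, HomSet.map l w = φ := by
  obtain ⟨l, hl⟩ := exists_algHom_factor hw φ.1 h
  refine ⟨⟨l, AlgHom.ext fun x => ?_⟩, Subtype.ext (AlgHom.ext hl)⟩
  obtain ⟨a, rfl⟩ := hw x
  change A.res (l (w.1 a)) = E.res (w.1 a)
  rw [hl]
  exact (congrArg (fun f : P.carrier →ₐ[Λ] k => f a) φ.2).trans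
    (congrArg (fun f : P.carrier →ₐ[Λ] k => f a) w.2).symm

theorem exists_next (h1 : S1 F) (s : Stage F P) : ∃ s', IsNext s s' := by
  obtain ⟨N, hN⟩ := exists_mpow_le_ker P s.proj
  have hle : maximalIdeal P.carrier * RingHom.ker s.proj.1 ≤ RingHom.ker P.res := fun a ha =>
    (CRing.mem_maximalIdeal_iff P a).1 (Ideal.mul_le_right.trans (ker_proj_le s) ha)
  obtain ⟨E', π', hπ', hkπ, hres⟩ := exists_artQuot P.res_surjective
    (maximalIdeal P.carrier * RingHom.ker s.proj.1) hle (N + 2) (by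
      have hkm : RingHom.ker P.res = maximalIdeal P.carrier :=
        Ideal.ext fun a => ((CRing.mem_maximalIdeal_iff P a).trans RingHom.mem_ker.symm).symm
      rw [hkm, pow_succ']
      exact Ideal.mul_mono_right hN)
  let w' : HomSet P.carrier P.res E' := ⟨π', hres⟩
  obtain ⟨p, hp⟩ := exists_hom_factor (w := w') hπ' s.proj
    (le_of_eq_of_le hkπ Ideal.mul_le_right)
  have hpk : ∀ a, p (π' a) = s.proj.1 a := fun a =>
    congrArg (fun t : HomSet P.carrier P.res s.obj => t.1 a) hp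
  have hps : Function.Surjective p := fun x => by
    obtain ⟨a, rfl⟩ := s.surj x
    exact ⟨π' a, hpk a⟩
  have hsemi : IsSemismallExt p := by
    refine ⟨hps, le_bot_iff.1 (Ideal.mul_le.2 fun a ha b hb => ?_)⟩
    obtain ⟨a, rfl⟩ := hπ' a
    obtain ⟨b, rfl⟩ := hπ' b
    have ha' : a ∈ maximalIdeal P.carrier := by
      rw [CRing.mem_maximalIdeal_iff]
      rw [mem_maximalIdeal_iff] at ha
      rw [← ha]
      exact (congrArg (fun f : P.carrier →ₐ[Λ] k => f a) hres).symm
    have hb' : b ∈ RingHom.ker s.proj.1 := (hpk b).symm.trans hb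
    rw [Ideal.mem_bot, ← map_mul]
    exact (show a * b ∈ RingHom.ker π' by rw [hkπ]; exact Ideal.mul_mem_mul ha' hb')
  obtain ⟨J₀, hJ₀, hJ₀', ⟨y, hy⟩, hmin⟩ := exists_least_liftable h1 p hsemi s.elt
  refine ⟨⟨Art.quot E' J₀ hJ₀', HomSet.map (quotMk E' J₀ hJ₀') w',
      (quotMk_surjective E' J₀ hJ₀').comp hπ', y⟩,
    ⟨⟨quotFactor hJ₀' p hJ₀, Subtype.ext (AlgHom.ext fun a => hpk a), hy⟩, ?_⟩⟩
  intro D w d z hw hdw hkw hz
  obtain ⟨q, hq⟩ := exists_hom_factor (w := w') hπ' w (le_of_eq_of_le hkπ hkw)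
  have hqk : ∀ a, q (π' a) = w.1 a := fun a =>
    congrArg (fun t : HomSet P.carrier P.res D => t.1 a) hq
  have hqs : Function.Surjective q := fun x => by
    obtain ⟨a, rfl⟩ := hw x
    exact ⟨π' a, hqk a⟩
  have hqp : q ≫ d = p := hom_ext (AlgHom.ext fun x => by
    obtain ⟨a, rfl⟩ := hπ' x
    change d (q (π' a)) = p (π' a)
    rw [hqk, hpk]
    exact congrArg (fun t : HomSet P.carrier P.res s.obj => t.1 a) hdw)
  have hJ : RingHom.ker q.toAlgHom ≤ RingHom.ker p.toAlgHom := fun x hx => by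
    rw [← hqp]
    change d (q x) = 0
    rw [show q x = 0 from hx, map_zero]
  have hJ' := ker_le_maximalIdeal q
  obtain ⟨z', hz'⟩ := (map_bijective F _ (quotFactor_bijective hJ' q le_rfl hqs le_rfl)).2 z
  have := hmin _ hJ hJ' ⟨z', by
    have e : quotFactor hJ' p hJ = quotFactor hJ' q le_rfl ≫ d := hom_ext (AlgHom.ext fun x => by
      obtain ⟨x, rfl⟩ := Ideal.Quotient.mk_surjective x
      exact (congrArg (fun m : E' ⟶ s.obj => m x) hqp).symm)
    rw [e, ← map_map, hz', hz]⟩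
  intro a ha
  have h2 : π' a ∈ J₀ := Ideal.Quotient.eq_zero_iff_mem.1 ha
  exact (hqk a).symm.trans (this h2)

theorem exists_initial (h0 : H0 F) (h2 : Heps F) [TangentStr F] [IsNoetherianRing Λ]
    [Module.Finite Λ k] (h3 : Hfin F) :
    ∃ (E : Art Λ k) (x : F.obj E), ∀ θ : F.obj (dual Λ k), ∃ τ : E ⟶ dual Λ k, F.map τ x = θ := by
  classical
  haveI := h0.2
  have hlist : ∀ s : Finset (TangentSpace F), ∃ (E : Art Λ k) (x : F.obj E),
      ∀ θ ∈ s, ∃ τ : E ⟶ dual Λ k, F.map τ x = θ.val := by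
    intro s
    induction s using Finset.induction_on with
    | empty => exact ⟨base Λ k, h0.1.some, fun θ hθ => absurd hθ (by simp)⟩
    | @insert v s _ ih =>
      obtain ⟨E, x, hx⟩ := ih
      obtain ⟨E', p', p'', hP⟩ := exists_isFibreProd (toBase E) (toBase (dual Λ k))
        (dual Λ k).res_surjective
      obtain ⟨x', hx', hv⟩ := (cmp_surj_iff F hP).1 (h2 _ _ hP).2 x v.val (Subsingleton.elim _ _)
      refine ⟨E', x', fun θ hθ => ?_⟩
      rcases Finset.mem_insert.1 hθ with rfl | hθ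
      · exact ⟨p'', hv⟩
      · obtain ⟨τ, hτ⟩ := hx θ hθ
        exact ⟨p' ≫ τ, by rw [← map_map, hx', hτ]⟩
  obtain ⟨s, hs⟩ := (h3 : Module.Finite k (TangentSpace F)).fg_top
  obtain ⟨E, x, hx⟩ := hlist s
  refine ⟨E, x, fun θ => ?_⟩
  have : TangentSpace.mk θ ∈ Submodule.span k (s : Set (TangentSpace F)) := hs ▸ Submodule.mem_top
  suffices H : ∀ θ' ∈ Submodule.span k (s : Set (TangentSpace F)),
      ∃ τ : E ⟶ dual Λ k, F.map τ x = θ'.val from H _ this
  intro θ' hθ'
  induction hθ' using Submodule.span_induction with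
  | mem c hc => exact hx c hc
  | zero =>
    refine ⟨toBase E ≫ baseToDual, ?_⟩
    rw [← map_map]
    exact tangentStr_zero' F _
  | add a b _ _ ha hb =>
    obtain ⟨τ₁, e₁⟩ := ha
    obtain ⟨τ₂, e₂⟩ := hb
    obtain ⟨w, hw₁, hw₂, -⟩ := exists_pair τ₁ τ₂
    refine ⟨w ≫ plus, ?_⟩
    have h := tangentStr_add F (F.map w x)
    rw [map_map F w pr₁, hw₁, e₁, map_map F w pr₂, hw₂, e₂, map_map F w plus] at h
    exact h.symm
  | smul c a _ ha =>
    obtain ⟨τ, e⟩ := ha
    refine ⟨τ ≫ scale c, ?_⟩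
    rw [← map_map, e]
    exact (tangentStr_smul F c a.val).symm

theorem hasVersal_of_s1_heps_hfin [IsNoetherianRing Λ] [Module.Finite Λ k] [TangentStr F]
    (h0 : H0 F) (h1 : S1 F) (h2 : Heps F) (h3 : Hfin F) : HasVersal F := by
  classical
  haveI := h0.2
  obtain ⟨E, x, hx⟩ := exists_initial h0 h2 h3
  haveI := module_finite E
  obtain ⟨sE, hsE⟩ := Module.Finite.fg_top (R := Λ) (M := E)
  let πQ : MvPolynomial sE Λ →ₐ[Λ] E := MvPolynomial.aeval fun i => (i : E)
  have hπQ : Function.Surjective πQ := fun y => by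
    have : y ∈ Submodule.span Λ (sE : Set E) := hsE ▸ Submodule.mem_top
    induction this using Submodule.span_induction with
    | mem c hc => exact ⟨MvPolynomial.X ⟨c, hc⟩, MvPolynomial.aeval_X _ _⟩
    | zero => exact ⟨0, map_zero πQ⟩
    | add a b _ _ ha hb =>
      obtain ⟨l₁, e₁⟩ := ha
      obtain ⟨l₂, e₂⟩ := hb
      exact ⟨l₁ + l₂, by rw [map_add, e₁, e₂]⟩
    | smul c a _ ha =>
      obtain ⟨l, e₁⟩ := ha
      exact ⟨c • l, by rw [map_smul, e₁]⟩
  have hresQ : Function.Surjective (E.res.comp πQ) := E.res_surjective.comp hπQ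
  obtain ⟨P, ι, hι⟩ := exists_dense hresQ
  have hPs : IsSmoothFunctor (hR P.carrier P.res) :=
    hι.isSmoothFunctor (isSmoothFunctor_hR_mvPolynomial _)
  obtain ⟨π₀, hπ₀⟩ := hι.exists_extend (⟨πQ, rfl⟩ : HomSet _ (E.res.comp πQ) E)
  let s₀ : Stage F P := ⟨E, π₀, fun y => by
    obtain ⟨q, hq⟩ := hπQ y
    exact ⟨ι q, (congrArg (fun f : MvPolynomial sE Λ →ₐ[Λ] E => f q) hπ₀).trans hq⟩, x⟩
  choose next hnext using fun s => exists_next (P := P) h1 s
  let st : ℕ → Stage F P := fun n => Nat.rec s₀ (fun _ s => next s) n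
  have hst : ∀ n, IsNext (st n) (st (n + 1)) := fun n => hnext (st n)
  let J : ℕ → Ideal P.carrier := fun n => RingHom.ker (st n).proj.1
  have hanti : Antitone J := antitone_nat_of_succ_le fun n a ha => by
    obtain ⟨ρ, hρ, -⟩ := (hst n).1
    change (st n).proj.1 a = 0
    rw [← hρ]
    change ρ ((st (n + 1)).proj.1 a) = 0
    rw [show (st (n + 1)).proj.1 a = 0 from ha, map_zero]
  obtain ⟨R, πR, hπR, hπRs, hπRk⟩ := exists_quot P (⨅ i, J i)
    ((iInf_le J 0).trans (ker_proj_le (st 0)))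
  have hfac : ∀ {A : Art Λ k} (φ : HomSet R.carrier R.res A), ∃ n,
      J n ≤ RingHom.ker (φ.1.comp πR) := fun {A} φ => by
    obtain ⟨N, hN⟩ := exists_mpow_le_ker P (⟨φ.1.comp πR,
      by rw [← AlgHom.comp_assoc, φ.2, hπR]⟩ : HomSet P.carrier P.res A)
    obtain ⟨n, hn⟩ := exists_le_iInf_sup_pow P J hanti (N + 1)
    refine ⟨n, hn.trans (sup_le ?_ hN)⟩
    rw [← hπRk]
    intro a ha
    change φ.1 (πR a) = 0
    rw [show πR a = 0 from ha, map_zero]
  have hproj : ∀ n, ∃ σ : HomSet R.carrier R.res (st n).obj,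
      σ.1.comp πR = (st n).proj.1 := fun n => by
    obtain ⟨l, hl⟩ := exists_algHom_factor hπRs (st n).proj.1 (hπRk.le.trans (iInf_le J n))
    refine ⟨⟨l, AlgHom.ext fun r => ?_⟩, AlgHom.ext hl⟩
    obtain ⟨a, rfl⟩ := hπRs r
    change (st n).obj.res (l (πR a)) = R.res (πR a)
    rw [hl]
    exact (congrArg (fun f : P.carrier →ₐ[Λ] k => f a) (st n).proj.2).trans
      (congrArg (fun f : P.carrier →ₐ[Λ] k => f a) hπR).symm
  choose σ hσ using hproj
  have hσs : ∀ n, Function.Surjective (σ n).1 := fun n y => by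
    obtain ⟨a, rfl⟩ := (st n).surj y
    exact ⟨πR a, congrArg (fun f : P.carrier →ₐ[Λ] (st n).obj => f a) (hσ n)⟩
  have hcompat : ∀ n m, n ≤ m → ∃ ρ : (st m).obj ⟶ (st n).obj,
      HomSet.map ρ (σ m) = σ n ∧ F.map ρ (st m).elt = (st n).elt := by
    intro n m hnm
    induction m, hnm using Nat.le_induction with
    | base => exact ⟨𝟙 _, Subtype.ext (AlgHom.ext fun _ => rfl), map_id_app F _⟩
    | succ m _ ih =>
      obtain ⟨ρ, hρ, hρ'⟩ := ih
      obtain ⟨ρ₁, h₁, h₁'⟩ := (hst m).1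
      have hσρ : HomSet.map ρ₁ (σ (m + 1)) = σ m := Subtype.ext (AlgHom.ext fun r => by
        obtain ⟨a, rfl⟩ := hπRs r
        exact (congrArg ρ₁.toAlgHom
            (congrArg (fun f : P.carrier →ₐ[Λ] _ => f a) (hσ (m + 1)))).trans
          ((congrArg (fun t : HomSet P.carrier P.res _ => t.1 a) h₁).trans
            (congrArg (fun f : P.carrier →ₐ[Λ] _ => f a) (hσ m)).symm))
      refine ⟨ρ₁ ≫ ρ, ?_, by rw [← map_map, h₁', hρ']⟩
      rw [← hρ, ← hσρ]
      exact Subtype.ext (AlgHom.ext fun _ => rfl)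
  have hev : ∀ {A : Art Λ k} (φ : HomSet R.carrier R.res A),
      ∃ (n : ℕ) (g : (st n).obj ⟶ A), HomSet.map g (σ n) = φ := fun {A} φ => by
    obtain ⟨n, hn⟩ := hfac φ
    let φP : HomSet P.carrier P.res A := ⟨φ.1.comp πR, by rw [← AlgHom.comp_assoc, φ.2, hπR]⟩
    obtain ⟨g, hg⟩ := exists_hom_factor (st n).surj φP hn
    refine ⟨n, g, Subtype.ext (AlgHom.ext fun r => ?_)⟩
    obtain ⟨a, rfl⟩ := hπRs r
    exact (congrArg g.toAlgHom (congrArg (fun f : P.carrier →ₐ[Λ] _ => f a) (hσ n))).trans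
      (congrArg (fun t : HomSet P.carrier P.res A => t.1 a) hg)
  have huniq : ∀ {A : Art Λ k} (n m : ℕ) (g : (st n).obj ⟶ A) (g' : (st m).obj ⟶ A),
      HomSet.map g (σ n) = HomSet.map g' (σ m) → F.map g (st n).elt = F.map g' (st m).elt := by
    intro A n m g g' h
    obtain ⟨ρ, hρ, hρ'⟩ := hcompat n (max n m) (le_max_left _ _)
    obtain ⟨ρ', hρm, hρm'⟩ := hcompat m (max n m) (le_max_right _ _)
    rw [← hρ', ← hρm', map_map, map_map]
    congr 3
    rw [← hρ, ← hρm] at h
    refine hom_ext (AlgHom.ext fun y => ?_)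
    obtain ⟨r, rfl⟩ := hσs (max n m) y
    exact congrArg (fun t : HomSet R.carrier R.res A => t.1 r) h
  choose idx fac hidx using @hev
  let ξ : Family R.carrier R.res F :=
    { app := fun A φ => F.map (fac φ) (st (idx φ)).elt
      natural := fun {A B} f φ => by
        rw [map_map]
        refine huniq _ _ _ _ ((hidx _).trans ?_)
        conv_lhs => rw [← hidx φ]
        exact Subtype.ext (AlgHom.ext fun _ => rfl) }
  have hξ : ∀ {A : Art Λ k} (n : ℕ) (g : (st n).obj ⟶ A),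
      ξ.app A (HomSet.map g (σ n)) = F.map g (st n).elt := fun {A} n g =>
    huniq _ _ _ _ (hidx _)
  refine ⟨⟨R, ξ, isVersal_of_smallExt ξ fun B A μ hμ => ?_⟩⟩
  haveI : Subsingleton ((hR R.carrier R.res).obj (base Λ k)) := (h0_hR _ _).2
  refine lifts_of_tangent_surjective (NatFam.ofFamily ξ)
    (fun _ _ _ _ h => isLeftExact_hR _ _ _ _ _ _ h) (hbar_of_s1 F h1) h2 ?_ μ hμ ?_
  · intro θ
    obtain ⟨τ, hτ⟩ := hx θ
    exact ⟨HomSet.map τ (σ 0), (hξ 0 τ).trans hτ⟩
  · intro φ y hy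
    let φ' : HomSet R.carrier R.res A := φ
    obtain ⟨n, g, hg⟩ : ∃ n g, HomSet.map g (σ n) = φ' := ⟨idx φ', fac φ', hidx φ'⟩
    have hy' : F.map μ y = F.map g (st n).elt := by
      rw [hy, ← hξ, hg]
      rfl
    obtain ⟨D, d, d', hD⟩ := exists_isFibreProd g μ hμ.1
    obtain ⟨z, hz, hz'⟩ := (cmp_surj_iff F hD).1 (h1 _ _ _ _ hD hμ.1) (st n).elt y hy'.symm
    have hd := isSmallExt_fst hD hμ
    obtain ⟨w, hw⟩ := hPs d hd.1 (st n).proj
    let w' : HomSet P.carrier P.res D := w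
    have hdw : ∀ a, d (w'.1 a) = (st n).proj.1 a := fun a =>
      congrArg (fun t : HomSet P.carrier P.res _ => t.1 a) hw
    suffices H : ∃ (m : ℕ) (l : (st m).obj ⟶ D), HomSet.map (l ≫ d) (σ m) = σ n by
      obtain ⟨m, l, hl⟩ := H
      refine ⟨HomSet.map (l ≫ d') (σ m), ?_⟩
      change HomSet.map μ _ = φ'
      rw [← hg, ← hl]
      refine Subtype.ext (AlgHom.ext fun r => ?_)
      exact (hD.w_apply (l ((σ m).1 r))).symm
    by_cases hs : Function.Surjective w'.1
    · have hkill : maximalIdeal P.carrier * RingHom.ker (st n).proj.1 ≤ RingHom.ker w'.1 := by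
        refine Ideal.mul_le.2 fun a ha b hb => ?_
        have h1' : w'.1 a * w'.1 b ∈ maximalIdeal D * RingHom.ker d.toAlgHom :=
          Ideal.mul_mem_mul (homSet_mem_maximalIdeal P w' ha) ((hdw b).trans hb)
        rw [hd.2.2.2, Ideal.mem_bot, ← map_mul] at h1'
        exact h1'
      obtain ⟨l, hl⟩ := exists_hom_factor (st (n + 1)).surj w'
        ((hst n).2 D w' d z hs hw hkill hz)
      refine ⟨n + 1, l, Subtype.ext (AlgHom.ext fun r => ?_)⟩
      obtain ⟨a, rfl⟩ := hπRs r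
      have e₁ : (σ (n + 1)).1 (πR a) = (st (n + 1)).proj.1 a :=
        congrArg (fun f : P.carrier →ₐ[Λ] _ => f a) (hσ (n + 1))
      have e₂ : (σ n).1 (πR a) = (st n).proj.1 a :=
        congrArg (fun f : P.carrier →ₐ[Λ] _ => f a) (hσ n)
      change d (l ((σ (n + 1)).1 (πR a))) = (σ n).1 (πR a)
      rw [e₁, e₂, ← hdw]
      exact congrArg d.toAlgHom (congrArg (fun t : HomSet P.carrier P.res D => t.1 a) hl)
    · have hker : RingHom.ker (st n).proj.1 ≤ RingHom.ker w'.1 := by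
        intro b hb
        by_contra hb0
        apply hs
        obtain ⟨t, ht, ht0, htm⟩ := exists_generator hd
        have hbk : w'.1 b ∈ RingHom.ker d.toAlgHom := (hdw b).trans hb
        rw [ht, Ideal.mem_span_singleton'] at hbk
        obtain ⟨c, hc⟩ := hbk
        have hcu : IsUnit c := notMem_maximalIdeal.1 fun hmem => hb0 (by
          change w'.1 b = 0
          rw [← hc, htm c hmem])
        intro e
        obtain ⟨a, ha⟩ := (st n).surj (d e)
        have he : e - w'.1 a ∈ RingHom.ker d.toAlgHom := by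
          change d (e - w'.1 a) = 0
          rw [map_sub, hdw, ha, sub_self]
        rw [ht, Ideal.mem_span_singleton'] at he
        obtain ⟨c', hc'⟩ := he
        obtain ⟨r, hr⟩ := P.res_surjective (D.res c' / D.res c)
        refine ⟨a + r * b, ?_⟩
        have hr' : D.res (w'.1 r) = P.res r :=
          congrArg (fun f : P.carrier →ₐ[Λ] k => f r) w'.2
        have hzero : (w'.1 r * c - c') * t = 0 := htm _ (by
          rw [mem_maximalIdeal_iff, map_sub, map_mul, hr', hr,
            div_mul_cancel₀ _ ((hcu.map D.res).ne_zero), sub_self])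
        rw [map_add, map_mul, ← hc]
        linear_combination hzero + hc'
      obtain ⟨l, hl⟩ := exists_hom_factor (st n).surj w' hker
      refine ⟨n, l, Subtype.ext (AlgHom.ext fun r => ?_)⟩
      obtain ⟨a, rfl⟩ := hπRs r
      have e₂ : (σ n).1 (πR a) = (st n).proj.1 a :=
        congrArg (fun f : P.carrier →ₐ[Λ] _ => f a) (hσ n)
      change d (l ((σ n).1 (πR a))) = (σ n).1 (πR a)
      conv_rhs => rw [e₂, ← hdw]
      rw [e₂]
      exact congrArg d.toAlgHom (congrArg (fun t : HomSet P.carrier P.res D => t.1 a) hl)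

end Construction

end Groth.Agent.ArtFunLib
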